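import Groth.Agent.Lib.ShStab.HilbPoly
import Groth.Agent.Lib.Abelian.SubobjectQuot
import Groth.Agent.Lib.CohBasics.Closure
import Groth.Agent.Lib.Modules.AffineSections
import Mathlib.Data.DFinsupp.WellFounded

/-!
# The lattice of coherent submodules and their Hilbert polynomials
-/

set_option autoImplicit false
universe u

open CategoryTheory CategoryTheory.Limits AlgebraicGeometry TopologicalSpace

noncomputable section

namespace Groth.Agent.Lib.ShStab.SubLattice

open Groth.Agent.Lib AR Abelian.SubobjectQuot TensorMod.Basic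

attribute [local instance] CategoryTheory.Abelian.hasFiniteBiproducts

variable {X : Scheme.{u}} {E : X.Modules}

section Closure

/-- Isomorphism invariance. -/
theorem isCoh_iso {M N : X.Modules} (e : M ≅ N) (h : Coh.IsCoh M) : Coh.IsCoh N :=
  CohBasics.Closure.isCoh_of_iso e h

theorem isCoh_imageSubobject {M : X.Modules} (f : M ⟶ E) (hM : Coh.IsQCoh M) (hE : Coh.IsCoh E)
    [IsLocallyNoetherian X] : Coh.IsCoh (imageSubobject f : X.Modules) :=
  isCoh_iso ((CategoryTheory.Abelian.imageIsoImage f) ≪≫ (imageSubobjectIso f).symm)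
    (CohBasics.Closure.isCoh_image f hM hE)

variable [IsLocallyNoetherian X]

theorem isCoh_bot (hE : Coh.IsCoh E) : Coh.IsCoh ((⊥ : Subobject E) : X.Modules) := by
  haveI : IsZero ((⊥ : Subobject E) : X.Modules) :=
    IsZero.of_mono_eq_zero _ Subobject.bot_arrow
  exact isCoh_iso ((isZero_kernel_of_mono (𝟙 E)).iso this)
    (CohBasics.Closure.isCoh_kernel (𝟙 E) hE hE.1)

theorem isCoh_top (hE : Coh.IsCoh E) : Coh.IsCoh ((⊤ : Subobject E) : X.Modules) :=
  isCoh_iso (asIso (⊤ : Subobject E).arrow).symm hE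

theorem isCoh_sup (hE : Coh.IsCoh E) {A B : Subobject E} (hA : Coh.IsCoh (A : X.Modules))
    (hB : Coh.IsCoh (B : X.Modules)) : Coh.IsCoh ((A ⊔ B : Subobject E) : X.Modules) := by
  have h : imageSubobject (biprod.desc A.arrow B.arrow) = A ⊔ B := by
    refine le_antisymm ?_ ?_
    on_goal 1 =>
      conv_rhs => rw [← Subobject.mk_arrow (A ⊔ B), ← imageSubobject_mono (A ⊔ B).arrow]
      refine (imageSubobject_le_iff _ _).2 ?_
    · rw [biprod.desc_eq]
      exact ((ImLE.self_comp _ _).trans ((subobject_le_iff _ _).1 le_sup_left)).add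
        ((ImLE.self_comp _ _).trans ((subobject_le_iff _ _).1 le_sup_right))
    · rw [subobject_le_iff]
      exact (imLE_sup A B).trans
        (ImLE.of_eq (factorThruImageSubobject _) (imageSubobject_arrow_comp _).symm)
  exact h ▸ isCoh_imageSubobject _ (CohBasics.Closure.isCoh_biprod hA hB).1 hE

theorem isCoh_inf (hE : Coh.IsCoh E) {A B : Subobject E} (hA : Coh.IsCoh (A : X.Modules))
    (hB : Coh.IsCoh (B : X.Modules)) : Coh.IsCoh ((A ⊓ B : Subobject E) : X.Modules) := by
  have h := CohBasics.Closure.isCoh_pullback A.arrow B.arrow hA hB hE.1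
  let C := Subobject.mk (pullback.fst A.arrow B.arrow ≫ A.arrow)
  have hC : C = A ⊓ B := by
    refine le_antisymm (le_inf (Subobject.mk_le_of_comm (pullback.fst _ _) rfl)
      (Subobject.mk_le_of_comm (pullback.snd _ _) pullback.condition.symm)) ?_
    refine Subobject.le_mk_of_comm (pullback.lift (Subobject.ofLE _ _ inf_le_left)
      (Subobject.ofLE _ _ inf_le_right) (by simp)) ?_
    rw [pullback.lift_fst_assoc, Subobject.ofLE_arrow]
  exact hC ▸ isCoh_iso (Subobject.underlyingIso _).symm h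

end Closure

/-- The coherent submodules of a coherent module. -/
@[nolint unusedArguments]
def CSub (_hE : Coh.IsCoh E) : Type _ := {A : Subobject E // Coh.IsCoh (A : X.Modules)}

variable [IsNoetherian X] {hE : Coh.IsCoh E}

instance : Lattice (CSub hE) :=
  Subtype.lattice (fun _ _ hA hB => isCoh_sup hE hA hB) (fun _ _ hA hB => isCoh_inf hE hA hB)

instance : BoundedOrder (CSub hE) where
  top := ⟨⊤, isCoh_top hE⟩
  bot := ⟨⊥, isCoh_bot hE⟩
  le_top A := (le_top : A.1 ≤ ⊤)
  bot_le A := (bot_le : ⊥ ≤ A.1)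

theorem val_sup (A B : CSub hE) : (A ⊔ B).1 = A.1 ⊔ B.1 := rfl
theorem val_inf (A B : CSub hE) : (A ⊓ B).1 = A.1 ⊓ B.1 := rfl

/-- The sections of a submodule on an open. -/
def secs (A : Subobject E) (U : X.Opens) : Submodule Γ(X, U) Γ(E, U) :=
  LinearMap.range (CohBasics.Affine.secₗ A.arrow U)

omit [AlgebraicGeometry.IsNoetherian X] in
theorem secs_mono {A B : Subobject E} (h : A ≤ B) (U : X.Opens) : secs A U ≤ secs B U := by
  rintro _ ⟨a, rfl⟩
  refine ⟨(Subobject.ofLE A B h).app U a, ?_⟩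
  have := congrArg (fun φ : (A : X.Modules) ⟶ E => φ.app U a) (Subobject.ofLE_arrow h)
  exact this

theorem le_of_secs_le {A B : CSub hE} (h : A.1 ≤ B.1) {ι : Type*} (U : ι → X.Opens)
    (hU : ∀ i, IsAffineOpen (U i)) (hcov : ∀ x : X, ∃ i, x ∈ U i)
    (hs : ∀ i, secs B.1 (U i) ≤ secs A.1 (U i)) : B.1 ≤ A.1 := by
  haveI := B.2.1
  haveI := (CohBasics.Closure.isCoh_cokernel (Subobject.ofLE A.1 B.1 h) A.2.1 B.2).1
  refine le_of_π_eq_zero h ((IsZero.of_iso ?_ (Iso.refl _)).eq_of_tgt _ _)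
  refine Modules.AffineSections.isZero_of_sections fun x => ?_
  obtain ⟨i, hi⟩ := hcov x
  refine ⟨U i, hU i, hi, subsingleton_of_forall_eq 0 fun c => ?_⟩
  obtain ⟨b, rfl⟩ := QCoh.Closure.sections_surjective_of_epi
    (cokernel.π (Subobject.ofLE A.1 B.1 h)) (hU i) c
  obtain ⟨a, ha⟩ := hs i ⟨b, rfl⟩
  have h2 : B.1.arrow.app (U i) ((Subobject.ofLE A.1 B.1 h).app (U i) a) = B.1.arrow.app (U i) b :=
    (congrArg (fun φ : (A.1 : X.Modules) ⟶ E => φ.app (U i) a) (Subobject.ofLE_arrow h)).trans ha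
  rw [← QCoh.Closure.sections_injective_of_mono B.1.arrow (U i) h2]
  exact (congrArg (fun φ : (A.1 : X.Modules) ⟶ cokernel (Subobject.ofLE A.1 B.1 h) => φ.app (U i) a)
    (cokernel.condition (Subobject.ofLE A.1 B.1 h))).trans rfl

instance : WellFoundedGT (CSub hE) := by
  obtain ⟨t, ht⟩ := isCompact_univ.elim_finite_subcover (fun V : X.affineOpens => (V.1 : Set X))
    (fun V => V.1.isOpen) fun y _ => by
      obtain ⟨V, hV, hyV, -⟩ := exists_isAffineOpen_mem_and_subset (X := X) (x := y) (U := ⊤) trivial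
      exact Set.mem_iUnion.2 ⟨⟨V, hV⟩, hyV⟩
  haveI : ∀ i : t, WellFoundedGT (Submodule Γ(X, i.1.1) Γ(E, i.1.1)) := fun i => by
    haveI := IsLocallyNoetherian.component_noetherian (X := X) i.1
    haveI := CohBasics.Closure.finite_sections hE i.1.2
    exact isNoetherian_iff'.1 inferInstance
  haveI : ∀ i : t, WellFoundedLT (Submodule Γ(X, i.1.1) Γ(E, i.1.1))ᵒᵈ := fun i => inferInstance
  let Φ : (CSub hE)ᵒᵈ → ((i : t) → (Submodule Γ(X, i.1.1) Γ(E, i.1.1))ᵒᵈ) :=
    fun A i => OrderDual.toDual (secs (OrderDual.ofDual A).1 i.1.1)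
  have hmono : Monotone Φ := fun A B h i => secs_mono (OrderDual.ofDual_le_ofDual.2 h) _
  have hstrict : StrictMono Φ := fun A B hAB => by
    refine lt_of_le_of_ne (hmono hAB.le) fun e => hAB.not_ge ?_
    refine le_of_secs_le (A := OrderDual.ofDual B) (B := OrderDual.ofDual A)
      (OrderDual.ofDual_le_ofDual.2 hAB.le) (fun i : t => i.1.1) (fun i => i.1.2) (fun x => ?_)
      fun i => ?_
    · obtain ⟨V, hV, hx⟩ := Set.mem_iUnion₂.1 (ht (Set.mem_univ x))
      exact ⟨⟨V, hV⟩, hx⟩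
    · exact ge_of_eq (show secs (OrderDual.ofDual A).1 i.1.1 = secs (OrderDual.ofDual B).1 i.1.1 from congrArg OrderDual.ofDual (congrFun e i)).symm
  exact ⟨(hstrict.wellFoundedLT).wf⟩

section HP

variable (k : Type u) [Field k] [X.Over (Spec (CommRingCat.of k))] (L : X.Modules)

open Classical in
/-- The Hilbert polynomial, zero when there is none. -/
def hp (G : X.Modules) : Polynomial ℚ :=
  if h : ∃ P, ShStab.IsHilbPoly k X L G P then h.choose else 0

omit [AlgebraicGeometry.IsNoetherian X] in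
theorem hp_eq {G : X.Modules} {P : Polynomial ℚ} (h : ShStab.IsHilbPoly k X L G P) :
    hp k L G = P := by
  rw [hp, dif_pos ⟨P, h⟩]
  exact HilbPoly.eq_of_isHilbPoly (Exists.choose_spec (⟨P, h⟩ : ∃ Q, ShStab.IsHilbPoly k X L G Q)) h

variable [IsProper (X ↘ Spec (CommRingCat.of k))] {L}

variable (hL : CohB1.IsAmple L)
include hL

omit [AlgebraicGeometry.IsNoetherian X] in
theorem isHilbPoly_hp {G : X.Modules} (hG : Coh.IsCoh G) :
    ShStab.IsHilbPoly k X L G (hp k L G) := by
  obtain ⟨d, hd⟩ := Snapper.DimBound.exists_dim_bound k X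
  obtain ⟨P, hP, -⟩ := HilbPoly.exists_hilbPoly (k := k) (Ample.Pow.isAmple_iff.1 hL).1 hG d
    (Topology.IsInducing.subtypeVal.topologicalKrullDim_le.trans hd)
  rw [hp_eq k L hP]
  exact hP

theorem hp_add {S : ShortComplex X.Modules} (hS : S.ShortExact) (h1 : Coh.IsCoh S.X₁)
    (h2 : Coh.IsCoh S.X₂) (h3 : Coh.IsCoh S.X₃) :
    hp k L S.X₂ = hp k L S.X₁ + hp k L S.X₃ := by
  refine hp_eq k L fun m => ?_
  obtain ⟨d, hd⟩ := Snapper.DimBound.exists_dim_bound k X
  have hM := TensorMod.Invertible.isInvertible_tensorPow (Ample.Pow.isAmple_iff.1 hL).1 m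
  have h := Snapper.Chi.eulerCharLE_add (Snapper.Finite.cohFinite k X) hd
    (Snapper.Twist.twistSeq_shortExact hM hS) (Snapper.Twist.isCoh_twist hM h1)
    (Snapper.Twist.isCoh_twist hM h2) (Snapper.Twist.isCoh_twist hM h3)
  have e : ∀ G : X.Modules, FGA.eulerCharLE k X (CohB1.tensorMod (CohB1.tensorPow L m) G) d =
      Curv2.euler k X (ShStab.twist X L G m) := fun G => by
    rw [Snapper.Chi.euler_eq_eulerCharLE hd]
    exact Snapper.Chi.eulerCharLE_of_iso (comm _ _) d
  simp only [Snapper.Twist.twistSeq] at h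
  rw [e, e, e] at h
  rw [h, Int.cast_add, Polynomial.eval_add, isHilbPoly_hp k hL h1 m, isHilbPoly_hp k hL h3 m]

omit [AlgebraicGeometry.IsNoetherian X] in
theorem hp_iso {G G' : X.Modules} (e : G ≅ G') (hG : Coh.IsCoh G) : hp k L G' = hp k L G := by
  refine hp_eq k L fun m => ?_
  obtain ⟨d, hd⟩ := Snapper.DimBound.exists_dim_bound k X
  haveI := Curves.GlobalSections.isNoetherian_of_proper k X
  rw [← isHilbPoly_hp k hL hG m, Snapper.Chi.euler_eq_eulerCharLE hd, Snapper.Chi.euler_eq_eulerCharLE hd]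
  exact congrArg _ (Snapper.Chi.eulerCharLE_of_iso (tensorIso e.symm (Iso.refl _)) d)

omit [AlgebraicGeometry.IsNoetherian X] in
theorem hp_isZero {G : X.Modules} (hG : IsZero G) : hp k L G = 0 := by
  by_cases h : ∃ P, ShStab.IsHilbPoly k X L G P
  · rw [hp_eq k L h.choose_spec]
    exact HilbPoly.eq_zero_of_isZero h.choose_spec hG
  · rw [hp, dif_neg h]

/-- The quotient polynomial. -/
theorem hp_cokernel {M N : X.Modules} (f : M ⟶ N) [Mono f] (hM : Coh.IsCoh M) (hN : Coh.IsCoh N) :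
    hp k L (cokernel f) = hp k L N - hp k L M := by
  have h := hp_add k hL (S := ShortComplex.mk f (cokernel.π f) (cokernel.condition f))
    { exact := ShortComplex.exact_cokernel f } hM hN (CohBasics.Closure.isCoh_cokernel f hM.1 hN)
  rw [show hp k L N = hp k L M + hp k L (cokernel f) from h]
  ring

/-- The modular equation. -/
theorem hp_modular (A B : CSub hE) :
    hp k L ((A ⊔ B).1 : X.Modules) + hp k L ((A ⊓ B).1 : X.Modules) =
      hp k L (A.1 : X.Modules) + hp k L (B.1 : X.Modules) := by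
  obtain ⟨e⟩ := nonempty_second_iso A.1 B.1
  have h1 := hp_cokernel k hL (Subobject.ofLE A.1 (A.1 ⊔ B.1) le_sup_left) A.2 (A ⊔ B).2
  have h2 := hp_cokernel k hL (Subobject.ofLE (A.1 ⊓ B.1) B.1 inf_le_right) (A ⊓ B).2 B.2
  have h3 := hp_iso k hL e (CohBasics.Closure.isCoh_cokernel _ A.2.1 (A ⊔ B).2)
  rw [h1, h2] at h3
  rw [val_sup, val_inf]
  linear_combination -h3

end HP

end Groth.Agent.Lib.ShStab.SubLattice
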