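import Groth.Agent.Lib.ShStab.Basics

/-!
# Saturations; quotient criteria for semistability and stability
-/

set_option autoImplicit false
universe u

open CategoryTheory CategoryTheory.Limits AlgebraicGeometry TopologicalSpace StabCat

noncomputable section

namespace Groth.Agent.Lib.ShStab.Saturation

open Groth.Agent.Lib SubLattice Interval PolyOrder

variable {k : Type u} [Field k] {X : Scheme.{u}} [X.Over (Spec (CommRingCat.of k))]
  [IsProper (X ↘ Spec (CommRingCat.of k))] [IsNoetherian X] {L : X.Modules} (hL : CohB1.IsAmple L)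
  {d : ℕ} {E : X.Modules}

include hL

/-- Every coherent submodule is contained in a saturated one of the same multiplicity. -/
theorem exists_saturation (hE : Coh.IsCoh E) (hpu : ShStab.IsPure X E d) {F : X.Modules} (ι : F ⟶ E)
    [Mono ι] (hF : Coh.IsCoh F) :
    ∃ (C : X.Modules) (j : C ⟶ E), Mono j ∧ Coh.IsCoh C ∧ ShStab.IsPure X (cokernel j) d ∧
      alpha d (hp k L C) = alpha d (hp k L F) ∧
      (hp k L C = hp k L F ∨ 0 < (hp k L C - hp k L F).leadingCoeff) := by
  let S := HN.psys (k := k) (hE := hE) hL hpu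
  let f : CSub hE := ⟨Subobject.mk ι, isCoh_iso (Subobject.underlyingIso ι).symm hF⟩
  obtain ⟨C, ⟨hfC, hC⟩, hmax⟩ := (wellFounded_gt (α := CSub hE)).has_min
    {C | f ≤ C ∧ alpha d (S.q f C) = 0} ⟨f, le_rfl, by simp [Sys0.q_self, alpha]⟩
  have hpure : S.Pure C ⊤ := fun c hc _ => by
    refine lt_of_le_of_ne (S.alpha_nonneg hc.le) fun h0 => hmax c ⟨hfC.trans hc.le, ?_⟩ hc
    rw [← S.q_add f C c, alpha_add, hC, ← h0, add_zero]
  have hle : C ≤ ⊤ := le_top
  have hp' := (pure_iff (k := k) hL (hdeg_of_pure hL hpu) hle).2 hpure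
  refine ⟨_, C.1.arrow, inferInstance, C.2, ?_, ?_, ?_⟩
  · -- transport along `⊤ ≅ E`
    let e : cokernel (Subobject.ofLE C.1 (⊤ : Subobject E) le_top) ≅ cokernel C.1.arrow :=
      cokernel.mapIso _ _ (Iso.refl _) (asIso (⊤ : Subobject E).arrow) (by simp)
    intro G κ hκ hG h0
    haveI := hκ
    exact hp' G (κ ≫ e.inv) inferInstance hG h0
  · have : S.q f C = hp k L (C.1 : X.Modules) - hp k L F := by
      show _ - hp k L (f.1 : X.Modules) = _
      rw [hp_iso k hL (Subobject.underlyingIso ι).symm hF]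
      rfl
    rw [this, alpha_sub, sub_eq_zero] at hC
    exact hC
  · rcases hfC.lt_or_eq with h | h
    · right
      have h' := S.lc_pos f C h
      change 0 < (hp k L (C.1 : X.Modules) - hp k L (f.1 : X.Modules)).leadingCoeff at h'
      rwa [hp_iso k hL (Subobject.underlyingIso ι).symm hF] at h'
    · left
      rw [← h]
      exact hp_iso k hL (Subobject.underlyingIso ι).symm hF

omit [AlgebraicGeometry.IsNoetherian X] in
/-- A pure module has positive multiplicity. -/
theorem alpha_pos {G : X.Modules} (hG : Coh.IsCoh G) (h0 : ¬ IsZero G) (hpu : ShStab.IsPure X G d) :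
    0 < alpha d (hp k L G) :=
  Basics.alpha_pos_of_pure hL hpu (𝟙 G) hG h0

/-- The four criteria; `R` is the comparison, `RedLE` or `RedLT`. -/
theorem tfae (hE : Coh.IsCoh E) (h0 : ¬ IsZero E) (hpu : ShStab.IsPure X E d)
    (R : ℕ → Polynomial ℚ → Polynomial ℚ → Prop)
    (hquot : ∀ {A B : Polynomial ℚ}, R d A (A + B) ↔ R d A B)
    (hquot' : ∀ {A B : Polynomial ℚ}, R d (A + B) B ↔ R d A B)
    (hpiece : ∀ {A B : Polynomial ℚ}, 0 < alpha d A → alpha d B = 0 → 0 < B.leadingCoeff →
      R d A (A + B))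
    (htrans : ∀ {A B C : Polynomial ℚ}, 0 < alpha d A → 0 < alpha d B → 0 < alpha d C →
      RedLE d A B → R d B C → R d A C) :
    [(∀ (F : X.Modules) (ι : F ⟶ E), Mono ι → Coh.IsCoh F → ¬ IsZero F → ¬ IsIso ι →
        ∀ (pF pE : Polynomial ℚ), ShStab.IsHilbPoly k X L F pF → ShStab.IsHilbPoly k X L E pE →
          R d pF pE),
      ∀ (F : X.Modules) (ι : F ⟶ E), Mono ι → Coh.IsCoh F → ¬ IsZero F → ¬ IsIso ι →
        ShStab.IsPure X (cokernel ι) d →
        ∀ (pF pE : Polynomial ℚ), ShStab.IsHilbPoly k X L F pF → ShStab.IsHilbPoly k X L E pE →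
          R d pF pE,
      ∀ (G : X.Modules) (π : E ⟶ G), Epi π → Coh.IsCoh G → ¬ IsIso π →
        ∀ (pE pG : Polynomial ℚ), ShStab.IsHilbPoly k X L E pE → ShStab.IsHilbPoly k X L G pG →
          0 < alpha d pG → R d pE pG,
      ∀ (G : X.Modules) (π : E ⟶ G), Epi π → Coh.IsCoh G → ¬ IsZero G → ¬ IsIso π →
        ShStab.IsPure X G d →
        ∀ (pE pG : Polynomial ℚ), ShStab.IsHilbPoly k X L E pE → ShStab.IsHilbPoly k X L G pG →
          R d pE pG].TFAE := by
  have hker : ∀ {G : X.Modules} (π : E ⟶ G) [Epi π], Coh.IsCoh G →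
      hp k L E = hp k L (kernel π) + hp k L G := fun π _ hG =>
    hp_add k hL (S := ShortComplex.mk (kernel.ι π) π (kernel.condition π))
      { exact := ShortComplex.exact_kernel π } (CohBasics.Closure.isCoh_kernel π hE hG.1) hE hG
  tfae_have 1 → 3 := by
    intro h G π hπ hG hni pE pG hpE hpG hpos
    have hK := CohBasics.Closure.isCoh_kernel π hE hG.1
    have hKz : ¬ IsZero (kernel π) := fun hz => hni (by
      haveI := Preadditive.mono_of_isZero_kernel π hz
      exact isIso_of_mono_of_epi π)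
    have hKi : ¬ IsIso (kernel.ι π) := fun hi => by
      have hπ0 : π = 0 := by rw [← cancel_epi (kernel.ι π), kernel.condition, comp_zero]
      subst hπ0
      have hz : IsZero G := IsZero.of_epi_zero E G
      rw [← hp_eq k L hpG, hp_isZero k hL hz] at hpos
      simp [alpha] at hpos
    have := h _ (kernel.ι π) inferInstance hK hKz hKi _ _ (isHilbPoly_hp k hL hK) (isHilbPoly_hp k hL hE)
    rw [← hp_eq k L hpE, ← hp_eq k L hpG, hker π hG]
    rw [hker π hG] at this
    exact hquot'.2 (hquot.1 this)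
  tfae_have 3 → 4 := fun h G π hπ hG hG0 hni hpure pE pG hpE hpG =>
    h G π hπ hG hni pE pG hpE hpG (by rw [← hp_eq k L hpG]; exact alpha_pos hL hG hG0 hpure)
  tfae_have 4 → 2 := by
    intro h F ι hι hF hF0 hni hpure pF pE hpF hpE
    have hC := CohBasics.Closure.isCoh_cokernel ι hF.1 hE
    have hCz : ¬ IsZero (cokernel ι) := fun hz => hni (by
      haveI := Preadditive.epi_of_isZero_cokernel ι hz
      exact isIso_of_mono_of_epi ι)
    have hCi : ¬ IsIso (cokernel.π ι) := fun hi => hF0 (IsZero.of_mono_eq_zero ι (by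
      rw [← cancel_mono (cokernel.π ι), cokernel.condition, zero_comp]))
    have hsum : hp k L E = hp k L F + hp k L (cokernel ι) := by
      rw [hp_cokernel k hL ι hF hE]; ring
    have := h _ (cokernel.π ι) inferInstance hC hCz hCi hpure _ _ (isHilbPoly_hp k hL hE)
      (isHilbPoly_hp k hL hC)
    rw [← hp_eq k L hpF, ← hp_eq k L hpE, hsum]
    rw [hsum] at this
    exact hquot.2 (hquot'.1 this)
  tfae_have 2 → 1 := by
    intro h F ι hι hF hF0 hni pF pE hpF hpE
    rw [← hp_eq k L hpF, ← hp_eq k L hpE]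
    obtain ⟨C, j, hj, hC, hpure, hα, hle⟩ := exists_saturation (k := k) hL hE hpu ι hF
    have hFpos := Basics.alpha_pos_of_pure (k := k) hL hpu ι hF hF0
    by_cases hji : IsIso j
    · haveI := hji
      have e : hp k L E = hp k L C := hp_iso k hL (asIso j) hC
      have hCz : hp k L (cokernel ι) = hp k L C - hp k L F := by rw [hp_cokernel k hL ι hF hE, e]
      have hC' := CohBasics.Closure.isCoh_cokernel ι hF.1 hE
      have hz : ¬ IsZero (cokernel ι) := fun hz => hni (by
        haveI := Preadditive.epi_of_isZero_cokernel ι hz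
        exact isIso_of_mono_of_epi ι)
      have := lc_pos (k := k) hL hC' hz
      rw [hCz] at this
      have h2 := hpiece (B := hp k L C - hp k L F) hFpos (by rw [alpha_sub, hα, sub_self]) this
      rwa [add_sub_cancel, ← e] at h2
    · have hCpos : 0 < alpha d (hp k L C) := hα ▸ hFpos
      have hC0 : ¬ IsZero C := fun hz => by
        rw [hp_isZero k hL hz] at hCpos
        simp [alpha] at hCpos
      refine htrans hFpos hCpos (alpha_pos hL hE h0 hpu) ?_
        (h C j hj hC hC0 hji hpure _ _ (isHilbPoly_hp k hL hC) (isHilbPoly_hp k hL hE))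
      rw [StabCat.RedLE, hα, polyLE_smul_iff hFpos, polyLE_iff]
      rcases hle with he | he
      · rw [he, sub_self, Polynomial.leadingCoeff_zero]
      · exact he.le
  tfae_finish

omit hL in
theorem redLT_quot {A B : Polynomial ℚ} : RedLT d A (A + B) ↔ RedLT d A B := by
  rw [redLT_iff_not, redLT_iff_not, seesaw_ge]

omit hL in
theorem redLT_quot' {A B : Polynomial ℚ} : RedLT d (A + B) B ↔ RedLT d A B := by
  rw [redLT_iff_not, redLT_iff_not, seesaw_ge']

omit hL in
theorem redLT_trans' {A B C : Polynomial ℚ} (ha : 0 < alpha d A) (hb : 0 < alpha d B)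
    (hc : 0 < alpha d C) (h : RedLE d A B) (h' : RedLT d B C) : RedLT d A C := by
  rw [redLT_iff_not] at h' ⊢
  exact fun h'' => h' (redLE_trans hc ha hb h'' h)

end Groth.Agent.Lib.ShStab.Saturation
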