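import Groth.Agent.Lib.ShStab.EllHN
import Groth.Agent.Lib.ShStab.Saturation
import Groth.Agent.Lib.CurveBundle.Rank
import Groth.Agent.Lib.RefHull.Reflexive
import Groth.Agent.Lib.Perfect.PCCoh

/-!
# Slope and `ℓ`-semistable modules: images, submodules, torsion-free modules on integral schemes
-/

set_option autoImplicit false
universe u

open CategoryTheory CategoryTheory.Limits AlgebraicGeometry Polynomial StabCat

noncomputable section

namespace Groth.Agent.Lib.ShStab.MuBasics

open Groth.Agent.Lib SubLattice Interval PolyOrder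

variable {X : Scheme.{u}} [IsIntegral X]

/-- A torsion-free module on an integral scheme is pure of full dimension. -/
theorem isPure_of_isTorsionFree {F : X.Modules} (hF : TorSh.IsTorsionFree F) (n : ℕ)
    (hX : topologicalKrullDim X = (n : WithBot ℕ∞)) : ShStab.IsPure X F n := by
  intro G ι hι hG h0
  haveI := hι
  haveI := hG.1
  haveI := hG.2
  have hT := CurveBundle.Rank.isTorsionFree_of_mono ι hF
  have hgen : genericPoint X ∈ CohB1.support G := fun hs => h0 (by
    rw [IsZero.iff_id_eq_zero]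
    exact CurveBundle.Rank.eq_zero_of_generic hT _
      (LinearMap.ext fun v => (@Subsingleton.elim _ hs _ _)))
  have huniv : CohB1.support G = Set.univ := Set.eq_univ_of_forall fun y =>
    ((genericPoint_spec X).specializes (Set.mem_univ y)).mem_closed
      (Modules.Support.isClosed_support G) hgen
  rw [huniv, ← hX]
  exact IsHomeomorph.topologicalKrullDim_eq _ (Homeomorph.Set.univ X).isHomeomorph

/-- A reflexive coherent module on an integral scheme is torsion-free. -/
theorem isTorsionFree_of_isReflexive [IsLocallyNoetherian X] {F : X.Modules} (hc : Coh.IsCoh F)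
    (hF : RefHull.IsReflexive F) : TorSh.IsTorsionFree F := fun x => by
  haveI : Module.IsReflexive (X.presheaf.stalk x) (F.presheaf.stalk x) :=
    (RefHull.Reflexive.isReflexive_iff_forall hc).1 hF x
  exact (Module.bijective_dual_eval (X.presheaf.stalk x) (F.presheaf.stalk x)).1.moduleIsTorsionFree
    _ fun c v => map_smul _ c v

variable {k : Type u} [Field k]

section
omit [IsIntegral X]
variable [X.Over (Spec (CommRingCat.of k))]
  [IsProper (X ↘ Spec (CommRingCat.of k))] [AlgebraicGeometry.IsNoetherian X] {L : X.Modules}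
  (hL : CohB1.IsAmple L) {d ℓ : ℕ}

include hL

/-- Submodules of an `ℓ`-semistable module are at most as steep. -/
theorem redLE_sub {G H : X.Modules} (hG : ShStab.IsEllSemistable k X L G d ℓ) (ι : H ⟶ G) [Mono ι]
    (hH : Coh.IsCoh H) (h0 : ¬ IsZero H) :
    RedLE d (topPart ℓ d (hp k L H)) (topPart ℓ d (hp k L G)) := by
  have hpos := Basics.alpha_pos_of_pure (k := k) hL hG.2.2.1 ι hH h0
  have hQ := CohBasics.Closure.isCoh_cokernel ι hH.1 hG.1
  have hsum : hp k L G = hp k L H + hp k L (cokernel ι) := by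
    rw [hp_cokernel k hL ι hH hG.1]; ring
  have hdH := (Basics.natDegree_le_of_pure (k := k) hL hG.2.2.1 ι hH)
  have hdG := (Basics.natDegree_le_of_pure (k := k) hL hG.2.2.1 (𝟙 G) hG.1)
  have hdQ : (hp k L (cokernel ι)).natDegree ≤ d := by
    rw [hp_cokernel k hL ι hH hG.1]
    exact (natDegree_sub_le _ _).trans (max_le hdG hdH)
  have hlQ : 0 ≤ (hp k L (cokernel ι)).leadingCoeff := by
    by_cases hz : IsZero (cokernel ι)
    · simp [hp_isZero k hL hz]
    · exact (Interval.lc_pos hL hQ hz).le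
  rcases le_or_gt (alpha d (hp k L G)) (alpha d (hp k L H)) with h | h
  · have hQ0 : alpha d (hp k L (cokernel ι)) = 0 := by
      refine le_antisymm ?_ ?_
      · rw [hsum, alpha_add] at h; linarith
      · rcases hdQ.lt_or_eq with h' | h'
        · simp [alpha, coeff_eq_zero_of_natDegree_lt h']
        · rw [leadingCoeff, h'] at hlQ
          exact mul_nonneg (Nat.cast_nonneg _) hlQ
    rw [hsum, EllInterval.topPart_add, StabCat.RedLE]
    simp only [alpha_add, Basics.alpha_topPart, hQ0, add_zero]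
    rw [polyLE_smul_iff hpos, polyLE_iff, add_sub_cancel_left]
    exact EllInterval.lc_topPart_nonneg hdQ hlQ
  · exact hG.2.2.2 H ι inferInstance hH _ _ (isHilbPoly_hp k hL hH) (isHilbPoly_hp k hL hG.1) hpos h

/-- An `ℓ`-semistable module is at most as steep as its nonzero images in a pure module. -/
theorem redLE_image {F G : X.Modules} (hF : ShStab.IsEllSemistable k X L F d ℓ) (hG : Coh.IsCoh G)
    (hGp : ShStab.IsPure X G d) {φ : F ⟶ G} (hφ : φ ≠ 0) :
    RedLE d (topPart ℓ d (hp k L F)) (topPart ℓ d (hp k L (Abelian.image φ))) := by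
  have hK := CohBasics.Closure.isCoh_kernel φ hF.1 hG.1
  have hI := CohBasics.Closure.isCoh_image φ hF.1.1 hG
  have hi := Basics.alpha_pos_of_pure (k := k) hL hGp (Abelian.image.ι φ) hI (Basics.not_isZero_image hφ)
  have h := Basics.hp_kernel_image (k := k) hL φ hF.1 hG
  by_cases hz : IsZero (kernel φ)
  · rw [h, hp_isZero k hL hz, zero_add]
    exact redLE_refl _ _
  · have hk := Basics.alpha_pos_of_pure (k := k) hL hF.2.2.1 (kernel.ι φ) hK hz
    have hle := hF.2.2.2 _ (kernel.ι φ) inferInstance hK _ _ (isHilbPoly_hp k hL hK)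
      (isHilbPoly_hp k hL hF.1) hk (by rw [h, alpha_add]; linarith)
    rw [h, EllInterval.topPart_add] at hle ⊢
    exact seesaw_le'.2 (seesaw_le.1 hle)

/-- A slope-stable pure module: an endomorphism which is not zero is invertible. -/
theorem isIso_of_ne_zero {F : X.Modules} (hd : 1 ≤ d) (hp' : ShStab.IsPure X F d)
    (hF : ShStab.IsMuStable k X L F d) {φ : F ⟶ F} (hφ : φ ≠ 0) : IsIso φ := by
  obtain ⟨hc, h0, _, _, hst⟩ := hF
  have hss : ShStab.IsEllSemistable k X L F d 1 := ⟨hc, h0, hp', fun G ι hι hG pG pF hpG hpF h1 h2 =>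
    (EllInterval.redLE_one_iff hd h1 (h1.trans h2)).2 (hst G ι hι hG pG pF hpG hpF h1 h2).le⟩
  have hK := CohBasics.Closure.isCoh_kernel φ hc hc.1
  have hI := CohBasics.Closure.isCoh_image φ hc.1 hc
  have hI0 := Basics.not_isZero_image hφ
  have hi := Basics.alpha_pos_of_pure (k := k) hL hp' (Abelian.image.ι φ) hI hI0
  have hf := Basics.alpha_pos_of_pure (k := k) hL hp' (𝟙 F) hc h0
  have h := Basics.hp_kernel_image (k := k) hL φ hc hc
  have hmono : Mono φ := Preadditive.mono_of_isZero_kernel _ (by_contra fun hz => by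
    have hk := Basics.alpha_pos_of_pure (k := k) hL hp' (kernel.ι φ) hK hz
    have h1 := hst _ (kernel.ι φ) inferInstance hK _ _ (isHilbPoly_hp k hL hK)
      (isHilbPoly_hp k hL hc) hk (by rw [h, alpha_add]; linarith)
    have h2 := hst _ (Abelian.image.ι φ) inferInstance hI _ _ (isHilbPoly_hp k hL hI)
      (isHilbPoly_hp k hL hc) hi (by rw [h, alpha_add]; linarith)
    rw [hatSlope, hatSlope, div_lt_div_iff₀ hk hf] at h1
    rw [hatSlope, hatSlope, div_lt_div_iff₀ hi hf] at h2
    rw [h, alpha_add, alpha_add] at h1 h2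
    linarith)
  have hz : IsZero (cokernel φ) := by
    refine (Interval.isZero_iff (k := k) hL (CohBasics.Closure.isCoh_cokernel φ hc.1 hc)).2 ?_
    rw [hp_cokernel k hL φ hc hc, sub_self]
  haveI : Epi φ := Abelian.epi_of_cokernel_π_eq_zero φ (hz.eq_of_tgt _ _)
  exact isIso_of_mono_of_epi φ

end

end Groth.Agent.Lib.ShStab.MuBasics

namespace Groth.Agent.Lib.ShStab.MuBasics

open Groth.Agent.Lib SubLattice Interval PolyOrder

theorem redLE_add_left {d : ℕ} {A B P : ℚ[X]} (hA : RedLE d A P) (hB : RedLE d B P) :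
    RedLE d (A + B) P := by
  obtain ⟨N₁, h₁⟩ := hA
  obtain ⟨N₂, h₂⟩ := hB
  refine ⟨max N₁ N₂, fun m hm => ?_⟩
  have e₁ := h₁ m (le_trans (le_max_left _ _) hm)
  have e₂ := h₂ m (le_trans (le_max_right _ _) hm)
  simp only [Polynomial.eval_smul, smul_eq_mul, Polynomial.eval_add, alpha_add] at e₁ e₂ ⊢
  linarith

variable {k : Type u} [Field k] {X : Scheme.{u}} [X.Over (Spec (CommRingCat.of k))]
  [IsProper (X ↘ Spec (CommRingCat.of k))] [AlgebraicGeometry.IsNoetherian X] {L : X.Modules}
  (hL : CohB1.IsAmple L) {d ℓ : ℕ}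

include hL

/-- An extension of two `ℓ`-semistable modules of equal reduced truncation is `ℓ`-semistable. -/
theorem isEllSemistable_of_shortExact {T : ShortComplex X.Modules} (hT : T.ShortExact)
    (h₁ : ShStab.IsEllSemistable k X L T.X₁ d ℓ) (h₃ : ShStab.IsEllSemistable k X L T.X₃ d ℓ)
    (hred : RedEq d (topPart ℓ d (hp k L T.X₁)) (topPart ℓ d (hp k L T.X₃))) :
    ShStab.IsEllSemistable k X L T.X₂ d ℓ ∧
      RedEq d (topPart ℓ d (hp k L T.X₂)) (topPart ℓ d (hp k L T.X₁)) := by
  have hc : Coh.IsCoh T.X₂ := Perfect.PCCoh.isCoh_of_extension hT h₁.1 h₃.1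
  haveI := hT.mono_f
  have hsum := hp_add k hL hT h₁.1 hc h₃.1
  have a₁ := Saturation.alpha_pos (k := k) hL h₁.1 h₁.2.1 h₁.2.2.1
  have a₃ := Saturation.alpha_pos (k := k) hL h₃.1 h₃.2.1 h₃.2.2.1
  have hred' : RedEq d (topPart ℓ d (hp k L T.X₂)) (topPart ℓ d (hp k L T.X₁)) := by
    unfold RedEq at hred ⊢
    simp only [hsum, EllInterval.topPart_add, alpha_add, add_smul, smul_add] at hred ⊢
    rw [hred]
  have a₂ : 0 < alpha d (topPart ℓ d (hp k L T.X₂)) := by
    rw [Basics.alpha_topPart, hsum, alpha_add]; linarith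
  -- the two pieces of a submodule
  have pieces : ∀ (G : X.Modules) (i : G ⟶ T.X₂) [Mono i] (_ : Coh.IsCoh G),
      ∃ (K : X.Modules) (j : K ⟶ T.X₁) (I : X.Modules) (j' : I ⟶ T.X₃), Mono j ∧ Mono j' ∧
        Coh.IsCoh K ∧ Coh.IsCoh I ∧ hp k L G = hp k L K + hp k L I := fun G i hi hG => by
    let g := i ≫ T.g
    let j := hT.exact.lift (kernel.ι g ≫ i) (by rw [Category.assoc]; exact kernel.condition g)
    have hj : j ≫ T.f = kernel.ι g ≫ i := hT.exact.lift_f _ _
    haveI : Mono (j ≫ T.f) := by rw [hj]; exact mono_comp _ _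
    exact ⟨_, j, _, Abelian.image.ι g, mono_of_mono j T.f, inferInstance,
      CohBasics.Closure.isCoh_kernel g hG h₃.1.1, CohBasics.Closure.isCoh_image g hG.1 h₃.1,
      Basics.hp_kernel_image (k := k) hL g hG h₃.1⟩
  have h0 : ¬ IsZero T.X₂ := fun hz => h₁.2.1 (IsZero.of_mono T.f hz)
  refine ⟨⟨hc, h0, fun G i hi hG hG0 => ?_, fun G i hi hG pG pE hpG hpE h1 h2 => ?_⟩, hred'⟩
  · haveI := hi
    obtain ⟨K, j, I, j', hj, hj', hK, hI, hG'⟩ := pieces G i hG
    haveI := hj
    haveI := hj'
    have hd₁ := Basics.natDegree_le_of_pure (k := k) hL h₁.2.2.1 j hK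
    have hd₃ := Basics.natDegree_le_of_pure (k := k) hL h₃.2.2.1 j' hI
    refine (Interval.dim_eq_iff (k := k) hL hG hG0 d).2
      (Interval.natDegree_eq_of_alpha_pos hL (hG' ▸ (natDegree_add_le _ _).trans (max_le hd₁ hd₃)) ?_)
    rw [hG', alpha_add]
    by_cases hK0 : IsZero K
    · have hI0 : ¬ IsZero I := fun hI0 => hG0 ((Interval.isZero_iff (k := k) hL hG).2 (by
        rw [hG', hp_isZero k hL hK0, hp_isZero k hL hI0, add_zero]))
      rw [hp_isZero k hL hK0]
      simpa [alpha] using Basics.alpha_pos_of_pure (k := k) hL h₃.2.2.1 j' hI hI0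
    · refine add_pos_of_pos_of_nonneg (Basics.alpha_pos_of_pure (k := k) hL h₁.2.2.1 j hK hK0) ?_
      by_cases hI0 : IsZero I
      · rw [hp_isZero k hL hI0]; simp [alpha]
      · exact (Basics.alpha_pos_of_pure (k := k) hL h₃.2.2.1 j' hI hI0).le
  · haveI := hi
    obtain ⟨K, j, I, j', hj, hj', hK, hI, hG'⟩ := pieces G i hG
    haveI := hj
    haveI := hj'
    rw [← hp_eq k L hpG, ← hp_eq k L hpE, hG', EllInterval.topPart_add]
    refine redLE_add_left ?_ ?_
    · by_cases hK0 : IsZero K
      · rw [hp_isZero k hL hK0]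
        simp [RedLE, alpha, topPart, polyLE_refl]
      · exact redLE_trans
          (by rw [Basics.alpha_topPart]; exact Basics.alpha_pos_of_pure (k := k) hL h₁.2.2.1 j hK hK0)
          (by rwa [Basics.alpha_topPart]) a₂ (redLE_sub hL h₁ j hK hK0) (redEq_iff.1 hred').2
    · by_cases hI0 : IsZero I
      · rw [hp_isZero k hL hI0]
        simp [RedLE, alpha, topPart, polyLE_refl]
      · have t := Basics.alpha_pos_of_pure (k := k) hL h₃.2.2.1 j' hI hI0
        exact redLE_trans (by rw [Basics.alpha_topPart]; exact t) (by rwa [Basics.alpha_topPart]) a₂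
          (redLE_trans (by rw [Basics.alpha_topPart]; exact t) (by rwa [Basics.alpha_topPart])
            (by rwa [Basics.alpha_topPart]) (redLE_sub hL h₃ j' hI hI0) (redEq_iff.1 hred).2)
          (redEq_iff.1 hred').2

end Groth.Agent.Lib.ShStab.MuBasics
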