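import Groth.Prelude.Def_StabCat
import Mathlib.Analysis.Polynomial.Basic
import Mathlib.Algebra.Order.Archimedean.Basic

/-!
# Comparison of polynomials for large arguments
-/

set_option autoImplicit false

open Polynomial Filter StabCat

noncomputable section

namespace Groth.Agent.Lib.ShStab.PolyOrder

variable {P Q R A B : ℚ[X]}

/-- `P ≤ Q` iff the leading coefficient of `Q - P` is nonnegative. -/
theorem polyLE_iff : PolyLE P Q ↔ 0 ≤ (Q - P).leadingCoeff := by
  constructor
  · intro ⟨N, hN⟩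
    by_contra hc
    push Not at hc
    rcases le_or_gt (Q - P).degree 0 with hd | hd
    · have h := hN N le_rfl
      rw [Polynomial.eq_C_of_degree_le_zero hd, leadingCoeff_C] at hc
      have e : (Q - P).eval (N : ℚ) = (Q - P).coeff 0 := by
        rw [Polynomial.eq_C_of_degree_le_zero hd, eval_C, coeff_C_zero]
      rw [eval_sub] at e
      linarith
    · have ht := tendsto_atBot_of_leadingCoeff_nonpos _ hd hc.le
      obtain ⟨m, hm, hm'⟩ := (((ht.comp tendsto_natCast_atTop_atTop).eventually_lt_atBot 0).and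
        (eventually_ge_atTop N)).exists
      have := hN m hm'
      simp only [Function.comp_apply, eval_sub] at hm
      linarith
  · intro h
    rcases le_or_gt (Q - P).degree 0 with hd | hd
    · refine ⟨0, fun m _ => ?_⟩
      rw [Polynomial.eq_C_of_degree_le_zero hd, leadingCoeff_C] at h
      have e : (Q - P).eval (m : ℚ) = (Q - P).coeff 0 := by
        rw [Polynomial.eq_C_of_degree_le_zero hd, eval_C, coeff_C_zero]
      rw [eval_sub] at e
      linarith
    · have ht := tendsto_atTop_of_leadingCoeff_nonneg _ hd h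
      obtain ⟨N, hN⟩ := ((ht.comp tendsto_natCast_atTop_atTop).eventually_ge_atTop 0).exists_forall_of_atTop
      refine ⟨N, fun m hm => ?_⟩
      have := hN m hm
      simp only [Function.comp_apply, eval_sub] at this
      linarith

theorem polyLE_refl (P : ℚ[X]) : PolyLE P P := ⟨0, fun _ _ => le_rfl⟩

theorem polyLE_trans (h : PolyLE P Q) (h' : PolyLE Q R) : PolyLE P R := by
  obtain ⟨N, hN⟩ := h
  obtain ⟨N', hN'⟩ := h'
  exact ⟨max N N', fun m hm => (hN m (by omega)).trans (hN' m (by omega))⟩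

theorem polyLE_total (P Q : ℚ[X]) : PolyLE P Q ∨ PolyLE Q P := by
  rw [polyLE_iff, polyLE_iff, ← neg_sub Q P, leadingCoeff_neg]
  rcases le_total 0 (Q - P).leadingCoeff with h | h
  · exact Or.inl h
  · exact Or.inr (neg_nonneg.2 h)

theorem polyLE_antisymm (h : PolyLE P Q) (h' : PolyLE Q P) : P = Q := by
  rw [polyLE_iff] at h h'
  rw [← neg_sub Q P, leadingCoeff_neg] at h'
  exact (sub_eq_zero.1 (leadingCoeff_eq_zero.1 (le_antisymm (by linarith) h))).symm

theorem polyLT_iff : PolyLT P Q ↔ PolyLE P Q ∧ P ≠ Q := by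
  constructor
  · intro ⟨N, hN⟩
    exact ⟨⟨N, fun m hm => (hN m hm).le⟩, fun e => lt_irrefl _ (e ▸ hN N le_rfl)⟩
  · rintro ⟨⟨N, hN⟩, hne⟩
    obtain ⟨N', hN'⟩ := ((tendsto_natCast_atTop_atTop (R := ℚ)).eventually
      (eventually_atTop_not_isRoot (Q - P) (sub_ne_zero.2 hne.symm))).exists_forall_of_atTop
    refine ⟨max N N', fun m hm => lt_of_le_of_ne (hN m (by omega)) fun e => ?_⟩
    refine hN' m (by omega) ?_
    simp [IsRoot, e]

theorem polyLT_iff_not : PolyLT P Q ↔ ¬ PolyLE Q P := by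
  rw [polyLT_iff]
  constructor
  · exact fun ⟨h, hne⟩ h' => hne (polyLE_antisymm h h')
  · exact fun h => ⟨(polyLE_total P Q).resolve_right h, fun e => h (e ▸ polyLE_refl _)⟩

theorem not_polyLT_iff : ¬ PolyLT P Q ↔ PolyLE Q P := by rw [polyLT_iff_not, not_not]

theorem polyLT_of_le_of_lt (h : PolyLE P Q) (h' : PolyLT Q R) : PolyLT P R := by
  rw [polyLT_iff_not] at *
  exact fun hh => h' (polyLE_trans hh h)

theorem polyLT_of_lt_of_le (h : PolyLT P Q) (h' : PolyLE Q R) : PolyLT P R := by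
  rw [polyLT_iff_not] at *
  exact fun hh => h (polyLE_trans h' hh)

theorem polyLT_irrefl (P : ℚ[X]) : ¬ PolyLT P P := fun h => (polyLT_iff.1 h).2 rfl

theorem polyLE_smul_iff {c : ℚ} (hc : 0 < c) : PolyLE (c • P) (c • Q) ↔ PolyLE P Q := by
  rw [polyLE_iff, polyLE_iff, ← smul_sub, leadingCoeff_smul_of_smul_regular _
    (IsSMulRegular.of_ne_zero hc.ne'), smul_eq_mul, mul_nonneg_iff_of_pos_left hc]

theorem polyLT_smul_iff {c : ℚ} (hc : 0 < c) : PolyLT (c • P) (c • Q) ↔ PolyLT P Q := by
  rw [polyLT_iff_not, polyLT_iff_not, polyLE_smul_iff hc]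

theorem polyLE_congr (h : Q - P = B - A) : PolyLE P Q ↔ PolyLE A B := by
  rw [polyLE_iff, polyLE_iff, h]

/-! ## Reduced comparison -/

variable {d : ℕ}

theorem alpha_add (d : ℕ) (P Q : ℚ[X]) : alpha d (P + Q) = alpha d P + alpha d Q := by
  simp [alpha, mul_add]

theorem alpha_sub (d : ℕ) (P Q : ℚ[X]) : alpha d (P - Q) = alpha d P - alpha d Q := by
  simp [alpha, mul_sub]

theorem alpha_smul (d : ℕ) (c : ℚ) (P : ℚ[X]) : alpha d (c • P) = c * alpha d P := by
  simp [alpha]
  ring

theorem alpha_pos (h : P.natDegree = d) (h' : 0 < P.leadingCoeff) : 0 < alpha d P := by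
  rw [alpha, ← h]
  exact mul_pos (by exact_mod_cast Nat.factorial_pos _) h'

theorem smul_red (h : alpha d P ≠ 0) : alpha d P • red d P = P := by
  rw [red, smul_smul, mul_inv_cancel₀ h, one_smul]

theorem redLE_iff_red (hP : 0 < alpha d P) (hQ : 0 < alpha d Q) :
    StabCat.RedLE d P Q ↔ PolyLE (red d P) (red d Q) := by
  have e1 : alpha d Q • P = (alpha d P * alpha d Q) • red d P := by
    rw [mul_comm, mul_smul, smul_red hP.ne']
  have e2 : alpha d P • Q = (alpha d P * alpha d Q) • red d Q := by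
    rw [mul_smul, smul_red hQ.ne']
  rw [StabCat.RedLE, e1, e2, polyLE_smul_iff (mul_pos hP hQ)]

theorem redLT_iff_red (hP : 0 < alpha d P) (hQ : 0 < alpha d Q) :
    StabCat.RedLT d P Q ↔ PolyLT (red d P) (red d Q) := by
  rw [StabCat.RedLT, polyLT_iff_not, polyLT_iff_not]
  exact (redLE_iff_red hQ hP).not

theorem redEq_iff_red (hP : 0 < alpha d P) (hQ : 0 < alpha d Q) :
    RedEq d P Q ↔ red d P = red d Q := by
  constructor
  · intro h
    have h' := congrArg (((alpha d P)⁻¹ * (alpha d Q)⁻¹) • ·) h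
    simp only [smul_smul] at h'
    rw [red, red]
    convert h' using 2 <;> field_simp
  · intro h
    have e1 : alpha d Q • P = (alpha d P * alpha d Q) • red d P := by
      rw [mul_comm, mul_smul, smul_red hP.ne']
    have e2 : alpha d P • Q = (alpha d P * alpha d Q) • red d Q := by
      rw [mul_smul, smul_red hQ.ne']
    rw [RedEq, e1, e2, h]

/-- The seesaw: comparing a piece with the sum is comparing it with the other piece. -/
theorem seesaw_le :
    StabCat.RedLE d A (A + B) ↔ StabCat.RedLE d A B := by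
  unfold StabCat.RedLE
  refine polyLE_congr ?_
  rw [alpha_add]
  module

theorem seesaw_ge :
    StabCat.RedLE d (A + B) A ↔ StabCat.RedLE d B A := by
  unfold StabCat.RedLE
  refine polyLE_congr ?_
  rw [alpha_add]
  module

theorem seesaw_le' :
    StabCat.RedLE d (A + B) B ↔ StabCat.RedLE d A B := by
  unfold StabCat.RedLE
  refine polyLE_congr ?_
  rw [alpha_add]
  module

theorem seesaw_ge' :
    StabCat.RedLE d B (A + B) ↔ StabCat.RedLE d B A := by
  unfold StabCat.RedLE
  refine polyLE_congr ?_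
  rw [alpha_add]
  module

theorem redLT_iff_not (P Q : ℚ[X]) : StabCat.RedLT d P Q ↔ ¬ StabCat.RedLE d Q P :=
  polyLT_iff_not

theorem redEq_iff : RedEq d P Q ↔ StabCat.RedLE d P Q ∧ StabCat.RedLE d Q P :=
  ⟨fun h => by
    unfold RedEq at h
    unfold StabCat.RedLE
    rw [h]
    exact ⟨polyLE_refl _, polyLE_refl _⟩, fun ⟨h, h'⟩ => polyLE_antisymm h h'⟩

theorem redLE_refl (d : ℕ) (P : ℚ[X]) : StabCat.RedLE d P P := polyLE_refl _

theorem redLE_total (d : ℕ) (P Q : ℚ[X]) : StabCat.RedLE d P Q ∨ StabCat.RedLE d Q P :=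
  polyLE_total _ _

theorem redLE_trans (hP : 0 < alpha d P) (hQ : 0 < alpha d Q) (hR : 0 < alpha d R)
    (h : StabCat.RedLE d P Q) (h' : StabCat.RedLE d Q R) : StabCat.RedLE d P R := by
  rw [redLE_iff_red hP hQ] at h
  rw [redLE_iff_red hQ hR] at h'
  exact (redLE_iff_red hP hR).2 (polyLE_trans h h')

end Groth.Agent.Lib.ShStab.PolyOrder
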