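import Groth.Agent.Lib.UnifReg.OnX
import Groth.Agent.Lib.UnifReg.Degree
import Groth.Agent.Lib.ShStab.PolyOrder
import Groth.Agent.Lib.Snapper.Poly
import Groth.Agent.Lib.Snapper.DimBound
import Groth.Agent.Lib.ProjMor.Conv
import Groth.Agent.Lib.ActSep.GrpDim
import Groth.Agent.Lib.Modules.SupportOps

/-!
# The Hilbert polynomial for an ample polarisation

On a proper scheme over any field with an ample module `L`, every coherent module has a Hilbert
polynomial, of degree the dimension of the support, with positive leading coefficient.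
-/

set_option autoImplicit false
universe u

open CategoryTheory CategoryTheory.Limits AlgebraicGeometry TopologicalSpace

noncomputable section

namespace Groth.Agent.Lib.ShStab.HilbPoly

open Groth.Agent.Lib TensorMod.Basic ProjCoh.Coherent UnifReg.Step UnifReg.Bound ProjKoszul

variable {k : Type u} [Field k] {X : Scheme.{u}} [X.Over (Spec (CommRingCat.of k))]
  [IsProper (X ↘ Spec (CommRingCat.of k))]

/-- A proper scheme with an ample module embeds by a power of it. -/
theorem exists_embedding {L : X.Modules} (hL : CohB1.IsAmple L) :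
    ∃ (N r : ℕ) (j : X ⟶ CohB1.ProjSpace r k), 0 < N ∧ IsClosedImmersion j ∧
      j ≫ CohB1.ProjSpace.toSpec r k = X ↘ Spec (CommRingCat.of k) ∧
      Nonempty (CohB1.tensorPow L N ≅ (Scheme.Modules.pullback j).obj (tw r k 1)) := by
  obtain ⟨n₀, hn⟩ := ProjMor.Conv.eventually_veryAmple_pow (X ↘ Spec (CommRingCat.of k)) hL
  obtain ⟨r, i, hi, hc, ⟨e⟩⟩ := hn (n₀ + 1) (by omega)
  let o := ProjSpace.BaseChange.overSpecIso r k
  let j := i ≫ o.hom
  have hj : j ≫ CohB1.ProjSpace.toSpec r k = X ↘ Spec (CommRingCat.of k) := by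
    rw [Category.assoc, ProjSpace.BaseChange.overSpecIso_hom_toSpec]
    exact hc
  haveI : IsImmersion j := inferInstance
  haveI : IsProper (j ≫ CohB1.ProjSpace.toSpec r k) := by rw [hj]; infer_instance
  haveI : IsProper j := IsProper.of_comp j (CohB1.ProjSpace.toSpec r k)
  let φ := ProjSpace.BaseChange.projMap r (ProjSpace.BaseChange.ulz k)
  obtain ⟨eO⟩ := ProperFin.ProjFacts.nonempty_pullback_O r (ULift.{u} ℤ) k
    (ProjSpace.BaseChange.ulz k) 1
  refine ⟨n₀ + 1, r, j, by omega,
    IsClosedImmersion.of_isPreimmersion j (j.isClosedMap.isClosed_range), hj, ⟨e ≪≫ ?_⟩⟩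
  let T := Twist.twistProjSpace r (ULift.{u} ℤ) 1
  exact (Scheme.Modules.pullback i).mapIso
      ((Scheme.Modules.pullbackCongr (ProjSpace.BaseChange.overSpecIso_hom_projMap r k).symm).app T ≪≫
        ((Scheme.Modules.pullbackComp o.hom φ).app T).symm) ≪≫
    (Scheme.Modules.pullbackComp i o.hom).app _ ≪≫ (Scheme.Modules.pullback j).mapIso eO

theorem eval_aeval_X {σ : Type} (Q : MvPolynomial σ ℚ) (t : ℚ) :
    (MvPolynomial.aeval (fun _ : σ => (Polynomial.X : Polynomial ℚ)) Q).eval t =
      MvPolynomial.eval (fun _ => t) Q := by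
  induction Q using MvPolynomial.induction_on with
  | C a => simp
  | add p q hp hq => simp [hp, hq]
  | mul_X p i hp => simp [hp]

theorem natDegree_aeval_X {σ : Type} (Q : MvPolynomial σ ℚ) :
    (MvPolynomial.aeval (fun _ : σ => (Polynomial.X : Polynomial ℚ)) Q).natDegree ≤ Q.totalDegree := by
  conv_lhs => rw [Q.as_sum, map_sum]
  refine Polynomial.natDegree_sum_le_of_forall_le _ _ fun m hm => ?_
  rw [MvPolynomial.aeval_monomial]
  refine Polynomial.natDegree_mul_le.trans ?_
  rw [Polynomial.algebraMap_eq, Polynomial.natDegree_C, zero_add, Finsupp.prod,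
    Finset.prod_pow_eq_pow_sum, Polynomial.natDegree_X_pow]
  exact MvPolynomial.le_totalDegree hm

/-- The Hilbert polynomial exists, of degree at most the dimension of the support. -/
theorem exists_hilbPoly {L : X.Modules} (hL : PicF.IsInvertible L) {F : X.Modules} (hF : Coh.IsCoh F)
    (r : ℕ) (hr : topologicalKrullDim (CohB1.support F) ≤ r) :
    ∃ P : Polynomial ℚ, ShStab.IsHilbPoly k X L F P ∧ P.natDegree ≤ r := by
  haveI := Curves.GlobalSections.isNoetherian_of_proper k X
  obtain ⟨d, hd⟩ := Snapper.DimBound.exists_dim_bound k X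
  obtain ⟨Q, hQd, hQ⟩ := Snapper.Poly.exists_poly (Snapper.Finite.cohFinite k X) hd hF r hr 1
    (fun _ => L) (fun _ => hL) [] (by simp)
  refine ⟨MvPolynomial.aeval (fun _ => Polynomial.X) Q, fun m => ?_,
    (natDegree_aeval_X Q).trans (by simpa using hQd)⟩
  rw [eval_aeval_X, ← hQ fun _ => m, Snapper.Chi.euler_eq_eulerCharLE hd]
  obtain ⟨e⟩ := Snapper.Poly.exists_tensorPowsIso F 1 (fun _ => L) (fun _ => m)
  have e' : ShStab.twist X L F m ≅ CohB1.tensorMod (FGA.multiTwist (fun _ : Fin 1 => L) fun _ => m) F := e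
  exact congrArg _ (Snapper.Chi.eulerCharLE_of_iso e' d)

/-- The Hilbert polynomial on `P^n`, at every integer. -/
theorem exists_chiPoly {n : ℕ} {M : (CohB1.ProjSpace n k).Modules} (hM : Coh.IsCoh M) :
    ∃ Q : Polynomial ℚ, ∀ t : ℤ, (chi M t : ℚ) = Q.eval (t : ℚ) := by
  haveI := isNoetherian_proj n k
  haveI : IsProper (CohB1.ProjSpace n k ↘ Spec (CommRingCat.of k)) :=
    ProjSpace.Basic.isProper_toSpec n k
  have hdim := (ProjSpace.Dim.topologicalKrullDim_projSpace_of_field n k).le
  have hsd : ∀ (G : (CohB1.ProjSpace n k).Modules), Coh.IsCoh G →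
      topologicalKrullDim (CohB1.support G) ≤ (n : WithBot ℕ∞) := fun G _ =>
    (Topology.IsInducing.subtypeVal.topologicalKrullDim_le).trans hdim
  have key : ∀ a : ℕ, ∃ Q : Polynomial ℚ, ∀ t : ℕ, (chi M ((t : ℤ) - a) : ℚ) = Q.eval (t : ℚ) := by
    intro a
    let G := tM M (-(a : ℤ))
    have hG : Coh.IsCoh G := isCoh_tensorMod hM (isCoh_tw _)
    obtain ⟨Q, hQ, -⟩ := exists_hilbPoly (k := k) (isInvertible_tw (n := n) (R := k) 1) hG n (hsd G hG)
    refine ⟨Q, fun t => ?_⟩
    rw [← hQ t]
    obtain ⟨j⟩ := nonempty_tensorPow_iso (n := n) (R := k) t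
    rw [Snapper.Chi.euler_eq_eulerCharLE hdim]
    exact congrArg _ (Snapper.Chi.eulerCharLE_of_iso
      ((twIso2 M (-(a : ℤ)) (t : ℤ) ((t : ℤ) - a) (by ring)).symm ≪≫
        tensorIso (Iso.refl G) j) n)
  obtain ⟨Q₀, hQ₀⟩ := key 0
  have hQ₀' : ∀ t : ℕ, (chi M (t : ℤ) : ℚ) = Q₀.eval (t : ℚ) := fun t => by
    simpa using hQ₀ t
  refine ⟨Q₀, fun t => ?_⟩
  rcases Int.eq_nat_or_neg t with ⟨m, rfl | rfl⟩
  · exact_mod_cast hQ₀' m
  · obtain ⟨Q, hQ⟩ := key m
    have e : Q = Q₀.comp (Polynomial.X - Polynomial.C (m : ℚ)) := by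
      refine Polynomial.eq_of_infinite_eval_eq _ _ ((Set.infinite_range_of_injective
        (f := fun i : ℕ => ((i + m : ℕ) : ℚ)) fun a b h => by simpa using h).mono ?_)
      rintro _ ⟨i, rfl⟩
      have h1 := hQ (i + m)
      rw [show ((i + m : ℕ) : ℤ) - m = (i : ℤ) by push_cast; ring, hQ₀' i] at h1
      simp only [Set.mem_setOf_eq, Polynomial.eval_comp, Polynomial.eval_sub, Polynomial.eval_X,
        Polynomial.eval_C]
      rw [← h1]
      push_cast
      ring_nf
    have h1 := hQ 0
    rw [e] at h1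
    simpa using h1

omit [IsProper (X ↘ Spec (CommRingCat.of k))] in
/-- The support of a push forward along a closed immersion. -/
theorem dim_support_push {Y : Scheme.{u}} (j : X ⟶ Y) [IsClosedImmersion j] (G : X.Modules) :
    topologicalKrullDim (CohB1.support ((Coh.push j).obj G)) =
      topologicalKrullDim (CohB1.support G) := by
  have hs : CohB1.support ((Coh.push j).obj G) = j '' CohB1.support G := by
    ext y
    constructor
    · intro hy
      obtain ⟨x, rfl⟩ : y ∈ Set.range j := by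
        by_contra h
        exact Modules.Support.not_mem_support_iff.2 (PushClosed.Unit.subsingleton_stalk_push j G h) hy
      refine ⟨x, fun h => hy ?_, rfl⟩
      exact (Equiv.ofBijective _ (PushClosed.Unit.bijective_pushStalkMap j G x)).subsingleton
    · rintro ⟨x, hx, rfl⟩ h
      exact hx (Equiv.ofBijective _ (PushClosed.Unit.bijective_pushStalkMap j G x)).symm.subsingleton
  rw [hs]
  exact ((j.isEmbedding.homeomorphImage (CohB1.support G)).isHomeomorph.topologicalKrullDim_eq _).symm

/-- The degree of the polynomial is at least the dimension of the support, on `P^n`. -/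
theorem dim_lt_of_degree_lt {n : ℕ} {M : (CohB1.ProjSpace n k).Modules} (hM : Coh.IsCoh M)
    {Q : Polynomial ℚ} (hQ : ∀ t : ℤ, (chi M t : ℚ) = Q.eval (t : ℚ)) {D : ℕ}
    (hd : Q.degree < (D : WithBot ℕ)) : topologicalKrullDim (CohB1.support M) < (D : WithBot ℕ∞) := by
  let K := AlgebraicClosure k
  haveI := isNoetherian_proj n k
  haveI := isNoetherian_proj n K
  haveI : Surjective (gK n k K) := MorphismProperty.of_isPullback (isPullback_gK n k K).flip
    (inferInstanceAs (Surjective (Spec.map (CommRingCat.ofHom (algebraMap k K)))))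
  haveI : IsIntegralHom (gK n k K) := MorphismProperty.of_isPullback (isPullback_gK n k K).flip
    (IsIntegralHom.SpecMap_iff.2 (Algebra.IsIntegral.isIntegral (R := k) (A := K)))
  have hQ' : ∀ t : ℤ, (chi ((Scheme.Modules.pullback (gK n k K)).obj M) t : ℚ) = Q.eval (t : ℚ) :=
    fun t => by rw [chi_pb K hM t]; exact hQ t
  have h := UnifReg.Degree.suppLT_of_chi D _ Q (isCoh_pb K hM) hQ' hd
  haveI := hM.2
  rw [← ActSep.topologicalKrullDim_preimage_of_integral_surjective (gK n k K)
    (Modules.Support.isClosed_support M), ← Modules.SupportOps.support_pullback]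
  set S := CohB1.support ((Scheme.Modules.pullback (gK n k K)).obj M) with hS
  haveI := (isCoh_pb K hM).2
  have hSc : IsClosed S := Modules.Support.isClosed_support _
  let st := CohB1.ProjSpace n K ↘ Spec (CommRingCat.of K)
  haveI : IsProper st := ProjSpace.Basic.isProper_toSpec n K
  rcases Nat.eq_zero_or_pos D with rfl | hD
  · have hz := Modules.Support.support_eq_empty_iff.2 (isZero_of_suppLT h)
    rw [← hS] at hz
    rw [hz]
    have : topologicalKrullDim (∅ : Set (CohB1.ProjSpace n K)) = ⊥ := by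
      have : IsEmpty (IrreducibleCloseds (∅ : Set (CohB1.ProjSpace n K))) :=
        ⟨fun Z => IsEmpty.false Z.isIrreducible.nonempty.some⟩
      exact Order.krullDim_eq_bot
    rw [this]
    exact WithBot.bot_lt_coe _
  · obtain ⟨D', rfl⟩ : ∃ D', D = D' + 1 := ⟨D - 1, by omega⟩
    refine ((VarDim.Basic.topologicalKrullDim_le_iff st hSc.isLocallyClosed (D' : WithBot ℕ∞)).2
      fun x hx => ?_).trans_lt (by exact_mod_cast Nat.lt_succ_self D')
    exact_mod_cast Nat.le_of_lt_succ (h x (fun hh => hx hh))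

variable (k) in
include k in
/-- The dimension of the support of a nonzero coherent module. -/
theorem exists_dim {G : X.Modules} (hG : Coh.IsCoh G) (h0 : ¬ IsZero G) :
    ∃ D : ℕ, topologicalKrullDim (CohB1.support G) = (D : WithBot ℕ∞) := by
  classical
  haveI := Curves.GlobalSections.isNoetherian_of_proper k X
  haveI := hG.2
  let st := X ↘ Spec (CommRingCat.of k)
  have hT : IsClosed (CohB1.support G) := Modules.Support.isClosed_support G
  have hne : (CohB1.support G).Nonempty := Set.nonempty_iff_ne_empty.2 fun h =>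
    h0 (Modules.Support.support_eq_empty_iff.1 h)
  obtain ⟨d, hd⟩ := Snapper.DimBound.exists_dim_bound k X
  have hbdd : BddAbove (VarDim.Basic.pdim st '' CohB1.support G) := ⟨d, by
    rintro _ ⟨x, _, rfl⟩
    exact_mod_cast (VarDim.Basic.pdim_le_topologicalKrullDim_scheme st x).trans hd⟩
  obtain ⟨x, hx, hxD⟩ := Nat.sSup_mem (hne.image _) hbdd
  exact ⟨_, VarDim.Basic.topologicalKrullDim_eq st hT.isLocallyClosed hx
    fun y hy => hxD ▸ le_csSup hbdd ⟨y, hy, rfl⟩⟩

omit [IsProper (X ↘ Spec (CommRingCat.of k))] in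
/-- Hilbert polynomials are unique. -/
theorem eq_of_isHilbPoly {L G : X.Modules} {P P' : Polynomial ℚ} (h : ShStab.IsHilbPoly k X L G P)
    (h' : ShStab.IsHilbPoly k X L G P') : P = P' :=
  Polynomial.eq_of_infinite_eval_eq _ _ <| Set.infinite_of_injective_forall_mem
    (f := fun m : ℕ => (m : ℚ)) Nat.cast_injective fun m => (h m).symm.trans (h' m)

theorem eq_zero_of_isZero {L G : X.Modules} {P : Polynomial ℚ} (h : ShStab.IsHilbPoly k X L G P)
    (hG : IsZero G) : P = 0 := by
  refine eq_of_isHilbPoly h fun m => ?_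
  haveI := Curves.GlobalSections.isNoetherian_of_proper k X
  obtain ⟨d, hd⟩ := Snapper.DimBound.exists_dim_bound k X
  rw [Snapper.Chi.euler_eq_eulerCharLE hd,
    Snapper.Chi.eulerCharLE_isZero (F := ShStab.twist X L G m)
      ((tensorBy (CohB1.tensorPow L m)).map_isZero hG) d]
  simp

/-- **Degree and positivity.** -/
theorem spec {L G : X.Modules} (hL : CohB1.IsAmple L) (hG : Coh.IsCoh G) (h0 : ¬ IsZero G)
    {P : Polynomial ℚ} (hP : ShStab.IsHilbPoly k X L G P) {D : ℕ}
    (hD : topologicalKrullDim (CohB1.support G) = (D : WithBot ℕ∞)) :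
    P.natDegree = D ∧ 0 < P.leadingCoeff := by
  haveI := Curves.GlobalSections.isNoetherian_of_proper k X
  have hLi := (Ample.Pow.isAmple_iff.1 hL).1
  obtain ⟨P', hP', hdeg⟩ := exists_hilbPoly (k := k) hLi hG D hD.le
  obtain rfl := eq_of_isHilbPoly hP hP'
  obtain ⟨N, r, j, hN, hji, hj, hjL⟩ := exists_embedding (k := k) hL
  haveI := isNoetherian_proj r k
  let M := (Coh.push j).obj G
  have hM : Coh.IsCoh M := Cyc.Dev.SchemeEquiv.isCoh_push j hG
  obtain ⟨Q, hQ⟩ := exists_chiPoly hM
  have hQP : Q = P.comp (Polynomial.C (N : ℚ) * Polynomial.X) := by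
    refine Polynomial.eq_of_infinite_eval_eq _ _ (Set.infinite_of_injective_forall_mem
      (f := fun m : ℕ => (m : ℚ)) Nat.cast_injective fun t => ?_)
    have h1 := UnifReg.OnX.euler_twist j hj hjL hG t
    have e : ShStab.twist X (CohB1.tensorPow L N) G t ≅ ShStab.twist X L G (N * t) :=
      tensorIso (Iso.refl G) (Ample.Pow.powMul L N t)
    have h2 : Curv2.euler k X (ShStab.twist X (CohB1.tensorPow L N) G t) =
        Curv2.euler k X (ShStab.twist X L G (N * t)) := by
      obtain ⟨d, hd⟩ := Snapper.DimBound.exists_dim_bound k X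
      rw [Snapper.Chi.euler_eq_eulerCharLE hd, Snapper.Chi.euler_eq_eulerCharLE hd]
      exact Snapper.Chi.eulerCharLE_of_iso e d
    simp only [Set.mem_setOf_eq, Polynomial.eval_comp, Polynomial.eval_mul, Polynomial.eval_C,
      Polynomial.eval_X]
    rw [show (t : ℚ) = ((t : ℤ) : ℚ) from (Int.cast_natCast t).symm, ← hQ, ← h1, h2, hP (N * t)]
    push_cast
    ring_nf
  have hlow : ¬ P.degree < (D : WithBot ℕ) := fun hlt => by
    refine lt_irrefl (D : WithBot ℕ∞) (lt_of_eq_of_lt ?_ (dim_lt_of_degree_lt hM hQ (D := D) ?_))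
    · rw [dim_support_push j G, hD]
    · rw [hQP]
      refine lt_of_le_of_lt ?_ hlt
      rcases eq_or_ne P 0 with rfl | hP0
      · simp
      · rw [Polynomial.degree_eq_natDegree hP0]
        refine Polynomial.degree_le_natDegree.trans (WithBot.coe_le_coe.2 ?_)
        refine Polynomial.natDegree_comp_le.trans ?_
        refine (Nat.mul_le_mul_left _ ?_).trans_eq (mul_one _)
        exact Polynomial.natDegree_C_mul_X_pow_le (N : ℚ) 1 |>.trans' (by rw [pow_one])
  have hP0 : P ≠ 0 := by
    rintro rfl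
    exact hlow (Polynomial.degree_zero.trans_lt (WithBot.bot_lt_coe _))
  rw [Polynomial.degree_eq_natDegree hP0, Nat.cast_lt, not_lt] at hlow
  refine ⟨le_antisymm hdeg hlow, ?_⟩
  -- `χ = h⁰ ≥ 0` far out
  have hQ0 : StabCat.PolyLE 0 Q := by
    obtain ⟨d₀, hd₀⟩ := exists_forall_subsingleton M hM
    refine ⟨d₀, fun m hm => ?_⟩
    rw [Polynomial.eval_zero, show (m : ℚ) = ((m : ℤ) : ℚ) from (Int.cast_natCast m).symm, ← hQ]
    have hc : chi M (m : ℤ) = (hd M m : ℤ) := by
      unfold chi FGA.eulerCharLE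
      rw [Finset.sum_eq_single 0 (fun q _ hq => ?_) (by simp)]
      · simp [hd, Curves.Euler.hdim]
      · obtain ⟨q', rfl⟩ : ∃ q', q = q' + 1 := ⟨q - 1, by omega⟩
        have := hd₀ (m : ℤ) (by omega) q'
        simp [Module.finrank_zero_of_subsingleton]
    rw [hc]
    positivity
  rw [PolyOrder.polyLE_iff, sub_zero, hQP, Polynomial.leadingCoeff_comp (by
      rw [Polynomial.natDegree_C_mul_X _ (by exact_mod_cast hN.ne')]; exact one_ne_zero),
    Polynomial.leadingCoeff_mul_X, Polynomial.leadingCoeff_C] at hQ0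
  have hNpos : (0 : ℚ) < (N : ℚ) ^ P.natDegree := pow_pos (by exact_mod_cast hN) _
  exact lt_of_le_of_ne (by nlinarith [hQ0]) (Ne.symm (Polynomial.leadingCoeff_ne_zero.2 hP0))

end Groth.Agent.Lib.ShStab.HilbPoly
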