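import Groth.Agent.Lib.ShStab.Basics
import Groth.Agent.Lib.ShStab.Saturation

/-!
# Semistable modules of a fixed reduced polynomial: kernels and cokernels
-/

set_option autoImplicit false
universe u

open CategoryTheory CategoryTheory.Limits AlgebraicGeometry Polynomial StabCat

noncomputable section

namespace Groth.Agent.Lib.ShStab.AbelianSub

open Groth.Agent.Lib SubLattice PolyOrder

section Poly

variable {d : ℕ} {A B P : ℚ[X]}

theorem redLE_sub_left (h : RedLE d (A + B) P) (hA : RedEq d A P) : RedLE d B P := by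
  obtain ⟨N, hN⟩ := h
  refine ⟨N, fun m hm => ?_⟩
  have e := hN m hm
  have e' := congrArg (Polynomial.eval (m : ℚ)) hA
  simp only [Polynomial.eval_smul, smul_eq_mul, Polynomial.eval_add, alpha_add] at e e' ⊢
  linarith

theorem redEq_sub_left (h : RedEq d (A + B) P) (hA : RedEq d A P) : RedEq d B P := by
  unfold RedEq at *
  rw [alpha_add, smul_add, add_smul, hA] at h
  exact add_left_cancel h

end Poly

variable {k : Type u} [Field k] {X : Scheme.{u}} [X.Over (Spec (CommRingCat.of k))]
  [IsProper (X ↘ Spec (CommRingCat.of k))] [AlgebraicGeometry.IsNoetherian X] {L : X.Modules}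
  (hL : CohB1.IsAmple L) {d : ℕ}

include hL

omit [AlgebraicGeometry.IsNoetherian X] in
theorem isPure_congr {M N : X.Modules} (e : M ≅ N) (h : ShStab.IsPure X M d) :
    ShStab.IsPure X N d := fun G κ hκ hG h0 =>
  h G (κ ≫ e.inv) inferInstance hG h0

/-- The image has the reduced polynomial of the source. -/
theorem redEq_image {E F : X.Modules} (hE : ShStab.IsSemistable k X L E d)
    (hF : ShStab.IsSemistable k X L F d) (hred : RedEq d (hp k L E) (hp k L F)) {f : E ⟶ F}
    (hf : f ≠ 0) : RedEq d (hp k L (Abelian.image f)) (hp k L E) := by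
  have hI := CohBasics.Closure.isCoh_image f hE.1.1 hF.1
  have h0 := Basics.not_isZero_image hf
  exact redEq_iff.2 ⟨redLE_trans (Basics.alpha_pos_of_pure hL hF.2.2.1 (Abelian.image.ι f) hI h0)
    (Saturation.alpha_pos hL hF.1 hF.2.1 hF.2.2.1) (Saturation.alpha_pos hL hE.1 hE.2.1 hE.2.2.1)
    (Basics.redLE_sub hL hF (Abelian.image.ι f) hI h0) (redEq_iff.1 hred).2,
    Basics.redLE_image hL hE hF.1 hf⟩

/-- The kernel. -/
theorem kernel_isSemistable {E F : X.Modules} (hE : ShStab.IsSemistable k X L E d)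
    (hF : ShStab.IsSemistable k X L F d) (hred : RedEq d (hp k L E) (hp k L F)) (f : E ⟶ F)
    (hz : ¬ IsZero (kernel f)) :
    ShStab.IsSemistable k X L (kernel f) d ∧ RedEq d (hp k L (kernel f)) (hp k L E) := by
  have hK := CohBasics.Closure.isCoh_kernel f hE.1 hF.1.1
  have hr : RedEq d (hp k L (kernel f)) (hp k L E) := by
    by_cases hf : f = 0
    · subst hf
      rw [hp_iso k hL (kernelZeroIsoSource (X := E) (Y := F)).symm hE.1]
      rfl
    · refine redEq_sub_left (A := hp k L (Abelian.image f)) ?_ (redEq_image hL hE hF hred hf)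
      rw [add_comm, ← Basics.hp_kernel_image hL f hE.1 hF.1]
      rfl
  refine ⟨⟨hK, hz, fun G κ hκ hG h0 => hE.2.2.1 G (κ ≫ kernel.ι f) inferInstance hG h0,
    fun G κ hκ hG h0 _ pG pK hpG hpK => ?_⟩, hr⟩
  haveI := hκ
  rw [← hp_eq k L hpG, ← hp_eq k L hpK]
  exact redLE_trans (Basics.alpha_pos_of_pure hL hE.2.2.1 (κ ≫ kernel.ι f) hG h0)
    (Saturation.alpha_pos hL hE.1 hE.2.1 hE.2.2.1)
    (Basics.alpha_pos_of_pure hL hE.2.2.1 (kernel.ι f) hK hz)
    (Basics.redLE_sub hL hE (κ ≫ kernel.ι f) hG h0) (redEq_iff.1 hr).2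

/-- The cokernel. -/
theorem cokernel_isSemistable {E F : X.Modules} (hE : ShStab.IsSemistable k X L E d)
    (hF : ShStab.IsSemistable k X L F d) (hred : RedEq d (hp k L E) (hp k L F)) (f : E ⟶ F)
    (hz : ¬ IsZero (cokernel f)) :
    ShStab.IsSemistable k X L (cokernel f) d ∧ RedEq d (hp k L (cokernel f)) (hp k L E) := by
  have hQ := CohBasics.Closure.isCoh_cokernel f hE.1.1 hF.1
  have aE := Saturation.alpha_pos (k := k) hL hE.1 hE.2.1 hE.2.2.1
  have aF := Saturation.alpha_pos (k := k) hL hF.1 hF.2.1 hF.2.2.1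
  let I := hp k L (kernel (cokernel.π f))
  have hK := CohBasics.Closure.isCoh_kernel (cokernel.π f) hF.1 hQ.1
  have hsum : hp k L F = I + hp k L (cokernel f) :=
    hp_add k hL (S := ShortComplex.mk (kernel.ι (cokernel.π f)) (cokernel.π f) (kernel.condition _))
      { exact := ShortComplex.exact_kernel _ } hK hF.1 hQ
  have hI : RedEq d I (hp k L F) := by
    by_cases hf : f = 0
    · subst hf
      have hK0 : IsZero (kernel (cokernel.π (0 : E ⟶ F))) := by
        haveI : Mono (cokernel.π (0 : E ⟶ F)) := inferInstance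
        exact isZero_kernel_of_mono _
      simp [I, hp_isZero k hL hK0, RedEq, alpha]
    · have h1 := redEq_image hL hE hF hred hf
      exact redEq_iff.2 ⟨redLE_trans (Basics.alpha_pos_of_pure hL hF.2.2.1 (Abelian.image.ι f)
          (CohBasics.Closure.isCoh_image f hE.1.1 hF.1) (Basics.not_isZero_image hf)) aE aF
          (redEq_iff.1 h1).1 (redEq_iff.1 hred).1,
        redLE_trans aF aE (Basics.alpha_pos_of_pure hL hF.2.2.1 (Abelian.image.ι f)
          (CohBasics.Closure.isCoh_image f hE.1.1 hF.1) (Basics.not_isZero_image hf))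
          (redEq_iff.1 hred).2 (redEq_iff.1 h1).2⟩
  have hrF : RedEq d (hp k L (cokernel f)) (hp k L F) :=
    redEq_sub_left (A := I) (by rw [← hsum]; rfl) hI
  have hsub : ∀ (G : X.Modules) (κ : G ⟶ cokernel f) [Mono κ], Coh.IsCoh G → ¬ IsZero G →
      RedLE d (hp k L G) (hp k L F) := fun G κ _ hG h0 => by
    let g := cokernel.π f ≫ cokernel.π κ
    have hR : Coh.IsCoh (cokernel κ) := CohBasics.Closure.isCoh_cokernel κ hG.1 hQ
    have hP := CohBasics.Closure.isCoh_kernel g hF.1 hR.1
    have hPp : hp k L (kernel g) = I + hp k L G := by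
      have h1 := hp_add k hL (S := ShortComplex.mk (kernel.ι g) g (kernel.condition g))
        { exact := ShortComplex.exact_kernel g } hP hF.1 hR
      have h2 := hp_cokernel k hL κ hG hQ
      change hp k L F = hp k L (kernel g) + hp k L (cokernel κ) at h1
      linear_combination -h1 + hsum - h2
    have hP0 : ¬ IsZero (kernel g) := fun hP0 => h0 (by
      haveI : Mono g := Preadditive.mono_of_isZero_kernel _ hP0
      haveI : Mono (cokernel.π f) := mono_of_mono (cokernel.π f) (cokernel.π κ)
      haveI := isIso_of_mono_of_epi (cokernel.π f)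
      haveI : Mono (cokernel.π κ) := by
        rw [← IsIso.inv_hom_id_assoc (cokernel.π f) (cokernel.π κ)]
        exact mono_comp _ g
      exact IsZero.of_mono_eq_zero κ (by rw [← cancel_mono (cokernel.π κ)]; simp))
    refine redLE_sub_left (A := I) ?_ hI
    rw [← hPp]
    exact Basics.redLE_sub hL hF (kernel.ι g) hP hP0
  have hQp : ShStab.IsPure X (cokernel f) d := fun G κ hκ hG h0 => by
    haveI := hκ
    have hle := hsub G κ hG h0
    have hd : (hp k L G).natDegree ≤ d := by
      have hdQ : (hp k L (cokernel f)).natDegree ≤ d := by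
        rw [show hp k L (cokernel f) = hp k L F - I by rw [hsum]; ring]
        exact (natDegree_sub_le _ _).trans (max_le (Basics.natDegree_le_of_pure hL hF.2.2.1 (𝟙 F) hF.1)
          (Basics.natDegree_le_of_pure hL hF.2.2.1 (kernel.ι _) hK))
      have hR : Coh.IsCoh (cokernel κ) := CohBasics.Closure.isCoh_cokernel κ hG.1 hQ
      have e : hp k L (cokernel f) = hp k L G + hp k L (cokernel κ) := by
        rw [hp_cokernel k hL κ hG hQ]; ring
      rw [e] at hdQ
      refine (Basics.natDegree_le_of_add (Interval.lc_pos hL hG h0) ?_).trans hdQ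
      by_cases hR0 : IsZero (cokernel κ)
      · simp [hp_isZero k hL hR0]
      · exact (Interval.lc_pos hL hR hR0).le
    refine (Interval.dim_eq_iff (k := k) hL hG h0 d).2 (Interval.natDegree_eq_of_alpha_pos hL hd ?_)
    have hl := Interval.lc_pos (k := k) hL hG h0
    rcases hd.lt_or_eq with hlt | heq
    · exfalso
      have a0 : alpha d (hp k L G) = 0 := by simp [alpha, coeff_eq_zero_of_natDegree_lt hlt]
      rw [RedLE, a0, zero_smul, polyLE_iff, zero_sub, leadingCoeff_neg, smul_eq_C_mul, leadingCoeff_mul, leadingCoeff_C] at hle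
      nlinarith
    · exact alpha_pos heq hl
  have aQ := Saturation.alpha_pos (k := k) hL hQ hz hQp
  refine ⟨⟨hQ, hz, hQp, fun G κ hκ hG h0 _ pG pQ hpG hpQ => ?_⟩,
    redEq_iff.2 ⟨redLE_trans aQ aF aE (redEq_iff.1 hrF).1 (redEq_iff.1 hred).2,
      redLE_trans aE aF aQ (redEq_iff.1 hred).1 (redEq_iff.1 hrF).2⟩⟩
  haveI := hκ
  rw [← hp_eq k L hpG, ← hp_eq k L hpQ]
  exact redLE_trans (Basics.alpha_pos_of_pure hL hQp κ hG h0) aF aQ (hsub G κ hG h0) (redEq_iff.1 hrF).2

end Groth.Agent.Lib.ShStab.AbelianSub
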