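import Groth.Agent.Lib.ShStab.FreeFactor
import Groth.Agent.Lib.Cyc.Dev.Scheme
import Mathlib.RingTheory.Nakayama

/-!
# Morphisms of semistable modules vanishing at a point
-/

set_option autoImplicit false
universe u

open CategoryTheory CategoryTheory.Limits AlgebraicGeometry StabCat TopologicalSpace

noncomputable section

namespace Groth.Agent.Lib.ShStab.HomVanish

open Groth.Agent.Lib SubLattice PolyOrder FreeAt FactorMatch FreeFactor Modules

/-- A proper closed subset of an irreducible space has smaller dimension. -/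
theorem eq_univ_of_dim {T : Type u} [TopologicalSpace T] [IrreducibleSpace T] {Y : Set T}
    (hY : IsClosed Y) {d : ℕ} (hT : topologicalKrullDim T = (d : WithBot ℕ∞))
    (hd : topologicalKrullDim Y = (d : WithBot ℕ∞)) : Y = Set.univ := by
  by_contra hne
  obtain ⟨l, hl⟩ := Order.le_krullDim_iff.mp (hd.ge :
    (d : WithBot ℕ∞) ≤ Order.krullDim (IrreducibleCloseds Y))
  let top : IrreducibleCloseds T := ⟨Set.univ, IrreducibleSpace.isIrreducible_univ T, isClosed_univ⟩
  let l' := l.map _ (IrreducibleCloseds.map_strictMono_of_isInducing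
    (f := ((↑) : Y → T)) Topology.IsInducing.subtypeVal)
  have hlast : l'.last < top := by
    refine lt_of_le_of_ne (fun a _ => trivial) fun he => hne ?_
    have h : closure (((↑) : Y → T) '' (l.last : Set Y)) = Set.univ :=
      congrArg (fun Z : IrreducibleCloseds T => (Z : Set T)) he
    refine Set.eq_univ_of_univ_subset (h.symm.trans_le ?_)
    exact hY.closure_subset_iff.mpr (by rintro _ ⟨a, -, rfl⟩; exact a.2)
  have h := Order.LTSeries.length_le_krullDim (l'.snoc top hlast)
  rw [show Order.krullDim (IrreducibleCloseds T) = (d : WithBot ℕ∞) from hT] at h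
  have hlen : (l'.snoc top hlast).length = d + 1 := by
    rw [RelSeries.snoc_length]
    exact congrArg (· + 1) hl
  rw [hlen] at h
  exact absurd h (by exact_mod_cast Nat.not_succ_le_self d)

variable {k : Type u} [Field k] {X : Scheme.{u}} [X.Over (Spec (CommRingCat.of k))]
  [IsProper (X ↘ Spec (CommRingCat.of k))] [AlgebraicGeometry.IsNoetherian X] {L : X.Modules}

/-- A map of semistable modules with free gradeds which vanishes at the point is zero. -/
theorem hom_eq_zero (hL : CohB1.IsAmple L) {d : ℕ} [IrreducibleSpace X]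
    (hX : topologicalKrullDim X = (d : WithBot ℕ∞)) {E F : X.Modules}
    (hE : ShStab.IsSemistable k X L E d) (hF : ShStab.IsSemistable k X L F d)
    (hred : RedEq d (hp k L E) (hp k L F)) {Z : Scheme.{u}} (ξ : Z ⟶ X) [IsClosedImmersion ξ]
    (z : Z) {sE : LTSeries (Subobject E)} (hsE : ShStab.IsJHFiltration k X L E d sE)
    (hfE : ∀ i, Fr (factor sE i) (ξ z))
    {sF : LTSeries (Subobject F)} (hsF : ShStab.IsJHFiltration k X L F d sF)
    (hfF : ∀ i, Fr (factor sF i) (ξ z)) (f : E ⟶ F)
    (hf : (Scheme.Modules.pullback ξ).map f = 0) : f = 0 := by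
  by_contra hf0
  set x := ξ z
  have aE := (Saturation.alpha_pos (k := k) hL hE.1 hE.2.1 hE.2.2.1).ne'
  let I := Abelian.image f
  have hI : Coh.IsCoh I := CohBasics.Closure.isCoh_image f hE.1.1 hF.1
  have hIr : RedEq d (hp k L I) (hp k L F) :=
    redEq_of_pair aE (AbelianSub.redEq_image hL hE hF hred hf0) hred
  obtain ⟨t, ht⟩ := exists_jh_or_zero hL (Or.imp id And.left
    (quot_good hL hF (Abelian.image.ι f) hI hIr))
  have hC := fr_whole ht.1 ht.2.1 (fr_quot hL hF hsF hfF (Abelian.image.ι f) hI hIr ht)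
  have hFfr := fr_whole hsF.1 hsF.2.1 hfF
  have hEfr := fr_whole hsE.1 hsE.2.1 hfE
  haveI := hC.1
  haveI := hEfr.2
  -- the image at the point is a direct summand inside the maximal ideal
  have hses : (ShortComplex.mk (Abelian.image.ι f) (cokernel.π (Abelian.image.ι f))
      (cokernel.condition _)).ShortExact := { exact := ShortComplex.exact_cokernel _ }
  obtain ⟨-, hex, hsur⟩ := CurveBundle.Rank.stalk_exact hses x
  obtain ⟨l, hl⟩ := Module.projective_lifting_property
    (StalkModule.stalkMapₗ (cokernel.π (Abelian.image.ι f)) x) LinearMap.id hsur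
  let R := LinearMap.range (StalkModule.stalkMapₗ f x)
  let P : F.presheaf.stalk x →ₗ[X.presheaf.stalk x] F.presheaf.stalk x :=
    LinearMap.id - l.comp (StalkModule.stalkMapₗ (cokernel.π (Abelian.image.ι f)) x)
  have hfac : Function.Surjective (StalkModule.stalkMapₗ (Abelian.factorThruImage f) x) :=
    (StalkModule.epi_iff_stalkMapₗ_surjective _).1 inferInstance x
  have hfc : StalkModule.stalkMapₗ f x = (StalkModule.stalkMapₗ (Abelian.image.ι f) x).comp
      (StalkModule.stalkMapₗ (Abelian.factorThruImage f) x) := by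
    rw [← StalkModule.stalkMapₗ_comp, Abelian.image.fac]
  have hP : ∀ v, P v ∈ R := fun v => by
    obtain ⟨w, hw⟩ := (hex (P v)).mp (by
      simp only [P, LinearMap.sub_apply, LinearMap.id_apply, LinearMap.comp_apply, map_sub]
      exact sub_eq_zero.mpr (LinearMap.congr_fun hl _).symm)
    obtain ⟨e, rfl⟩ := hfac w
    exact ⟨e, by rw [hfc]; exact hw⟩
  have hPR : ∀ v ∈ R, P v = v := by
    rintro _ ⟨e, rfl⟩
    have h0 : StalkModule.stalkMapₗ (cokernel.π (Abelian.image.ι f)) x
        (StalkModule.stalkMapₗ f x e) = 0 := by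
      rw [hfc]; exact (hex _).mpr ⟨_, rfl⟩
    simp only [P, LinearMap.sub_apply, LinearMap.id_apply, LinearMap.comp_apply, h0, map_zero,
      sub_zero]
  -- values lie in `m F`
  have hm : ∀ v ∈ R, v ∈ IsLocalRing.maximalIdeal (X.presheaf.stalk x) •
      (⊤ : Submodule (X.presheaf.stalk x) (F.presheaf.stalk x)) := by
    rintro _ ⟨e, rfl⟩
    refine Submodule.smul_mono_left (IsLocalRing.le_maximalIdeal (RingHom.ker_ne_top _))
      (Cyc.Dev.SchemeCase.stalk_kernel_unit_le ξ F z _ ?_)
    have hn := (Scheme.Modules.pullbackPushforwardAdjunction ξ).unit.naturality f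
    have hz : f ≫ (Scheme.Modules.pullbackPushforwardAdjunction ξ).unit.app F = 0 := by
      refine hn.trans ?_
      rw [Functor.comp_map, hf, Functor.map_zero, comp_zero]
    rw [← LinearMap.comp_apply, ← StalkModule.stalkMapₗ_comp]
    exact LinearMap.congr_fun
      ((congrArg (fun φ => StalkModule.stalkMapₗ φ (ξ z)) hz).trans (StalkModule.stalkMapₗ_zero _)) e
  have hR : R = ⊥ := by
    have hfg : R.FG := by
      rw [show R = Submodule.map (StalkModule.stalkMapₗ f x) ⊤ from LinearMap.range_eq_map _]
      exact Submodule.FG.map _ Module.Finite.fg_top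
    refine Submodule.eq_bot_of_le_smul_of_le_jacobson_bot (IsLocalRing.maximalIdeal _) R hfg
      (fun v hv => ?_) (IsLocalRing.jacobson_eq_maximalIdeal ⊥ bot_ne_top).ge
    rw [← hPR v hv]
    have h2 : Submodule.map P (IsLocalRing.maximalIdeal (X.presheaf.stalk x) • ⊤) ≤
        IsLocalRing.maximalIdeal (X.presheaf.stalk x) • R := by
      rw [Submodule.map_smul'']
      exact smul_mono_right _ (by rintro _ ⟨v, -, rfl⟩; exact hP v)
    exact h2 ⟨v, hm v hv, rfl⟩
  -- but the image lives everywhere
  have hI0 : ¬ IsZero I := Basics.not_isZero_image hf0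
  have hu := eq_univ_of_dim (by have := hI.2; exact Modules.Support.isClosed_support I) hX
    (hF.2.2.1 I (Abelian.image.ι f) inferInstance hI hI0)
  have hxI : x ∈ CohB1.support I := hu ▸ Set.mem_univ x
  refine hxI (subsingleton_of_forall_eq 0 fun w => ?_)
  obtain ⟨e, rfl⟩ := hfac w
  have h1 : StalkModule.stalkMapₗ f x e ∈ R := ⟨e, rfl⟩
  rw [hR, Submodule.mem_bot, hfc] at h1
  exact (CurveBundle.Rank.stalk_exact hses x).1 (h1.trans (map_zero _).symm)

end Groth.Agent.Lib.ShStab.HomVanish
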