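import Groth.Agent.Lib.CurveBundle.EndAlg
import Groth.Agent.Lib.RefHull.HomSh
import Groth.Agent.Lib.Snapper.Finite
import Groth.Agent.Lib.Curves.GlobalSections
import Mathlib.RingTheory.IntegralClosure.IsIntegralClosure.Basic
import Mathlib.LinearAlgebra.FiniteDimensional.Basic

/-!
# Endomorphisms of coherent modules on a proper scheme form a finite algebra; Schur's lemma
-/

set_option autoImplicit false
universe u

open CategoryTheory CategoryTheory.Limits AlgebraicGeometry Opposite

noncomputable section

namespace Groth.Agent.Lib.ShStab.SimpleEnd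

open Groth.Agent.Lib CurveBundle

variable (k : Type u) [Field k] {X : Scheme.{u}} [X.Over (Spec (CommRingCat.of k))]

theorem stalkMapₗ_eq {M N : X.Modules} (φ : M ⟶ N) (x : X) :
    RefHull.stalkMapₗ φ x = Modules.StalkModule.stalkMapₗ φ x :=
  LinearMap.ext fun _ => rfl

/-- The endomorphisms of a coherent module form a finite dimensional vector space. -/
theorem finiteDimensional [IsProper (X ↘ Spec (CommRingCat.of k))] {M : X.Modules} (hM : Coh.IsCoh M) :
    letI := EndAlg.algEnd k M
    FiniteDimensional k (End M) := by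
  letI := EndAlg.algEnd k M
  have := Curves.GlobalSections.isNoetherian_of_proper k X
  let H : X.Modules := RefHull.homSh M M
  letI := Curves.GlobalSections.secModule k H
  have : FiniteDimensional k (Coh.HH X H 0) :=
    Snapper.Finite.cohFinite k X H (RefHull.HomSh.isCoh_homSh hM hM) 0
  have : FiniteDimensional k (H.val.obj (op ⊤) : Type u) :=
    Module.Finite.equiv (Curves.GlobalSections.h0Linear k H)
  let f : End M →ₗ[k] (H.val.obj (op ⊤) : Type u) :=
    { toFun := fun φ => RefHull.ofHom φ ⊤
      map_add' := fun φ ψ => Subtype.ext (funext fun x => by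
        change RefHull.stalkMapₗ (φ + ψ) x.1 = RefHull.stalkMapₗ φ x.1 + RefHull.stalkMapₗ ψ x.1
        simp only [stalkMapₗ_eq]
        exact Modules.StalkModule.stalkMapₗ_add _ _ _)
      map_smul' := fun c φ => Subtype.ext (funext fun x => LinearMap.ext fun v => by
        change RefHull.stalkMapₗ (φ ≫ EndAlg.scal M (EndAlg.cst X k c)) x.1 v = _
        rw [stalkMapₗ_eq, Modules.StalkModule.stalkMapₗ_comp, LinearMap.comp_apply, EndAlg.stalk_scal]
        rfl) }
  refine FiniteDimensional.of_injective f fun φ ψ e => Modules.StalkModule.hom_ext_stalkMapₗ fun x => ?_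
  have := congrFun (congrArg Subtype.val e) ⟨x, trivial⟩
  change RefHull.stalkMapₗ φ x = RefHull.stalkMapₗ ψ x at this
  rwa [stalkMapₗ_eq, stalkMapₗ_eq] at this

/-- **Schur's lemma**: over an algebraically closed field, if every nonzero endomorphism of a
coherent module is invertible then every endomorphism is a scalar. -/
theorem exists_scalar [IsAlgClosed k] [IsProper (X ↘ Spec (CommRingCat.of k))] {M : X.Modules}
    (hM : Coh.IsCoh M) (hiso : ∀ ψ : M ⟶ M, ψ ≠ 0 → IsIso ψ) (φ : M ⟶ M) :
    ∃ c : k, φ = EndAlg.scal M (EndAlg.cst X k c) := by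
  by_cases hz : IsZero M
  · exact ⟨0, hz.eq_of_src _ _⟩
  letI := EndAlg.algEnd k M
  have := finiteDimensional k hM
  haveI : Nontrivial (End M) := ⟨⟨1, 0, fun h10 => hz ((IsZero.iff_id_eq_zero M).mpr h10)⟩⟩
  obtain ⟨p, hp, hp0⟩ := IsIntegral.of_finite k (show End M from φ)
  obtain ⟨a, ha⟩ : ∃ a : k, ¬ IsUnit ((show End M from φ) - algebraMap k (End M) a) := by
    by_contra hall
    push Not at hall
    have hsplit := Polynomial.Splits.eq_prod_roots (IsAlgClosed.splits p)
    rw [hp.leadingCoeff, map_one, one_mul] at hsplit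
    have hu : IsUnit (Polynomial.aeval (show End M from φ) p) := by
      rw [hsplit]
      generalize p.roots = s
      induction s using Multiset.induction_on with
      | empty => rw [Multiset.map_zero, Multiset.prod_zero, map_one]; exact isUnit_one
      | cons b s ih =>
        rw [Multiset.map_cons, Multiset.prod_cons, map_mul, Polynomial.aeval_sub,
          Polynomial.aeval_X, Polynomial.aeval_C]
        exact (hall b).mul ih
    rw [Polynomial.aeval_def, hp0] at hu
    exact not_isUnit_zero hu
  refine ⟨a, ?_⟩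
  by_contra hne
  refine ha ((isUnit_iff_isIso _).2 (hiso _ ?_))
  exact sub_ne_zero.2 hne

/-- The scalar in the form used by the statements. -/
theorem exists_scalar_apply [IsAlgClosed k] [IsProper (X ↘ Spec (CommRingCat.of k))] {M : X.Modules}
    (hM : Coh.IsCoh M) (hiso : ∀ ψ : M ⟶ M, ψ ≠ 0 → IsIso ψ) (φ : M ⟶ M) :
    ∃ c : k, ∀ (V : X.Opens) (s : M.val.obj (op V)),
      (φ.val.app (op V)) s =
        (X.ringCatSheaf.obj.map (homOfLE (le_top : V ≤ ⊤)).op
          (Coh.toGlobal (X ↘ Spec (CommRingCat.of k)) c : X.ringCatSheaf.obj.obj (op ⊤))) • s := by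
  obtain ⟨c, hc⟩ := exists_scalar k hM hiso φ
  refine ⟨c, fun V s => ?_⟩
  rw [hc]
  rfl

end Groth.Agent.Lib.ShStab.SimpleEnd
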