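import Groth.Agent.Lib.ShStab.HN

/-!
# Morphisms between semistable modules; truncations
-/

set_option autoImplicit false
universe u

open CategoryTheory CategoryTheory.Limits AlgebraicGeometry TopologicalSpace StabCat

noncomputable section

namespace Groth.Agent.Lib.ShStab.Basics

open Groth.Agent.Lib SubLattice Interval PolyOrder

section Poly

variable {d : ℕ} {A B : Polynomial ℚ}

theorem natDegree_le_of_add (hA : 0 < A.leadingCoeff) (hB : 0 ≤ B.leadingCoeff) :
    A.natDegree ≤ (A + B).natDegree := by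
  rcases eq_or_ne B 0 with rfl | hB0
  · simp
  have hA0 : A ≠ 0 := Polynomial.leadingCoeff_ne_zero.1 hA.ne'
  rcases lt_trichotomy A.natDegree B.natDegree with h | h | h
  · rw [Polynomial.natDegree_add_eq_right_of_natDegree_lt h]; exact h.le
  · refine Polynomial.le_natDegree_of_ne_zero ?_
    rw [Polynomial.coeff_add]
    conv in B.coeff _ => rw [h]
    show A.leadingCoeff + B.leadingCoeff ≠ 0
    exact (add_pos_of_pos_of_nonneg hA hB).ne'
  · rw [Polynomial.natDegree_add_eq_left_of_natDegree_lt h]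

theorem topPart_coeff (ℓ d : ℕ) (P : Polynomial ℚ) (i : ℕ) :
    (topPart ℓ d P).coeff i = if i ∈ Finset.Icc (d - ℓ) d then P.coeff i else 0 := by
  simp [topPart, Polynomial.finsetSum_coeff, Polynomial.coeff_monomial, Finset.sum_ite_eq']

theorem alpha_topPart (ℓ d : ℕ) (P : Polynomial ℚ) : alpha d (topPart ℓ d P) = alpha d P := by
  simp [alpha, topPart_coeff]

theorem topPart_self {P : Polynomial ℚ} (h : P.natDegree ≤ d) : topPart d d P = P := by
  ext i
  rw [topPart_coeff]
  split
  · rfl
  · rw [Polynomial.coeff_eq_zero_of_natDegree_lt]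
    simp at *
    omega

theorem redLE_topPart {ℓ : ℕ} (hA : A.natDegree ≤ d) (hB : B.natDegree ≤ d) (h : StabCat.RedLE d A B) :
    StabCat.RedLE d (topPart ℓ d A) (topPart ℓ d B) := by
  unfold StabCat.RedLE at h ⊢
  rw [polyLE_iff] at h ⊢
  rw [alpha_topPart, alpha_topPart]
  set R := alpha d A • B - alpha d B • A with hR
  have hRd : R.natDegree ≤ d := (Polynomial.natDegree_sub_le _ _).trans
    (max_le ((Polynomial.natDegree_smul_le _ _).trans hB) ((Polynomial.natDegree_smul_le _ _).trans hA))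
  set R' := alpha d A • topPart ℓ d B - alpha d B • topPart ℓ d A with hR'
  have hc : ∀ i, R'.coeff i = if i ∈ Finset.Icc (d - ℓ) d then R.coeff i else 0 := fun i => by
    simp only [hR', hR, Polynomial.coeff_sub, Polynomial.coeff_smul, smul_eq_mul, topPart_coeff]
    split <;> simp
  rcases eq_or_ne R' 0 with h0 | h0
  · simp [h0]
  have h1 : R'.coeff R'.natDegree ≠ 0 := Polynomial.leadingCoeff_ne_zero.2 h0
  rw [hc] at h1
  split at h1
  · rename_i hmem
    have h2 := Polynomial.le_natDegree_of_ne_zero h1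
    simp only [Finset.mem_Icc] at hmem
    have h3 : R.natDegree ≤ R'.natDegree := by
      refine Polynomial.le_natDegree_of_ne_zero ?_
      rw [hc, if_pos (by simp only [Finset.mem_Icc]; omega)]
      exact Polynomial.leadingCoeff_ne_zero.2 fun e => h1 (by rw [e]; simp)
    show 0 ≤ R'.coeff R'.natDegree
    rw [hc, if_pos (by simp only [Finset.mem_Icc]; omega), le_antisymm (h2) h3]
    exact h
  · exact absurd rfl h1

theorem hatSlope_le_of_redLE (hA : A.natDegree ≤ d) (hB : B.natDegree ≤ d) (ha : 0 < alpha d A)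
    (hb : 0 < alpha d B) (h : StabCat.RedLE d A B) : hatSlope d A ≤ hatSlope d B := by
  unfold StabCat.RedLE at h
  rw [polyLE_iff] at h
  set R := alpha d A • B - alpha d B • A with hR
  rw [hatSlope, hatSlope, div_le_div_iff₀ ha hb]
  rcases Nat.eq_zero_or_pos d with rfl | hd
  · simp [mul_comm]
  have hRd : R.natDegree ≤ d := (Polynomial.natDegree_sub_le _ _).trans
    (max_le ((Polynomial.natDegree_smul_le _ _).trans hB) ((Polynomial.natDegree_smul_le _ _).trans hA))
  have htop : R.coeff d = 0 := by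
    simp [hR, alpha]; ring
  have h2 : 0 ≤ R.coeff (d - 1) := by
    rcases hRd.lt_or_eq with hlt | he
    · rcases (Nat.le_sub_one_of_lt hlt).lt_or_eq with hlt' | he'
      · rw [Polynomial.coeff_eq_zero_of_natDegree_lt hlt']
      · rw [← he']; exact h
    · have : R = 0 := Polynomial.leadingCoeff_eq_zero.1 (by rw [Polynomial.leadingCoeff, he]; exact htop)
      simp [this]
  simp only [hR, Polynomial.coeff_sub, Polynomial.coeff_smul, smul_eq_mul] at h2
  simp only [alpha] at h2 ⊢
  have hf : (0 : ℚ) < ((d - 1).factorial : ℚ) := by exact_mod_cast Nat.factorial_pos _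
  nlinarith

/-- A piece of smaller dimension. -/
theorem polyLT_add (hB : 0 < B.leadingCoeff) : StabCat.PolyLT A (A + B) := by
  rw [polyLT_iff, polyLE_iff, add_sub_cancel_left]
  refine ⟨hB.le, fun e => hB.ne' ?_⟩
  rw [left_eq_add.1 e]
  simp

theorem redLT_add_of_alpha_eq_zero (ha : 0 < alpha d A) (hb : alpha d B = 0)
    (hB : 0 < B.leadingCoeff) : StabCat.RedLT d A (A + B) := by
  rw [StabCat.RedLT, alpha_add, hb, add_zero, polyLT_smul_iff ha]
  exact polyLT_add hB

end Poly

variable {k : Type u} [Field k] {X : Scheme.{u}} [X.Over (Spec (CommRingCat.of k))]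
  [IsProper (X ↘ Spec (CommRingCat.of k))] [IsNoetherian X] {L : X.Modules} (hL : CohB1.IsAmple L)
  {d : ℕ}

include hL

omit [AlgebraicGeometry.IsNoetherian X] in
theorem natDegree_eq_of_pure {E G : X.Modules} (hpu : ShStab.IsPure X E d) (ι : G ⟶ E) [Mono ι]
    (hG : Coh.IsCoh G) (h0 : ¬ IsZero G) :
    (hp k L G).natDegree = d :=
  (dim_eq_iff hL hG h0 d).1 (hpu G ι inferInstance hG h0)

omit [AlgebraicGeometry.IsNoetherian X] in
theorem alpha_pos_of_pure {E G : X.Modules} (hpu : ShStab.IsPure X E d) (ι : G ⟶ E) [Mono ι]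
    (hG : Coh.IsCoh G) (h0 : ¬ IsZero G) : 0 < alpha d (hp k L G) :=
  alpha_pos_of_natDegree hL hG h0 (natDegree_eq_of_pure hL hpu ι hG h0)

omit [AlgebraicGeometry.IsNoetherian X] in
theorem natDegree_le_of_pure {E G : X.Modules} (hpu : ShStab.IsPure X E d) (ι : G ⟶ E) [Mono ι]
    (hG : Coh.IsCoh G) : (hp k L G).natDegree ≤ d := by
  by_cases h0 : IsZero G
  · simp [hp_isZero k hL h0]
  · exact (natDegree_eq_of_pure hL hpu ι hG h0).le

theorem hp_kernel_image {F G : X.Modules} (φ : F ⟶ G) (hF : Coh.IsCoh F) (hG : Coh.IsCoh G) :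
    hp k L F =
      hp k L (kernel φ) + hp k L (CategoryTheory.Abelian.image φ) :=
  hp_add k hL (S := ShortComplex.mk (kernel.ι φ) (CategoryTheory.Abelian.factorThruImage φ)
      (by rw [← cancel_mono (CategoryTheory.Abelian.image.ι φ)]; simp))
    { exact := by
        refine ShortComplex.exact_of_f_is_kernel _ (KernelFork.IsLimit.ofι _ _
          (fun g hg => kernel.lift φ g ?_) (fun g hg => kernel.lift_ι _ _ _) fun g hg m hm => ?_)
        · rw [← CategoryTheory.Abelian.image.fac φ, ← Category.assoc]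
          exact (congrArg (· ≫ CategoryTheory.Abelian.image.ι φ) hg).trans zero_comp
        · rw [← cancel_mono (kernel.ι φ), kernel.lift_ι]; exact hm }
    (CohBasics.Closure.isCoh_kernel φ hF hG.1) hF (CohBasics.Closure.isCoh_image φ hF.1 hG)

omit hL [AlgebraicGeometry.IsNoetherian X] [IsProper (X ↘ Spec (CommRingCat.of k))]
  [X.Over (Spec (CommRingCat.of k))] in
theorem not_isZero_image {F G : X.Modules} {φ : F ⟶ G} (hφ : φ ≠ 0) :
    ¬ IsZero (CategoryTheory.Abelian.image φ) := fun h => hφ (by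
  rw [← CategoryTheory.Abelian.image.fac φ, h.eq_of_tgt (CategoryTheory.Abelian.factorThruImage φ) 0,
    zero_comp])

omit hL [AlgebraicGeometry.IsNoetherian X] [IsProper (X ↘ Spec (CommRingCat.of k))]
  [X.Over (Spec (CommRingCat.of k))] in
theorem not_isIso_kernel {F G : X.Modules} {φ : F ⟶ G} (hφ : φ ≠ 0) : ¬ IsIso (kernel.ι φ) :=
  fun _ => hφ (by rw [← cancel_epi (kernel.ι φ), kernel.condition, comp_zero])

/-- A semistable module is at most as steep as its nonzero images in a pure module. -/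
theorem redLE_image {F G : X.Modules} (hF : ShStab.IsSemistable k X L F d) (hG : Coh.IsCoh G)
    {φ : F ⟶ G} (hφ : φ ≠ 0) :
    StabCat.RedLE d (hp k L F) (hp k L (CategoryTheory.Abelian.image φ)) := by
  have hK := CohBasics.Closure.isCoh_kernel φ hF.1 hG.1
  have h := hp_kernel_image (k := k) hL φ hF.1 hG
  by_cases hz : IsZero (kernel φ)
  · rw [h, hp_isZero k hL hz, zero_add]
    exact redLE_refl _ _
  · have hle := hF.2.2.2 _ (kernel.ι φ) inferInstance hK hz (not_isIso_kernel hφ) _ _
      (isHilbPoly_hp k hL hK) (isHilbPoly_hp k hL hF.1)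
    rw [h] at hle ⊢
    exact seesaw_le'.2 (seesaw_le.1 hle)

/-- Strictly so for a stable module, when the map has a kernel. -/
theorem redLT_image {F G : X.Modules} (hF : ShStab.IsStable k X L F d) (hG : Coh.IsCoh G)
    {φ : F ⟶ G} (hφ : φ ≠ 0) (hz : ¬ IsZero (kernel φ)) :
    StabCat.RedLT d (hp k L F) (hp k L (CategoryTheory.Abelian.image φ)) := by
  have hK := CohBasics.Closure.isCoh_kernel φ hF.1 hG.1
  have h := hp_kernel_image (k := k) hL φ hF.1 hG
  have hlt := hF.2.2.2 _ (kernel.ι φ) inferInstance hK hz (not_isIso_kernel hφ) _ _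
    (isHilbPoly_hp k hL hK) (isHilbPoly_hp k hL hF.1)
  rw [h, redLT_iff_not] at hlt
  rw [h, redLT_iff_not]
  exact fun h' => hlt (seesaw_ge.2 (seesaw_ge'.1 h'))

/-- Submodules of a semistable module are at most as steep. -/
theorem redLE_sub {G H : X.Modules} (hG : ShStab.IsSemistable k X L G d) (ι : H ⟶ G) [Mono ι]
    (hH : Coh.IsCoh H) (h0 : ¬ IsZero H) :
    StabCat.RedLE d (hp k L H) (hp k L G) := by
  by_cases hiso : IsIso ι
  · haveI := hiso
    rw [hp_iso k hL (asIso ι) hH]
    exact redLE_refl _ _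
  · exact hG.2.2.2 H ι inferInstance hH h0 hiso _ _ (isHilbPoly_hp k hL hH) (isHilbPoly_hp k hL hG.1)

omit [AlgebraicGeometry.IsNoetherian X] in
/-- Stable implies semistable. -/
theorem isSemistable_of_isStable {E : X.Modules} (hE : ShStab.IsStable k X L E d) :
    ShStab.IsSemistable k X L E d :=
  ⟨hE.1, hE.2.1, hE.2.2.1, fun F ι hι hF h0 hi pF pE hpF hpE =>
    (polyLT_iff.1 (hE.2.2.2 F ι hι hF h0 hi pF pE hpF hpE)).1⟩

end Groth.Agent.Lib.ShStab.Basics
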