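import Groth.Agent.Lib.ShStab.ComponentBounded
import Groth.Agent.Lib.CurveBundle.Vanishing
import Groth.Agent.Lib.SurfInt.CurvePos
import Groth.Agent.Lib.Ample.Pullback
import Groth.Agent.Lib.ModelFibre.TorsGen
import Groth.Agent.H34.DefAmple
import Groth.Agent.S7637

/-!
# Bounded families of bundles and the slopes of their quotients
-/

set_option autoImplicit false
set_option linter.style.haveILetI false
set_option linter.unusedSectionVars false
universe u

open CategoryTheory CategoryTheory.Limits AlgebraicGeometry TopologicalSpace StabCat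

noncomputable section

namespace Groth.Agent.Lib.ShStab.BoundedFamily

open Groth.Agent.Lib
open Groth.Agent.Lib.RefHull.PushU (P un)
open Groth.Agent.Lib.ShStab.ComponentLine (IsComp)
open Groth.Agent.Lib.CurveBundle.Degree (dg gr CurveCtx)

variable {k : Type u} [Field k] {Y : Scheme.{u}} [Y.Over (Spec (CommRingCat.of k))]
  [IsProper (Y ↘ Spec (CommRingCat.of k))]

theorem euler_twist {L : Y.Modules} (hL : CohB1.IsAmple L) (hdim : topologicalKrullDim Y ≤ 1) {G : Y.Modules}
    (hG : Coh.IsCoh G) (n : ℕ) :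
    Curv2.euler k Y (CohB1.tensorMod G (CohB1.tensorPow L n)) =
      Curv2.euler k Y G + n * (Curv2.euler k Y (CohB1.tensorMod G L) - Curv2.euler k Y G) := by
  haveI := Curves.GlobalSections.isNoetherian_of_proper k Y
  have h := SubLattice.isHilbPoly_hp k hL hG n
  obtain ⟨c0, c1⟩ := Linear.coeff_eq (k := k) hL hdim hG
  rw [Polynomial.eq_X_add_C_of_natDegree_le_one (Linear.natDegree_le (k := k) hL hdim hG)] at h
  have ha : (SubLattice.hp k L G).coeff 1 = alpha 1 (SubLattice.hp k L G) := by simp [alpha]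
  simp only [Polynomial.eval_add, Polynomial.eval_mul, Polynomial.eval_C, Polynomial.eval_X, c0, ha, c1,
    ShStab.twist] at h
  rw [← @Int.cast_inj ℚ]
  push_cast
  linarith

theorem alpha_bundle {L : Y.Modules} (hLi : PicF.IsInvertible L) (hdim : topologicalKrullDim Y ≤ 1)
    {r : ℕ} {E : Y.Modules} (hE : FlatMod.IsFinLocFreeOfRank r E) :
    Curv2.euler k Y (CohB1.tensorMod E L) - Curv2.euler k Y E =
      r * (Curv2.euler k Y L - Curv2.euler k Y (Coh.structureModule Y)) := by
  have h := S7637.result k Y hdim r 1 E L hE (TensorMod.LocFree.of_isInvertible hLi)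
  simp only [Curv2.deg, mul_one, Nat.cast_one, one_mul] at h
  linarith

/-- Boundedness bounds the slopes of the quotients from below. -/
theorem quotient_slope {L : Y.Modules} (hL : CohB1.IsAmple L) (hdim : topologicalKrullDim Y ≤ 1)
    {E Q : Y.Modules} (hE : Coh.IsCoh E) (hQ : Coh.IsCoh Q) (p : E ⟶ Q) [Epi p] (n₀ : ℕ)
    (h : Subsingleton (Coh.HH Y (CohB1.tensorMod E (CohB1.tensorPow L n₀)) 1))
    (hpos : 0 < Curv2.euler k Y (CohB1.tensorMod Q L) - Curv2.euler k Y Q) :
    -(n₀ : ℚ) ≤ (Curv2.euler k Y Q : ℚ) /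
      ((Curv2.euler k Y (CohB1.tensorMod Q L) - Curv2.euler k Y Q : ℤ) : ℚ) := by
  haveI := Curves.GlobalSections.isNoetherian_of_proper k Y
  have hP := TensorMod.Invertible.isInvertible_tensorPow (Ample.Pow.isAmple_iff.1 hL).1 n₀
  have hS : (ShortComplex.mk (kernel.ι p) p (kernel.condition p)).ShortExact :=
    { exact := ShortComplex.exact_kernel p }
  have hK : Coh.IsCoh (kernel p) := CohBasics.Closure.isCoh_kernel p hE hQ.1
  have hT := CurveBundle.Twist.shortExact hP hS
  have hKP := CurveBundle.Twist.isCoh hP hK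
  have hQP := CurveBundle.Twist.isCoh hP hQ
  have h2 : Subsingleton (Coh.HH Y (CohB1.tensorMod (kernel p) (CohB1.tensorPow L n₀)) 2) :=
    (Curves.Finiteness.isGood_of_isCoh (k := k) hdim hKP).vanish 2 le_rfl
  have h1 : Subsingleton (Coh.HH Y (CohB1.tensorMod Q (CohB1.tensorPow L n₀)) 1) := by
    refine ⟨fun a b => ?_⟩
    obtain ⟨a', rfl⟩ := (Curves.LES.exactK₃ k hT 1 2 rfl a).mp (Subsingleton.elim (h := h2) _ _)
    obtain ⟨b', rfl⟩ := (Curves.LES.exactK₃ k hT 1 2 rfl b).mp (Subsingleton.elim (h := h2) _ _)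
    exact congrArg _ (Subsingleton.elim (h := h) a' b')
  have he := (Curves.Finiteness.isGood_of_isCoh (k := k) hdim hQP).euler
  have h10 : Module.finrank k (Coh.HH Y (CohB1.tensorMod Q (CohB1.tensorPow L n₀)) 1) = 0 :=
    haveI := h1
    Module.finrank_zero_of_subsingleton
  simp only [Curves.Euler.hdim, h10, euler_twist hL hdim hQ n₀, Nat.cast_zero, sub_zero] at he
  have hnn : 0 ≤ Curv2.euler k Y Q + n₀ * (Curv2.euler k Y (CohB1.tensorMod Q L) - Curv2.euler k Y Q) :=
    he ▸ Int.natCast_nonneg _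
  rw [le_div_iff₀ (by exact_mod_cast hpos)]
  have := (@Int.cast_le ℚ).2 hnn
  push_cast at this ⊢
  linarith

attribute [local instance] SurfRR.Components.overOpen

variable [IsAlgClosed k] [Smooth (Y ↘ Spec (CommRingCat.of k))] [AlgebraicGeometry.IsNoetherian Y]

/-- The slopes of the quotients bound the family on each component. -/
theorem bounded_component {L : Y.Modules} (hL : CohB1.IsAmple L) (hdim : topologicalKrullDim Y ≤ 1)
    {U : Y.Opens} (hU : IsComp U) {S : Set Y.Modules} {r : ℕ}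
    (hS : ∀ E ∈ S, FlatMod.IsFinLocFreeOfRank r E) (C : ℚ)
    (hC : ∀ E ∈ S, ∀ (Q : Y.Modules) (p : E ⟶ Q), Epi p → FlatMod.IsFinLocFree Q →
      0 < Curv2.euler k Y (CohB1.tensorMod Q L) - Curv2.euler k Y Q →
      C ≤ (Curv2.euler k Y Q : ℚ) / ((Curv2.euler k Y (CohB1.tensorMod Q L) - Curv2.euler k Y Q : ℤ) : ℚ)) :
    ∃ N : ℕ, ∀ n : ℕ, N ≤ n → ∀ E ∈ S,
      Subsingleton (Coh.HH (↑U : Scheme.{u}) ((CohB1.tensorMod E (CohB1.tensorPow L n)).restrict U.ι) 1) ∧
        Curv2.IsGloballyGenerated ((CohB1.tensorMod E (CohB1.tensorPow L n)).restrict U.ι) := by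
  have hLi := (Ample.Pow.isAmple_iff.1 hL).1
  haveI : ConnectedSpace (↑U : Scheme.{u}) := isConnected_iff_connectedSpace.1 hU.2
  haveI hsm : Smooth ((↑U : Scheme.{u}) ↘ Spec (CommRingCat.of k)) :=
    inferInstanceAs (Smooth (U.ι ≫ (Y ↘ Spec (CommRingCat.of k))))
  haveI hp : IsProper ((↑U : Scheme.{u}) ↘ Spec (CommRingCat.of k)) :=
    SurfRR.Components.isProper_of_clopen U hU.1.1
  haveI := RG.GeomComp.isIntegral_of_smooth_connected ((↑U : Scheme.{u}) ↘ Spec (CommRingCat.of k))
  haveI := Curves.GlobalSections.isNoetherian_of_proper k (↑U : Scheme.{u})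
  have hdU : topologicalKrullDim (↑U : Scheme.{u}) ≤ 1 :=
    U.ι.isOpenEmbedding.toIsEmbedding.toIsInducing.topologicalKrullDim_le.trans hdim
  by_cases h1 : 1 ≤ topologicalKrullDim (↑U : Scheme.{u})
  swap
  · haveI : Subsingleton (↑U : Scheme.{u}) := by
      refine subsingleton_of_forall_eq (genericPoint (↑U : Scheme.{u})) fun x => by_contra fun hx => h1 ?_
      refine Order.one_le_krullDim_iff.2 ⟨(⟨closure {x}, isIrreducible_singleton.closure, isClosed_closure⟩ :
        IrreducibleCloseds (↑U : Scheme.{u})), ⟨Set.univ, IrreducibleSpace.isIrreducible_univ _, isClosed_univ⟩,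
        lt_of_le_of_ne (fun z _ => trivial) fun he => hx ?_⟩
      have hη : genericPoint (↑U : Scheme.{u}) ∈ closure ({x} : Set (↑U : Scheme.{u})) := by
        rw [show closure ({x} : Set (↑U : Scheme.{u})) = Set.univ from
          congrArg (fun A : IrreducibleCloseds _ => (A : Set (↑U : Scheme.{u}))) he]
        trivial
      exact (((genericPoint_spec (↑U : Scheme.{u})).specializes (Set.mem_univ x)).antisymm
        (specializes_iff_mem_closure.2 hη)).eq.symm
    have h0 : topologicalKrullDim (↑U : Scheme.{u}) ≤ (0 : ℕ) := by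
      haveI : Subsingleton (IrreducibleCloseds (↑U : Scheme.{u})) := ⟨fun A B => IrreducibleCloseds.ext (by
        obtain ⟨a, ha⟩ := A.isIrreducible.nonempty
        obtain ⟨b, hb⟩ := B.isIrreducible.nonempty
        ext z
        exact ⟨fun _ => Subsingleton.elim b z ▸ hb, fun _ => Subsingleton.elim a z ▸ ha⟩)⟩
      exact_mod_cast (Order.krullDim_nonpos_of_subsingleton : topologicalKrullDim (↑U : Scheme.{u}) ≤ 0)
    exact ⟨0, fun n _ E _ => ⟨Snapper.Chi.subsingleton_HH_of_lt h0 _ zero_lt_one,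
      H34.DefAmple.gg_of_torsion fun x hx => absurd
        ((Set.finite_singleton x).isClosed) (by
          intro h'
          exact hx (by convert isClosed_univ; exact Set.eq_univ_of_forall fun z => Subsingleton.elim z x))⟩⟩
  have hd1 : topologicalKrullDim (↑U : Scheme.{u}) = 1 := le_antisymm hdU h1
  haveI hCtx := CurveBundle.Ctx.ofIntegral k hd1
  haveI := hCtx.locNoeth
  haveI := SymSplit.Classes.isClosedImmersion_ι U hU.1.1
  have hLU : PicF.IsInvertible (L.restrict U.ι) := TensorMod.Invertible.isInvertible_of_iso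
    ((Scheme.Modules.restrictFunctorIsoPullback U.ι).app L).symm (PicLoc.isInvertible_pullback U.ι hLi)
  obtain ⟨hOc, -, -, -⟩ := CurveBundle.SlopeLine.line (k := k) (PicLoc.isInvertible_structureModule (↑U : Scheme.{u}))
  obtain ⟨hLc, -, -, edL⟩ := CurveBundle.SlopeLine.line (k := k) hLU
  set d := dg k (L.restrict U.ι) with hd
  have hdpos : 0 < d := by
    obtain ⟨-, -, -, ed'⟩ := CurveBundle.SlopeLine.line (k := k) (PicLoc.isInvertible_pullback U.ι hLi)
    rw [hd, CurveBundle.Degree.dg_congr k ((Scheme.Modules.restrictFunctorIsoPullback U.ι).app L), ← ed']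
    exact SurfInt.CurvePos.deg_pos_of_isAmple hd1
      (Ample.Pullback.isAmple_pullback U.ι (Ample.Pullback.isQuasiAffine_of_isAffineHom U.ι) hL)
  set χO := Curv2.euler k (↑U : Scheme.{u}) (Coh.structureModule (↑U : Scheme.{u})) with hχO
  set γ := 1 - χO with hγ
  have hγ0 : 0 ≤ γ := by
    have he := (hCtx.good _ hOc).euler
    have h0 := Curves.GlobalSections.finrank_h0_structure k (↑U : Scheme.{u})
    simp only [Curves.Euler.hdim, h0] at he
    omega
  obtain ⟨I, hI, hJ, hJd⟩ := CurveBundle.Point.exists_point k hd1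
  rw [(CurveBundle.SlopeLine.line (k := k) hJ).2.2.2] at hJd
  have hc₀ : ∀ M : (↑U : Scheme.{u}).Modules, PicF.IsInvertible M → 2 * γ - 1 ≤ dg k M →
      Subsingleton (Coh.HH (↑U : Scheme.{u}) M 1) := fun M hM hle => by
    refine Curves.Clifford.subsingleton_one_of_deg k hdU (Curves.GlobalSections.finrank_h0_structure k _) hM ?_
    have he := (hCtx.good _ hOc).euler
    have h0 := Curves.GlobalSections.finrank_h0_structure k (↑U : Scheme.{u})
    simp only [Curves.Euler.hdim, h0] at he
    rw [(CurveBundle.SlopeLine.line (k := k) hM).2.2.2, Curv2.genus]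
    push_cast at he ⊢
    omega
  let c : ℤ := ⌊C * (d : ℚ)⌋ - χO
  refine ⟨(2 * γ - 1 + 2 * γ * r + 1 - c).toNat, fun n hn E hE => ?_⟩
  have hEU : FlatMod.IsFinLocFreeOfRank r (E.restrict U.ι) :=
    TensorMod.LocFree.rank_of_iso ((Scheme.Modules.restrictFunctorIsoPullback U.ι).app E).symm
      (TensorMod.LocFree.rank_pullback U.ι (hS E hE))
  have hqb : ∀ (Q : (↑U : Scheme.{u}).Modules) (q : E.restrict U.ι ⟶ Q), Epi q → PicF.IsInvertible Q →
      c ≤ dg k Q := by
    intro Q q hq hQ
    haveI := hq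
    obtain ⟨p, hp⟩ := ComponentBounded.exists_push_quotient hU.1.1 q
    obtain ⟨hQc, -, eQ, -⟩ := CurveBundle.SlopeLine.line (k := k) hQ
    haveI := hQc.1
    have hN : Coh.IsCoh ((Scheme.Modules.pushforward U.ι).obj Q) := Cyc.Dev.SchemeEquiv.isCoh_push U.ι hQc
    have e1 : Curv2.euler k Y ((Scheme.Modules.pushforward U.ι).obj Q) = Curv2.euler k (↑U : Scheme.{u}) Q :=
      SurfInt.Push.euler_push U.ι rfl Q
    have e2 : Curv2.euler k Y (CohB1.tensorMod ((Scheme.Modules.pushforward U.ι).obj Q) L) =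
        Curv2.euler k (↑U : Scheme.{u}) (CohB1.tensorMod Q (L.restrict U.ι)) := by
      rw [ComponentLine.euler_of_supported k hdim hU (CurveBundle.Twist.isCoh hLi hN)
        (ComponentLine.tensor_off hU.1.1 (fun z hz =>
          PushClosed.Unit.subsingleton_stalk_push U.ι Q (by rw [Scheme.Opens.range_ι]; exact hz)) L)]
      exact Curves.Euler.euler_eq_of_iso (TensorMod.Pullback.restrictTensorIso U.ι _ L ≪≫
        TensorMod.Basic.tensorIso ((asIso (Scheme.Modules.restrictAdjunction U.ι).counit).app Q) (Iso.refl _))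
    obtain ⟨eg, ed⟩ := CurveBundle.Twist.gr_dg_twist k hLU hQc
    obtain ⟨-, -, -, edT⟩ := CurveBundle.SlopeLine.line (k := k)
      (TensorMod.Invertible.isInvertible_tensorMod hQ hLU)
    obtain ⟨-, -, -, edQ⟩ := CurveBundle.SlopeLine.line (k := k) hQ
    rw [eQ] at ed
    unfold Curv2.deg at edT edQ
    push_cast at ed edT edQ
    have hα : Curv2.euler k (↑U : Scheme.{u}) (CohB1.tensorMod Q (L.restrict U.ι)) -
        Curv2.euler k (↑U : Scheme.{u}) Q = d := by rw [hd]; linarith
    have h := hC E hE _ p hp (ComponentBounded.isFinLocFree_push hU.1.1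
      (TensorMod.LocFree.of_rank (TensorMod.LocFree.of_isInvertible hQ))) (by rw [e1, e2, hα]; exact hdpos)
    rw [e1, e2, hα, le_div_iff₀ (by exact_mod_cast hdpos)] at h
    have hfl : ⌊C * (d : ℚ)⌋ ≤ Curv2.euler k (↑U : Scheme.{u}) Q :=
      Int.floor_le_iff.2 (lt_of_le_of_lt h (lt_add_one _))
    simp only [c]
    omega
  -- the twist on the component
  obtain ⟨ePow⟩ := ModelFibre.TorsGen.nonempty_pullback_tensorPow U.ι L n
  obtain ⟨hM, hMd⟩ := CurveBundle.H0Twist.dg_pow (k := k) (PicLoc.isInvertible_pullback U.ι hLi) n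
  have hdd : dg k ((Scheme.Modules.pullback U.ι).obj L) = d :=
    (CurveBundle.Degree.dg_congr k ((Scheme.Modules.restrictFunctorIsoPullback U.ι).app L)).symm
  let F := CohB1.tensorMod (E.restrict U.ι) (CohB1.tensorPow ((Scheme.Modules.pullback U.ι).obj L) n)
  let e : (CohB1.tensorMod E (CohB1.tensorPow L n)).restrict U.ι ≅ F :=
    TensorMod.Pullback.restrictTensorIso U.ι E (CohB1.tensorPow L n) ≪≫
      TensorMod.Basic.tensorIso (Iso.refl _) ((Scheme.Modules.restrictFunctorIsoPullback U.ι).app _ ≪≫ ePow)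
  have hFb : FlatMod.IsFinLocFreeOfRank r F := by
    simpa using TensorMod.LocFree.rank_tensorMod hEU (TensorMod.LocFree.of_isInvertible hM)
  have hqF : ∀ (J : (↑U : Scheme.{u}).Modules), PicF.IsInvertible J →
      CurveBundle.H0Crit.QB k (CohB1.tensorMod F J) (c + n * d + dg k J) := by
    intro J hJi Q q hq hQ
    have hA := TensorMod.Invertible.isInvertible_tensorMod hM hJi
    have hA' := TensorMod.Invertible.isInvertible_dual hA
    haveI := CurveBundle.Twist.isEquivalence hA'
    haveI := hq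
    let a : CohB1.tensorMod (CohB1.tensorMod F J) (TensorMod.Dual.dual
        (CohB1.tensorMod (CohB1.tensorPow ((Scheme.Modules.pullback U.ι).obj L) n) J)) ≅ E.restrict U.ι :=
      TensorMod.Basic.tensorIso (TensorMod.Basic.assoc _ _ _) (Iso.refl _) ≪≫
        CurveBundle.LineQuot.cancel (TensorMod.Invertible.tensorDualIso hA)
    haveI : Epi (TensorMod.Basic.tmap q (𝟙 (TensorMod.Dual.dual
        (CohB1.tensorMod (CohB1.tensorPow ((Scheme.Modules.pullback U.ι).obj L) n) J)))) :=
      inferInstanceAs (Epi ((TensorMod.Basic.tensorBy _).map q))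
    have h := hqb _ (a.inv ≫ TensorMod.Basic.tmap q (𝟙 _)) (epi_comp _ _)
      (TensorMod.Invertible.isInvertible_tensorMod hQ hA')
    obtain ⟨hQc, -, eQ, -⟩ := CurveBundle.SlopeLine.line (k := k) hQ
    obtain ⟨hMc, -, eM, -⟩ := CurveBundle.SlopeLine.line (k := k) hM
    rw [(CurveBundle.Twist.gr_dg_twist k hA' hQc).2, eQ, CurveBundle.H0Crit.dg_dual hA,
      (CurveBundle.Twist.gr_dg_twist k hJi hMc).2, eM, hMd, hdd] at h
    push_cast at h
    linarith
  have hbig : 2 * γ - 1 + 2 * γ * r + 1 ≤ c + n * d := by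
    have := Int.self_le_toNat (2 * γ - 1 + 2 * γ * r + 1 - c)
    have hn' : ((2 * γ - 1 + 2 * γ * r + 1 - c).toNat : ℤ) ≤ n := by exact_mod_cast hn
    have : (n : ℤ) ≤ n * d := le_mul_of_one_le_right (Int.natCast_nonneg _) hdpos
    linarith
  refine ⟨H34.HOne.h1_of_iso e.symm ?_, ?_⟩
  · have hq0 := hqF (Coh.structureModule (↑U : Scheme.{u})) (PicLoc.isInvertible_structureModule _)
    rw [CurveBundle.H0Crit.dg_structure, add_zero] at hq0
    refine (CurveBundle.H0Crit.quot_bound hI hJ hJd hγ hγ0 hc₀ r F (c + n * d) hFb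
      (fun Q q hq hQ => hq0 Q ((TensorMod.Basic.rightUnit F).hom ≫ q) (epi_comp _ _) hQ)).2 ?_
    linarith
  · obtain ⟨ι', q, hq⟩ : Curv2.IsGloballyGenerated F :=
      CurveBundle.Vanishing.globallyGenerated (k := k) hd1 hFb fun J hJi hJd' => by
        rw [(CurveBundle.SlopeLine.line (k := k) hJi).2.2.2] at hJd'
        have hb : FlatMod.IsFinLocFreeOfRank r (CohB1.tensorMod F J) := by
          simpa using TensorMod.LocFree.rank_tensorMod hFb (TensorMod.LocFree.of_isInvertible hJi)
        have hqJ := hqF J hJi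
        rw [hJd'] at hqJ
        exact (CurveBundle.H0Crit.quot_bound hI hJ hJd hγ hγ0 hc₀ r _ _ hb hqJ).2 (by linarith)
    let q' : ComponentBounded.fr (↑U : Scheme.{u}) ι' ⟶ F := q
    haveI hq' : Epi q' := hq
    haveI : Epi e.inv := IsIso.epi_of_iso _
    exact ⟨ι', q' ≫ e.inv, epi_comp _ _⟩

end Groth.Agent.Lib.ShStab.BoundedFamily
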