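import Groth.Agent.Lib.ShStab.FactorMatch
import Groth.Agent.Lib.ShStab.MuBasics
import Groth.Agent.Lib.RefHull.PushU

/-!
# The parts of a module over open and closed subsets
-/

set_option autoImplicit false
set_option linter.style.haveILetI false
set_option linter.unusedSectionVars false
universe u

open CategoryTheory CategoryTheory.Limits AlgebraicGeometry TopologicalSpace Opposite StabCat

noncomputable section

namespace Groth.Agent.Lib.ShStab.Clopen

open Groth.Agent.Lib Groth.Agent.Lib.Modules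
open Groth.Agent.Lib.Modules.StalkModule (stalkMapₗ)
open Groth.Agent.Lib.RefHull.PushU (P un)

variable {X : Scheme.{u}}

/-- Outside a closed open the part vanishes. -/
theorem subsingleton_P {U : X.Opens} (hU : IsClosed (U : Set X)) (M : X.Modules) {y : X} (hy : y ∉ U) :
    Subsingleton ((P U M).presheaf.stalk y) := by
  refine subsingleton_of_forall_eq 0 fun v => ?_
  obtain ⟨V, hyV, c, rfl⟩ := TopCat.Presheaf.exists_germ_eq (P U M).presheaf v
  let V' : X.Opens := V ⊓ ⟨(U : Set X)ᶜ, hU.isOpen_compl⟩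
  have hyV' : y ∈ V' := ⟨hyV, hy⟩
  rw [← TopCat.Presheaf.germ_res_apply (P U M).presheaf (homOfLE (inf_le_left : V' ≤ V)) y hyV' c]
  have hbot : RefHull.PowColim.W U V' = ⊥ := by
    ext z
    simp only [TopologicalSpace.Opens.coe_bot, Set.mem_empty_iff_false, iff_false]
    intro hz
    obtain ⟨h1, h2⟩ := (RefHull.PowColim.mem_W U).1 hz
    exact h2.2 h1
  have e : (P U M).presheaf.map (homOfLE (inf_le_left : V' ≤ V)).op c = 0 := by
    refine TopCat.Presheaf.section_ext (⟨M.presheaf, M.isSheaf⟩ : TopCat.Sheaf AddCommGrpCat.{u} X)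
      (RefHull.PowColim.W U V') _ 0 fun z hz => ?_
    exact absurd (hbot ▸ hz : z ∈ (⊥ : X.Opens)) (fun h => h)
  rw [e]
  exact map_zero _

theorem un_surjective {U : X.Opens} (hU : IsClosed (U : Set X)) (M : X.Modules) (y : X) :
    Function.Surjective (stalkMapₗ (un U M) y) := by
  by_cases hy : y ∈ U
  · exact (RefHull.PushU.unit_bijective U hy).2
  · haveI := subsingleton_P hU M hy
    exact fun v => ⟨0, Subsingleton.elim _ _⟩

theorem epi_un {U : X.Opens} (hU : IsClosed (U : Set X)) (M : X.Modules) : Epi (un U M) :=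
  (StalkModule.epi_iff_stalkMapₗ_surjective _).2 (un_surjective hU M)

theorem isCoh_P [IsLocallyNoetherian X] {U : X.Opens} (hU : IsClosed (U : Set X)) {M : X.Modules}
    (hM : Coh.IsCoh M) : Coh.IsCoh (P U M) := by
  haveI := hM.1
  haveI := epi_un hU M
  haveI : (M.restrict U.ι).IsQuasicoherent := inferInstance
  haveI : (P U M).IsQuasicoherent := RefHull.PushU.isQCoh_P U _ inferInstance
  exact CohBasics.Closure.isCoh_of_iso
    ((cokernelIsCokernel _).coconePointUniqueUpToIso
      (Abelian.epiIsCokernelOfKernel _ (kernelIsKernel (un U M))))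
    (CohBasics.Closure.isCoh_cokernel (kernel.ι (un U M))
      (QCoh.Closure.isQCoh_kernel (un U M)) hM)

/-- The part over `U` of a module as a direct summand. -/
theorem split {U V : X.Opens} (hU : IsClosed (U : Set X)) (hV : IsClosed (V : Set X))
    (hcompl : (V : Set X) = (U : Set X)ᶜ) (M : X.Modules) :
    ∃ (s : P U M ⟶ M) (w : s ≫ un V M = 0), s ≫ un U M = 𝟙 _ ∧
      (ShortComplex.mk s (un V M) w).ShortExact := by
  haveI := epi_un hV M
  let φ : kernel (un V M) ⟶ P U M := kernel.ι (un V M) ≫ un U M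
  have hmem : ∀ y : X, y ∈ V ↔ y ∉ U := fun y => by
    rw [← SetLike.mem_coe, hcompl]; rfl
  haveI : IsIso φ := by
    rw [StalkModule.isIso_iff_stalkMapₗ_bijective]
    intro y
    have hinj := (StalkModule.mono_iff_stalkMapₗ_injective (kernel.ι (un V M))).1 inferInstance y
    rw [StalkModule.stalkMapₗ_comp]
    by_cases hy : y ∈ U
    · refine ⟨(RefHull.PushU.unit_bijective U hy).1.comp hinj, fun v => ?_⟩
      obtain ⟨m, rfl⟩ := (RefHull.PushU.unit_bijective (M := M) U hy).2 v
      haveI := subsingleton_P hV M (fun h => (hmem y).1 h hy)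
      have hex := (Stalk.exact_iff_stalk _).mp
        (ShortComplex.exact_kernel (un V M)) y
      rw [ShortComplex.ab_exact_iff] at hex
      obtain ⟨a, ha⟩ := hex m (Subsingleton.elim (α := (P V M).presheaf.stalk y) _ _)
      exact ⟨a, congrArg (stalkMapₗ (un U M) y) ha⟩
    · haveI := subsingleton_P hU M hy
      refine ⟨(injective_iff_map_eq_zero _).2 fun a _ => ?_, fun v => ⟨0, Subsingleton.elim _ _⟩⟩
      refine hinj ((RefHull.PushU.unit_bijective V ((hmem y).2 hy)).1 ?_)
      rw [map_zero, map_zero]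
      refine (LinearMap.comp_apply _ _ _).symm.trans ?_
      show (stalkMapₗ (un V M) y ∘ₗ stalkMapₗ (kernel.ι (un V M)) y) a = _
      rw [← StalkModule.stalkMapₗ_comp, kernel.condition, StalkModule.stalkMapₗ_zero]
      exact LinearMap.zero_apply a
  refine ⟨inv φ ≫ kernel.ι (un V M), by rw [Category.assoc, kernel.condition, Limits.comp_zero],
    by rw [Category.assoc]; exact IsIso.inv_hom_id φ, ?_⟩
  exact { exact := ShortComplex.exact_of_iso
            (ShortComplex.isoMk (S₁ := ShortComplex.mk (kernel.ι (un V M)) (un V M) (kernel.condition _))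
              (S₂ := ShortComplex.mk (inv φ ≫ kernel.ι (un V M)) (un V M) _)
              (asIso φ) (Iso.refl _) (Iso.refl _) (by simp) (by simp))
            (ShortComplex.exact_kernel _)
          mono_f := mono_comp _ _
          epi_g := inferInstanceAs (Epi (un V M)) }

/-- Parts of parts. -/
theorem nested {A U : X.Opens} (hA : IsClosed (A : Set X)) (hAU : A ≤ U) (M : X.Modules) :
    Nonempty (P A M ≅ P A (P U M)) := by
  let Q : P A M ⟶ P A (P U M) :=
    (Scheme.Modules.pushforward A.ι).map ((Scheme.Modules.restrictFunctor A.ι).map (un U M))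
  have hnat : un U M ≫ un A (P U M) = un A M ≫ Q :=
    (Scheme.Modules.restrictAdjunction A.ι).unit.naturality (un U M)
  haveI : IsIso Q := by
    rw [StalkModule.isIso_iff_stalkMapₗ_bijective]
    intro y
    by_cases hy : y ∈ A
    · have h1 : Function.Bijective (stalkMapₗ (un U M ≫ un A (P U M)) y) := by
        rw [StalkModule.stalkMapₗ_comp]
        exact (RefHull.PushU.unit_bijective A hy).comp (RefHull.PushU.unit_bijective U (hAU hy))
      rw [hnat, StalkModule.stalkMapₗ_comp] at h1
      exact (Function.Bijective.of_comp_iff _ (RefHull.PushU.unit_bijective A hy)).1 h1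
    · haveI := subsingleton_P hA M hy
      haveI := subsingleton_P hA (P U M) hy
      exact ⟨fun a b _ => Subsingleton.elim _ _, fun v => ⟨0, Subsingleton.elim _ _⟩⟩
  exact ⟨asIso Q⟩

variable {k : Type u} [Field k] [X.Over (Spec (CommRingCat.of k))]
  [IsProper (X ↘ Spec (CommRingCat.of k))] [AlgebraicGeometry.IsNoetherian X] {L : X.Modules}
  (hL : CohB1.IsAmple L)

include hL

open SubLattice PolyOrder FactorMatch in
/-- A nonzero part of a semistable module is semistable with the same reduced polynomial. -/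
theorem part {d : ℕ} {U : X.Opens} (hU : IsClopen (U : Set X)) {E : X.Modules}
    (hE : ShStab.IsSemistable k X L E d) (h0 : ¬ IsZero (P U E)) :
    ShStab.IsSemistable k X L (P U E) d ∧ RedEq d (hp k L (P U E)) (hp k L E) := by
  let V : X.Opens := ⟨(U : Set X)ᶜ, hU.1.isOpen_compl⟩
  obtain ⟨s, w, hs, hS⟩ := split hU.1 (V := V) hU.2.isClosed_compl rfl E
  haveI := hS.mono_f
  haveI : Mono s := hS.mono_f
  have hc := isCoh_P hU.1 hE.1
  haveI := epi_un hU.1 E
  have hne : un U E ≠ 0 := fun h => h0 ((IsZero.iff_id_eq_zero _).2 (by rw [← hs, h, Limits.comp_zero]))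
  have h2 := Basics.redLE_image hL hE hc hne
  haveI : Epi (Abelian.image.ι (un U E)) := epi_of_epi_fac (Abelian.image.fac (un U E))
  haveI := isIso_of_mono_of_epi (Abelian.image.ι (un U E))
  rw [hp_iso k hL (asIso (Abelian.image.ι (un U E))).symm hc] at h2
  have hr : RedEq d (hp k L (P U E)) (hp k L E) := redEq_iff.2 ⟨Basics.redLE_sub hL hE s hc h0, h2⟩
  exact ⟨ss_of_mono hL hE s hc h0 hr, hr⟩

open SubLattice PolyOrder FactorMatch in
/-- Semistable parts with one reduced polynomial have a semistable sum. -/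
theorem sum_semistable {d : ℕ} (hd : ∀ G : X.Modules, Coh.IsCoh G → (hp k L G).natDegree ≤ d)
    {E : X.Modules} (hEc : Coh.IsCoh E) {R : Polynomial ℚ} (hR : alpha d R ≠ 0)
    (h : ∀ U : X.Opens, IsClopen (U : Set X) → _root_.IsConnected (U : Set X) → ¬ IsZero (P U E) →
      ShStab.IsSemistable k X L (P U E) d ∧ RedEq d (hp k L (P U E)) R) :
    ∀ (C : Closeds X) (hC : IsOpen (C : Set X)), ¬ IsZero (P ⟨C, hC⟩ E) →
      ShStab.IsSemistable k X L (P ⟨C, hC⟩ E) d ∧ RedEq d (hp k L (P ⟨C, hC⟩ E)) R := by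
  intro C
  induction C using WellFoundedLT.induction with
  | _ C ih =>
    intro hC h0
    let U : X.Opens := ⟨C, hC⟩
    have hUc : IsClosed (U : Set X) := C.2
    by_cases hconn : _root_.IsPreconnected (U : Set X)
    · refine h U ⟨hUc, hC⟩ ⟨?_, hconn⟩ h0
      by_contra hne
      rw [Set.not_nonempty_iff_eq_empty] at hne
      refine h0 (Modules.Stalk.isZero_iff_stalk_subsingleton.2 fun y => subsingleton_P hUc E ?_)
      rw [← SetLike.mem_coe, hne]
      exact Set.notMem_empty y
    rw [isPreconnected_iff_subset_of_fully_disjoint_closed hUc] at hconn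
    push Not at hconn
    obtain ⟨S, T, hS, hT, hcov, hdisj, hS', hT'⟩ := hconn
    have hSo : IsOpen ((U : Set X) ∩ S) := by
      have : (U : Set X) ∩ S = (U : Set X) ∩ Tᶜ := by
        ext z
        refine ⟨fun ⟨a, b⟩ => ⟨a, fun c => Set.disjoint_left.1 hdisj b c⟩, fun ⟨a, b⟩ => ⟨a, (hcov a).resolve_right b⟩⟩
      rw [this]; exact hC.inter hT.isOpen_compl
    have hTo : IsOpen ((U : Set X) ∩ T) := by
      have : (U : Set X) ∩ T = (U : Set X) ∩ Sᶜ := by
        ext z
        refine ⟨fun ⟨a, b⟩ => ⟨a, fun c => Set.disjoint_left.1 hdisj c b⟩, fun ⟨a, b⟩ => ⟨a, (hcov a).resolve_left b⟩⟩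
      rw [this]; exact hC.inter hS.isOpen_compl
    let A : Closeds X := ⟨(U : Set X) ∩ S, hUc.inter hS⟩
    let B : Closeds X := ⟨(U : Set X) ∩ T, hUc.inter hT⟩
    have hAlt : A < C := lt_of_le_of_ne (fun z hz => hz.1) fun e => hS' fun z hz =>
      ((congrArg (fun D : Closeds X => z ∈ D) e).mpr hz : z ∈ A).2
    have hBlt : B < C := lt_of_le_of_ne (fun z hz => hz.1) fun e => hT' fun z hz =>
      ((congrArg (fun D : Closeds X => z ∈ D) e).mpr hz : z ∈ B).2
    -- split `P U E`
    let A' : X.Opens := ⟨_, hSo⟩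
    let W : X.Opens := ⟨((U : Set X) ∩ S)ᶜ, (hUc.inter hS).isOpen_compl⟩
    obtain ⟨s, w, -, hsq⟩ := split (U := A') (V := W) (hUc.inter hS) hSo.isClosed_compl rfl (P U E)
    obtain ⟨eA⟩ := nested (A := A') (U := U) (hUc.inter hS) (fun z hz => hz.1) E
    -- `P W (P U E) ≅ P B E`
    let B' : X.Opens := ⟨_, hTo⟩
    have hBW : B' ≤ W := fun z hz hzA => Set.disjoint_left.1 hdisj hzA.2 hz.2
    obtain ⟨eB₁⟩ := nested (A := B') (U := U) (hUc.inter hT) (fun z hz => hz.1) E
    obtain ⟨eB₂⟩ := nested (A := B') (U := W) (hUc.inter hT) hBW (P U E)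
    haveI : IsIso (un B' (P W (P U E))) := by
      rw [StalkModule.isIso_iff_stalkMapₗ_bijective]
      intro y
      by_cases hy : y ∈ B'
      · exact RefHull.PushU.unit_bijective B' hy
      · haveI := subsingleton_P (hUc.inter hT) (P W (P U E)) (U := B') hy
        haveI : Subsingleton ((P W (P U E)).presheaf.stalk y) := by
          by_cases hyW : y ∈ W
          · have hyU : y ∉ U := fun hyU => (hcov hyU).elim (fun a => hyW ⟨hyU, a⟩) fun b => hy ⟨hyU, b⟩
            haveI := subsingleton_P hUc E hyU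
            exact (RefHull.PushU.unit_bijective W (M := P U E) hyW).2.subsingleton
          · exact subsingleton_P (U := W) hSo.isClosed_compl _ hyW
        exact ⟨fun a b _ => Subsingleton.elim _ _, fun v => ⟨0, Subsingleton.elim _ _⟩⟩
    let eB : P B' E ≅ P W (P U E) := eB₁ ≪≫ eB₂ ≪≫ (asIso (un B' (P W (P U E)))).symm
    have hcA := isCoh_P (U := A') (hUc.inter hS) hEc
    have hcB := isCoh_P (U := B') (hUc.inter hT) hEc
    have hcU := isCoh_P (U := U) hUc hEc
    haveI := hsq.mono_f
    haveI := hsq.epi_g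
    by_cases hA0 : IsZero (P A' E)
    · have hzA : IsZero (P A' (P U E)) := hA0.of_iso eA.symm
      haveI : Mono (un W (P U E)) :=
        Preadditive.mono_of_cancel_zero _ fun g hg => by
          haveI : Mono s := hsq.mono_f
          obtain ⟨l, hl⟩ : ∃ l, l ≫ s = g := ⟨hsq.exact.lift g hg, hsq.exact.lift_f g hg⟩
          rw [← hl, hzA.eq_of_tgt l 0, Limits.zero_comp]
      haveI : Epi (un W (P U E)) := hsq.epi_g
      haveI := isIso_of_mono_of_epi (un W (P U E))
      let e : P U E ≅ P B' E := asIso (un W (P U E)) ≪≫ eB.symm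
      obtain ⟨h1, h2⟩ := ih B hBlt hTo fun hz => h0 (hz.of_iso e)
      exact ⟨ss_of_iso hL h1 e, (hp_iso k hL e.symm hcB).symm ▸ h2⟩
    obtain ⟨a1, a2⟩ := ih A hAlt hSo hA0
    have a1' := ss_of_iso hL a1 eA.symm
    have a2' : RedEq d (hp k L (P A' (P U E))) R := (hp_iso k hL eA hcA).symm ▸ a2
    by_cases hB0 : IsZero (P B' E)
    · haveI : Epi s := by
        refine Abelian.epi_of_cokernel_π_eq_zero s ?_
        have hz : IsZero (cokernel s) := ((hB0.of_iso eB.symm)).of_iso
          ((cokernelIsCokernel s).coconePointUniqueUpToIso hsq.gIsCokernel)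
        exact hz.eq_of_tgt _ _
      haveI : Mono s := hsq.mono_f
      haveI := isIso_of_mono_of_epi s
      refine ⟨ss_of_iso hL a1' (asIso s).symm, ?_⟩
      rw [hp_iso k hL (asIso s) (isCoh_P (hUc.inter hS) hcU)]
      exact a2'
    obtain ⟨b1, b2⟩ := ih B hBlt hTo hB0
    have b1' := ss_of_iso hL b1 eB.symm
    have b2' : RedEq d (hp k L (P W (P U E))) R := (hp_iso k hL eB hcB).symm ▸ b2
    have key := MuBasics.isEllSemistable_of_shortExact (k := k) hL (ℓ := d) hsq
      (toEll hL hd a1') (toEll hL hd b1')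
      (by
        rw [Basics.topPart_self (hd _ a1'.1), Basics.topPart_self (hd _ b1'.1)]
        exact redEq_pair hR a2' b2')
    obtain ⟨hU1, hU2⟩ := key
    rw [Basics.topPart_self (hd _ hU1.1), Basics.topPart_self (hd _ a1'.1)] at hU2
    exact ⟨ofEll hL hd hU1,
      redEq_of_pair (Saturation.alpha_pos hL a1'.1 a1'.2.1 a1'.2.2.1).ne' hU2 a2'⟩
where
  toEll {d : ℕ} (hL : CohB1.IsAmple L) (hd : ∀ G : X.Modules, Coh.IsCoh G → (SubLattice.hp k L G).natDegree ≤ d)
      {M : X.Modules} (hM : ShStab.IsSemistable k X L M d) : ShStab.IsEllSemistable k X L M d d :=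
    ⟨hM.1, hM.2.1, hM.2.2.1, fun G κ hκ hG pG pE hpG hpE h1 h2 => by
      haveI := hκ
      rw [← SubLattice.hp_eq k L hpG, ← SubLattice.hp_eq k L hpE, Basics.topPart_self (hd _ hG),
        Basics.topPart_self (hd _ hM.1)]
      by_cases h0 : IsZero G
      · rw [SubLattice.hp_isZero k hL h0]; simp [RedLE, alpha, PolyOrder.polyLE_refl]
      · exact Basics.redLE_sub hL hM κ hG h0⟩
  ofEll {d : ℕ} (hL : CohB1.IsAmple L) (hd : ∀ G : X.Modules, Coh.IsCoh G → (SubLattice.hp k L G).natDegree ≤ d)
      {M : X.Modules} (hM : ShStab.IsEllSemistable k X L M d d) : ShStab.IsSemistable k X L M d :=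
    ⟨hM.1, hM.2.1, hM.2.2.1, fun G κ hκ hG h0 _ pG pE hpG hpE => by
      haveI := hκ
      have := MuBasics.redLE_sub hL hM κ hG h0
      rwa [Basics.topPart_self (hd _ hG), Basics.topPart_self (hd _ hM.1),
        SubLattice.hp_eq k L hpG, SubLattice.hp_eq k L hpE] at this⟩

end Groth.Agent.Lib.ShStab.Clopen
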