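import Groth.Agent.Lib.ShStab.ComponentLine
import Groth.Agent.Lib.ZarCoh.Linear
import Groth.Agent.Lib.PushClosed.Basic

/-!
# Vanishing, generation and bundles, component by component
-/

set_option autoImplicit false
set_option linter.style.haveILetI false
set_option linter.unusedSectionVars false
universe u

open CategoryTheory CategoryTheory.Limits AlgebraicGeometry TopologicalSpace

noncomputable section

namespace Groth.Agent.Lib.ShStab.ComponentBounded

open Groth.Agent.Lib
open Groth.Agent.Lib.RefHull.PushU (P un)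
open Groth.Agent.Lib.ShStab.ComponentLine (IsComp)
open Groth.Agent.Lib.Modules.StalkModule (stalkMapₗ)

variable {Y : Scheme.{u}}

theorem isZero_freeMod_zero (Z : Scheme.{u}) : IsZero (FlatMod.freeMod Z 0) :=
  (IsZero.iff_id_eq_zero _).2 (Sigma.hom_ext _ _ fun i => Fin.elim0 i)

/-- Bundles on a closed open extend by zero to bundles. -/
theorem isFinLocFree_push {U : Y.Opens} (hU : IsClosed (U : Set Y)) {Q : (↑U : Scheme.{u}).Modules}
    (hQ : FlatMod.IsFinLocFree Q) : FlatMod.IsFinLocFree ((Scheme.Modules.pushforward U.ι).obj Q) := by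
  intro y
  by_cases hy : y ∈ U
  · obtain ⟨W₀, n, hy₀, ⟨e⟩⟩ := hQ ⟨y, hy⟩
    let φ := U.ι.isoImage W₀
    have hφ : (U.ι ''ᵁ W₀).ι = φ.inv ≫ W₀.ι ≫ U.ι := by
      rw [← U.ι.isoImage_inv_ι W₀]
    refine ⟨U.ι ''ᵁ W₀, n, ⟨⟨y, hy⟩, hy₀, rfl⟩, ⟨(Scheme.Modules.restrictFunctorCongr hφ).app _ ≪≫
      (Scheme.Modules.restrictFunctorComp φ.inv (W₀.ι ≫ U.ι)).app _ ≪≫
      (Scheme.Modules.restrictFunctor φ.inv).mapIso ((Scheme.Modules.restrictFunctorComp W₀.ι U.ι).app _ ≪≫
        (Scheme.Modules.restrictFunctor W₀.ι).mapIso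
          ((asIso (Scheme.Modules.restrictAdjunction U.ι).counit).app Q) ≪≫ e) ≪≫
      TensorMod.LocFree.restrictFreeModIso _ n⟩⟩
  · let V : Y.Opens := ⟨(U : Set Y)ᶜ, hU.isOpen_compl⟩
    haveI := SymSplit.Classes.isClosedImmersion_ι U hU
    refine ⟨V, 0, hy, ⟨IsZero.iso ?_ (isZero_freeMod_zero _)⟩⟩
    rw [Modules.Stalk.isZero_iff_stalk_subsingleton]
    intro z
    haveI : Subsingleton (((Scheme.Modules.pushforward U.ι).obj Q).presheaf.stalk (V.ι z)) :=
      PushClosed.Unit.subsingleton_stalk_push U.ι Q (by rw [Scheme.Opens.range_ι]; exact z.2)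
    exact (Modules.StalkRestrict.restrictStalkAddEquiv V.ι _ z).toEquiv.subsingleton

/-- A quotient on a part is a quotient on the whole. -/
theorem exists_push_quotient {U : Y.Opens} (hU : IsClosed (U : Set Y)) {E : Y.Modules}
    {Q : (↑U : Scheme.{u}).Modules} (q : E.restrict U.ι ⟶ Q) [Epi q] :
    ∃ p : E ⟶ (Scheme.Modules.pushforward U.ι).obj Q, Epi p := by
  haveI := SymSplit.Classes.isClosedImmersion_ι U hU
  haveI := Clopen.epi_un hU E
  haveI : Epi ((Scheme.Modules.pushforward U.ι).map q) := inferInstance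
  exact ⟨un U E ≫ (Scheme.Modules.pushforward U.ι).map q, epi_comp _ _⟩

/-- The free module. -/
abbrev fr (Z : Scheme.{u}) (J : Type u) : Z.Modules := ∐ fun _ : J => Coh.structureModule Z

/-- Generation is tested on closed opens covering the space. -/
theorem gg_of_cover {ι' : Type u} (U : ι' → Y.Opens) (hU : ∀ i, IsClopen (U i : Set Y))
    (hcov : ∀ y : Y, ∃ i, y ∈ U i) (G : Y.Modules)
    (h : ∀ i, Curv2.IsGloballyGenerated (G.restrict (U i).ι)) : Curv2.IsGloballyGenerated G := by
  classical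
  choose κ p₀ hp₀ using h
  let p : ∀ i, fr (↑(U i) : Scheme.{u}) (κ i) ⟶ G.restrict (U i).ι := p₀
  have hp : ∀ i, Epi (p i) := hp₀
  choose s w hs _ using fun i => Clopen.split (hU i).1
    (V := ⟨(U i : Set Y)ᶜ, (hU i).1.isOpen_compl⟩) (hU i).2.isClosed_compl rfl G
  haveI : ∀ i, HasCoproduct (fun _ : κ i => Coh.structureModule Y) := fun i => inferInstance
  haveI : ∀ i, PreservesColimitsOfShape (Discrete (κ i)) (Scheme.Modules.restrictFunctor (U i).ι) :=
    fun i => inferInstance
  let e : ∀ i, (Scheme.Modules.restrictFunctor (U i).ι).obj (fr Y (κ i)) ≅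
      (fr (↑(U i) : Scheme.{u}) (κ i)) := fun i =>
    PreservesCoproduct.iso (Scheme.Modules.restrictFunctor (U i).ι) (fun _ : κ i => Coh.structureModule Y) ≪≫
      Sigma.mapIso (fun _ => Scheme.Modules.restrictUnitIso (U i).ι)
  let q : ∀ i, (fr Y (κ i)) ⟶ G := fun i =>
    (un (U i) (fr Y (κ i)) ≫
      (Scheme.Modules.pushforward (U i).ι).map ((e i).hom ≫ p i)) ≫ s i
  let π : (fr Y (Σ i, κ i)) ⟶ G :=
    Sigma.desc fun j : Σ i, κ i => Sigma.ι (fun _ : κ j.1 => Coh.structureModule Y) j.2 ≫ q j.1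
  refine ⟨Σ i, κ i, π, (Modules.StalkModule.epi_iff_stalkMapₗ_surjective π).2 fun y v => ?_⟩
  obtain ⟨i, hy⟩ := hcov y
  let inc : (fr Y (κ i)) ⟶ (fr Y (Σ i, κ i)) :=
    Sigma.desc fun a : κ i => Sigma.ι (fun _ : Σ i, κ i => Coh.structureModule Y) ⟨i, a⟩
  have hinc : inc ≫ π = q i := by
    refine Sigma.hom_ext (f := fun _ : κ i => Coh.structureModule Y) _ _ fun a => ?_
    simp [inc, π]
  haveI := SymSplit.Classes.isClosedImmersion_ι (U i) (hU i).1
  haveI := hp i
  haveI := Clopen.epi_un (hU i).1 (fr Y (κ i))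
  haveI : Epi (e i).hom := IsIso.epi_of_iso _
  haveI : Epi ((e i).hom ≫ p i) := epi_comp _ _
  haveI : Epi ((Scheme.Modules.pushforward (U i).ι).map ((e i).hom ≫ p i)) := Functor.map_epi _ _
  haveI : Epi (un (U i) (fr Y (κ i)) ≫
      (Scheme.Modules.pushforward (U i).ι).map ((e i).hom ≫ p i)) := epi_comp _ _
  obtain ⟨a, ha⟩ := (Modules.StalkModule.epi_iff_stalkMapₗ_surjective
    (un (U i) (fr Y (κ i)) ≫
      (Scheme.Modules.pushforward (U i).ι).map ((e i).hom ≫ p i))).1 inferInstance y (stalkMapₗ (un (U i) G) y v)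
  refine ⟨stalkMapₗ inc y a, ?_⟩
  refine (((LinearMap.congr_fun (Modules.StalkModule.stalkMapₗ_comp inc π y) a).symm.trans
    (congrArg (fun f => stalkMapₗ f y a) hinc))).trans ?_
  refine (RefHull.PushU.unit_bijective (U i) (M := G) hy).1 ?_
  refine ((LinearMap.congr_fun (Modules.StalkModule.stalkMapₗ_comp (q i) (un (U i) G) y) a).symm).trans ?_
  refine (congrArg (fun f => stalkMapₗ f y a) ?_).trans ha
  simp only [q, Category.assoc, hs i, Category.comp_id]

variable (k : Type u) [Field k] [Y.Over (Spec (CommRingCat.of k))] [IsProper (Y ↘ Spec (CommRingCat.of k))]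

attribute [local instance] SurfRR.Components.overOpen

variable [AlgebraicGeometry.IsNoetherian Y]

include k

/-- `H¹` vanishes if it vanishes on all components. -/
theorem h1_of_parts (G : Y.Modules) (hG : Coh.IsCoh G) :
    ∀ (s : Finset Y.Opens), (∀ U ∈ s, IsComp U) →
      (∀ y, (∀ U ∈ s, y ∉ U) → Subsingleton (G.presheaf.stalk y)) →
      (∀ U ∈ s, Subsingleton (Coh.HH (↑U : Scheme.{u}) (G.restrict U.ι) 1)) →
      Subsingleton (Coh.HH Y G 1) := by
  classical
  intro s
  induction s using Finset.induction_on generalizing G with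
  | empty =>
    intro _ h _
    exact CurveBundle.H0Crit.h1_isZero (Modules.Stalk.isZero_iff_stalk_subsingleton.2 fun y =>
      h y (fun U hU => absurd hU (Finset.notMem_empty U)))
  | insert U s hUs ih =>
    intro hs h hH
    have hU := hs U (Finset.mem_insert_self U s)
    let V : Y.Opens := ⟨(U : Set Y)ᶜ, hU.1.1.isOpen_compl⟩
    obtain ⟨a, w, -, hS⟩ := Clopen.split hU.1.1 (V := V) hU.1.2.isClosed_compl rfl G
    have h2 := Clopen.isCoh_P (U := V) hU.1.2.isClosed_compl hG
    haveI := SymSplit.Classes.isClosedImmersion_ι U hU.1.1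
    haveI := (Biduality.Global.isCoh_restrict U.ι hG).1
    haveI := hH U (Finset.mem_insert_self U s)
    refine H34.HOne.h1_of_shortExact hS
      (ZarCoh.Linear.affineLinearEquiv (A := k) U.ι rfl (G.restrict U.ι) 1).toEquiv.subsingleton
      (ih (P V G) h2 (fun W hW => hs W (Finset.mem_insert_of_mem hW)) (fun y hy => ?_) fun W hW => ?_)
    · by_cases hyV : y ∈ V
      · haveI := h y (fun W hW => by
          rcases Finset.mem_insert.1 hW with rfl | hW
          · exact hyV
          · exact hy W hW)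
        exact (RefHull.PushU.unit_bijective V (M := G) hyV).2.subsingleton
      · exact Clopen.subsingleton_P (U := V) hU.1.2.isClosed_compl G hyV
    · have hW' := hs W (Finset.mem_insert_of_mem hW)
      have hWV : W ≤ V := fun y hy hyU => hUs (ComponentLine.eq_of_mem hW' hU hy hyU ▸ hW)
      obtain ⟨e⟩ := Clopen.nested hW'.1.1 hWV G
      haveI := hH W (Finset.mem_insert_of_mem hW)
      haveI := SymSplit.Classes.isClosedImmersion_ι W hW'.1.1
      let c := fun M : Y.Modules => (asIso (Scheme.Modules.restrictAdjunction W.ι).counit).app (M.restrict W.ι)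
      exact H34.HOne.h1_of_iso ((c G).symm ≪≫ (Scheme.Modules.restrictFunctor W.ι).mapIso e ≪≫ c (P V G))
        (hH W (Finset.mem_insert_of_mem hW))

end Groth.Agent.Lib.ShStab.ComponentBounded
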