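import Groth.Agent.Lib.ShStab.Linear
import Groth.Agent.Lib.CurveBundle.AutCount
import Groth.Agent.Lib.CurveBundle.RankTwoExt
import Groth.Agent.Lib.CurveBundle.Point
import Groth.Agent.Lib.SurfRR.Components
import Groth.Agent.Lib.SurfInt.Push
import Groth.Agent.Lib.Biduality.Global
import Groth.Agent.Lib.Ample.Restrict
import Groth.Agent.Lib.SymSplit.Classes

/-!
# Line bundles prescribed component by component on a smooth curve
-/

set_option autoImplicit false
set_option linter.style.haveILetI false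
set_option linter.unusedSectionVars false
universe u

open CategoryTheory CategoryTheory.Limits AlgebraicGeometry TopologicalSpace Opposite StabCat

noncomputable section

namespace Groth.Agent.Lib.ShStab.ComponentLine

open Groth.Agent.Lib
open Groth.Agent.Lib.RefHull.PushU (P un)
open Groth.Agent.Lib.Modules.StalkModule (stalkMapₗ)

attribute [local instance] CategoryTheory.Abelian.hasFiniteBiproducts

variable {Y : Scheme.{u}}

/-- The connected components, as opens. -/
def IsComp (U : Y.Opens) : Prop := IsClopen (U : Set Y) ∧ _root_.IsConnected (U : Set Y)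

theorem eq_of_mem {U V : Y.Opens} (hU : IsComp U) (hV : IsComp V) {y : Y} (hyU : y ∈ U) (hyV : y ∈ V) : U = V :=
  Opens.ext (subset_antisymm (hU.2.isPreconnected.subset_isClopen hV.1 ⟨y, hyU, hyV⟩)
    (hV.2.isPreconnected.subset_isClopen hU.1 ⟨y, hyV, hyU⟩))

theorem exists_cover [NoetherianSpace Y] :
    ∃ t : Finset Y.Opens, (∀ U ∈ t, IsComp U) ∧ (∀ U, IsComp U → U ∈ t) ∧ ∀ y : Y, ∃ U ∈ t, y ∈ U := by
  classical
  choose C hC hxC hcon using fun x : Y =>
    (SurfRR.Components.exists_connected_clopen x : ∃ U : Y.Opens, IsClosed (U : Set Y) ∧ x ∈ U ∧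
      ConnectedSpace (U : Set Y))
  have hcomp : ∀ x, IsComp (C x) := fun x =>
    ⟨⟨hC x, (C x).2⟩, isConnected_iff_connectedSpace.2 (hcon x)⟩
  obtain ⟨s, hs⟩ := (NoetherianSpace.isCompact (Set.univ : Set Y)).elim_finite_subcover (fun x => (C x : Set Y))
    (fun x => (C x).2) (fun x _ => Set.mem_iUnion.2 ⟨x, hxC x⟩)
  refine ⟨s.image C, fun U hU => ?_, fun U hU => ?_, fun y => ?_⟩
  · obtain ⟨x, -, rfl⟩ := Finset.mem_image.1 hU
    exact hcomp x
  · obtain ⟨y, hy⟩ := hU.2.nonempty
    obtain ⟨x, hx, hyx⟩ := Set.mem_iUnion₂.1 (hs (Set.mem_univ y))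
    exact Finset.mem_image.2 ⟨x, hx, eq_of_mem (hcomp x) hU hyx hy⟩
  · obtain ⟨x, hx, hyx⟩ := Set.mem_iUnion₂.1 (hs (Set.mem_univ y))
    exact ⟨C x, Finset.mem_image_of_mem _ hx, hyx⟩

/-- Modules prescribed on the components glue. -/
theorem exists_glue [NoetherianSpace Y] (N : ∀ U : Y.Opens, (↑U : Scheme.{u}).Modules)
    (hN : ∀ U, IsComp U → PicF.IsInvertible (N U)) :
    ∃ E : Y.Modules, PicF.IsInvertible E ∧ ∀ V, IsComp V → Nonempty (E.restrict V.ι ≅ N V) := by
  classical
  obtain ⟨t, ht, hmem, hcov⟩ := exists_cover (Y := Y)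
  let f : t → Y.Modules := fun U => (Scheme.Modules.pushforward U.1.ι).obj (N U.1)
  have key : ∀ V : t, IsIso ((Scheme.Modules.restrictFunctor V.1.ι).map
      (Sigma.desc (fun U => if h : U = V then eqToHom (congrArg f h) else 0) : ∐ f ⟶ f V)) := by
    intro V
    let π : ∀ W : t, ∐ f ⟶ f W := fun W => Sigma.desc (fun U => if h : U = W then eqToHom (congrArg f h) else 0)
    have hπ : ∀ W U, Sigma.ι f U ≫ π W = if h : U = W then eqToHom (congrArg f h) else 0 := fun W U => by
      simp [π]
    have htot : ∑ W, π W ≫ Sigma.ι f W = 𝟙 (∐ f) := by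
      refine Sigma.hom_ext _ _ fun U => ?_
      rw [Preadditive.comp_sum, Category.comp_id, Finset.sum_eq_single U (fun W _ hW => by
        rw [← Category.assoc, hπ, dif_neg hW.symm, Limits.zero_comp]) (fun h => absurd (Finset.mem_univ U) h),
        ← Category.assoc, hπ, dif_pos rfl, eqToHom_refl, Category.id_comp]
    have hbij : ∀ y ∈ V.1, Function.Bijective (stalkMapₗ (π V) y) := by
      intro y hy
      have hs : stalkMapₗ (π V ≫ Sigma.ι f V) y = LinearMap.id := by
        refine Eq.trans ?_ (Modules.StalkModule.stalkMapₗ_id y)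
        rw [← htot]
        refine LinearMap.ext fun v => ?_
        have hsum : ∀ T : Finset t, stalkMapₗ (∑ W ∈ T, π W ≫ Sigma.ι f W) y v =
            ∑ W ∈ T, stalkMapₗ (π W ≫ Sigma.ι f W) y v := fun T => by
          induction T using Finset.induction_on with
          | empty => rw [Finset.sum_empty, Finset.sum_empty, Modules.StalkModule.stalkMapₗ_zero]; rfl
          | insert i T hi ih =>
            rw [Finset.sum_insert hi, Finset.sum_insert hi, Modules.StalkModule.stalkMapₗ_add,
              LinearMap.add_apply, ih]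
        rw [hsum, Finset.sum_eq_single V (fun W _ hW => ?_) (fun h => absurd (Finset.mem_univ V) h)]
        haveI : IsClosedImmersion W.1.ι :=
          SymSplit.Classes.isClosedImmersion_ι W.1 (ht W.1 W.2).1.1
        haveI : Subsingleton ((f W).presheaf.stalk y) :=
          PushClosed.Unit.subsingleton_stalk_push W.1.ι (N W.1) (by
            rw [Scheme.Opens.range_ι]
            exact fun hyW => hW (Subtype.ext (eq_of_mem (ht W.1 W.2) (ht V.1 V.2) hyW hy)))
        rw [Modules.StalkModule.stalkMapₗ_comp, LinearMap.comp_apply,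
          Subsingleton.elim (stalkMapₗ (π W) y v) 0, map_zero]
      refine ⟨fun a b h => ?_, fun w => ⟨stalkMapₗ (Sigma.ι f V) y w, ?_⟩⟩
      · have ha := LinearMap.congr_fun hs a
        have hb := LinearMap.congr_fun hs b
        rw [Modules.StalkModule.stalkMapₗ_comp, LinearMap.comp_apply] at ha hb
        rw [h] at ha
        exact ha.symm.trans hb
      · rw [← LinearMap.comp_apply, ← Modules.StalkModule.stalkMapₗ_comp, hπ, dif_pos rfl, eqToHom_refl,
          Modules.StalkModule.stalkMapₗ_id, LinearMap.id_apply]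
    haveI : IsIso ((Scheme.Modules.pushforward V.1.ι).map ((Scheme.Modules.restrictFunctor V.1.ι).map (π V))) := by
      rw [Modules.StalkModule.isIso_iff_stalkMapₗ_bijective]
      intro y
      by_cases hy : y ∈ V.1
      · have hnat : π V ≫ un V.1 (f V) = un V.1 (∐ f) ≫
            (Scheme.Modules.pushforward V.1.ι).map ((Scheme.Modules.restrictFunctor V.1.ι).map (π V)) :=
          (Scheme.Modules.restrictAdjunction V.1.ι).unit.naturality (π V)
        have h1 : Function.Bijective (stalkMapₗ (π V ≫ un V.1 (f V)) y) := by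
          rw [Modules.StalkModule.stalkMapₗ_comp]
          exact (RefHull.PushU.unit_bijective V.1 hy).comp (hbij y hy)
        rw [hnat, Modules.StalkModule.stalkMapₗ_comp] at h1
        exact (Function.Bijective.of_comp_iff _ (RefHull.PushU.unit_bijective V.1 hy)).1 h1
      · haveI := Clopen.subsingleton_P (ht V.1 V.2).1.1 (∐ f) hy
        haveI := Clopen.subsingleton_P (ht V.1 V.2).1.1 (f V) hy
        exact ⟨fun a b _ => Subsingleton.elim _ _, fun v => ⟨0, Subsingleton.elim _ _⟩⟩
    let ff : (Scheme.Modules.pushforward V.1.ι).FullyFaithful :=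
      (Scheme.Modules.restrictAdjunction V.1.ι).fullyFaithfulROfIsIsoCounit
    haveI := ff.full
    haveI := ff.faithful
    exact isIso_of_reflects_iso _ (Scheme.Modules.pushforward V.1.ι)
  have hiso : ∀ V, IsComp V → Nonempty ((∐ f).restrict V.ι ≅ N V) := fun V hV => by
    exact ⟨@asIso _ _ _ _ _ (key ⟨V, hmem V hV⟩) ≪≫ (asIso (Scheme.Modules.restrictAdjunction V.ι).counit).app (N V)⟩
  refine ⟨∐ f, Ample.Restrict.isInvertible_of_isInvertible_pb (fun V : t => V.1) (top_le_iff.1 fun y _ => ?_)
    (fun V => ?_), hiso⟩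
  · obtain ⟨U, hU, hy⟩ := hcov y
    exact Opens.mem_iSup.2 ⟨⟨U, hU⟩, hy⟩
  · obtain ⟨e⟩ := hiso V.1 (ht V.1 V.2)
    exact TensorMod.Invertible.isInvertible_of_iso
      (e.symm ≪≫ (Scheme.Modules.restrictFunctorIsoPullback V.1.ι).app (∐ f)) (hN V.1 (ht V.1 V.2))

variable (k : Type u) [Field k] [Y.Over (Spec (CommRingCat.of k))] [IsProper (Y ↘ Spec (CommRingCat.of k))]

attribute [local instance] SurfRR.Components.overOpen

/-- Twisting keeps the vanishing outside a closed open. -/
theorem tensor_off {U : Y.Opens} (hU : IsClosed (U : Set Y)) {G : Y.Modules}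
    (h : ∀ y ∉ U, Subsingleton (G.presheaf.stalk y)) (L : Y.Modules) :
    ∀ y ∉ U, Subsingleton ((CohB1.tensorMod G L).presheaf.stalk y) := by
  intro y hy
  let V : Y.Opens := ⟨(U : Set Y)ᶜ, hU.isOpen_compl⟩
  have hz : IsZero (G.restrict V.ι) := by
    rw [Modules.Stalk.isZero_iff_stalk_subsingleton]
    intro z
    haveI : Subsingleton (G.presheaf.stalk (V.ι z)) := h _ z.2
    exact (Modules.StalkRestrict.restrictStalkAddEquiv V.ι G z).toEquiv.subsingleton
  have hz1 : IsZero (CohB1.tensorMod (G.restrict V.ι) (L.restrict V.ι)) := by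
    rw [IsZero.iff_id_eq_zero, ← TensorMod.Basic.tmap_id, hz.eq_of_src (𝟙 (G.restrict V.ι)) 0,
      TensorMod.Integral.tmap_zero_left]
  have hz2 : IsZero ((CohB1.tensorMod G L).restrict V.ι) :=
    hz1.of_iso (TensorMod.Pullback.restrictTensorIso V.ι G L)
  haveI : Subsingleton ((P V (CohB1.tensorMod G L)).presheaf.stalk y) :=
    (Modules.Stalk.isZero_iff_stalk_subsingleton (M := P V (CohB1.tensorMod G L))).1
      ((Scheme.Modules.pushforward V.ι).map_isZero hz2) y
  exact (RefHull.PushU.unit_bijective V (M := CohB1.tensorMod G L) hy).1.subsingleton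

/-- The Euler characteristic of a part is computed on the piece. -/
theorem euler_P {U : Y.Opens} (hU : IsClosed (U : Set Y)) (G : Y.Modules) [G.IsQuasicoherent] :
    Curv2.euler k Y (P U G) = Curv2.euler k (↑U : Scheme.{u}) (G.restrict U.ι) := by
  haveI := SymSplit.Classes.isClosedImmersion_ι U hU
  exact SurfInt.Push.euler_push U.ι rfl (G.restrict U.ι)

variable [AlgebraicGeometry.IsNoetherian Y] (hdim : topologicalKrullDim Y ≤ 1)

include hdim

/-- The Euler characteristic is additive over components. -/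
theorem euler_sum (G : Y.Modules) (hG : Coh.IsCoh G) :
    ∀ (s : Finset Y.Opens), (∀ U ∈ s, IsComp U) →
      (∀ y, (∀ U ∈ s, y ∉ U) → Subsingleton (G.presheaf.stalk y)) →
      Curv2.euler k Y G = ∑ U ∈ s, Curv2.euler k (↑U : Scheme.{u}) (G.restrict U.ι) := by
  classical
  intro s
  induction s using Finset.induction_on generalizing G with
  | empty =>
    intro _ h
    have hz : IsZero G := Modules.Stalk.isZero_iff_stalk_subsingleton.2 fun y =>
      h y (fun U hU => absurd hU (Finset.notMem_empty U))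
    rw [Finset.sum_empty]
    obtain ⟨d, hd⟩ := Snapper.DimBound.exists_dim_bound k Y
    rw [Snapper.Chi.euler_eq_eulerCharLE hd]
    exact Snapper.Chi.eulerCharLE_isZero hz d
  | insert U s hUs ih =>
    intro hs h
    have hU := hs U (Finset.mem_insert_self U s)
    let V : Y.Opens := ⟨(U : Set Y)ᶜ, hU.1.1.isOpen_compl⟩
    obtain ⟨a, w, -, hS⟩ := Clopen.split hU.1.1 (V := V) hU.1.2.isClosed_compl rfl G
    have h1 := Clopen.isCoh_P hU.1.1 hG
    have h2 := Clopen.isCoh_P (U := V) hU.1.2.isClosed_compl hG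
    have he := Curves.Euler.euler_add hS (Curves.Finiteness.isGood_of_isCoh (k := k) hdim h1)
      (Curves.Finiteness.isGood_of_isCoh (k := k) hdim hG) (Curves.Finiteness.isGood_of_isCoh (k := k) hdim h2)
    dsimp only at he
    haveI := hG.1
    rw [Finset.sum_insert hUs, he, euler_P (k := k) hU.1.1, ih (P V G) h2 (fun W hW => hs W (Finset.mem_insert_of_mem hW)) ?_]
    · refine congrArg₂ (· + ·) rfl (Finset.sum_congr rfl fun W hW => ?_)
      have hWV : W ≤ V := fun y hy hyU =>
        hUs (eq_of_mem (hs W (Finset.mem_insert_of_mem hW)) hU hy hyU ▸ hW)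
      obtain ⟨e⟩ := Clopen.nested (hs W (Finset.mem_insert_of_mem hW)).1.1 hWV G
      haveI := h2.1
      rw [← euler_P k (hs W (Finset.mem_insert_of_mem hW)).1.1, ← euler_P k (hs W (Finset.mem_insert_of_mem hW)).1.1]
      exact Curves.Euler.euler_eq_of_iso e.symm
    · intro y hy
      by_cases hyV : y ∈ V
      · haveI := h y (fun W hW => by
          rcases Finset.mem_insert.1 hW with rfl | hW
          · exact hyV
          · exact hy W hW)
        exact (RefHull.PushU.unit_bijective V (M := G) hyV).2.subsingleton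
      · exact Clopen.subsingleton_P (U := V) hU.1.2.isClosed_compl G hyV

theorem euler_eq_sum {t : Finset Y.Opens} (ht : ∀ U ∈ t, IsComp U) (hcov : ∀ y : Y, ∃ U ∈ t, y ∈ U)
    {G : Y.Modules} (hG : Coh.IsCoh G) :
    Curv2.euler k Y G = ∑ U ∈ t, Curv2.euler k (↑U : Scheme.{u}) (G.restrict U.ι) :=
  euler_sum k hdim G hG t ht fun y h => absurd (hcov y) (by rintro ⟨U, hU, hy⟩; exact h U hU hy)

omit hdim

/-- A module supported on a component. -/
theorem euler_of_supported (hdim : topologicalKrullDim Y ≤ 1) {U : Y.Opens} (hU : IsComp U) {G : Y.Modules}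
    (hG : Coh.IsCoh G) (h : ∀ y ∉ U, Subsingleton (G.presheaf.stalk y)) :
    Curv2.euler k Y G = Curv2.euler k (↑U : Scheme.{u}) (G.restrict U.ι) := by
  rw [euler_sum k hdim G hG {U} (fun V hV => Finset.mem_singleton.1 hV ▸ hU)
    (fun y hy => h y (hy U (Finset.mem_singleton_self U))), Finset.sum_singleton]

variable [IsAlgClosed k] [Smooth (Y ↘ Spec (CommRingCat.of k))]

/-- The curve context of a component. -/
theorem ctx_comp (hdim : topologicalKrullDim Y ≤ 1) (hpure : ∀ y : Y, ¬ IsOpen ({y} : Set Y)) {U : Y.Opens}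
    (hU : IsComp U) :
    IsIntegral (↑U : Scheme.{u}) ∧ IsProper ((↑U : Scheme.{u}) ↘ Spec (CommRingCat.of k)) ∧
      Smooth ((↑U : Scheme.{u}) ↘ Spec (CommRingCat.of k)) ∧ topologicalKrullDim (↑U : Scheme.{u}) = 1 := by
  haveI : ConnectedSpace (↑U : Scheme.{u}) := isConnected_iff_connectedSpace.1 hU.2
  haveI : Smooth ((↑U : Scheme.{u}) ↘ Spec (CommRingCat.of k)) :=
    inferInstanceAs (Smooth (U.ι ≫ (Y ↘ Spec (CommRingCat.of k))))
  haveI hp : IsProper ((↑U : Scheme.{u}) ↘ Spec (CommRingCat.of k)) :=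
    SurfRR.Components.isProper_of_clopen U hU.1.1
  haveI := RG.GeomComp.isIntegral_of_smooth_connected ((↑U : Scheme.{u}) ↘ Spec (CommRingCat.of k))
  refine ⟨inferInstance, inferInstance, inferInstance,
    le_antisymm (U.ι.isOpenEmbedding.toIsEmbedding.toIsInducing.topologicalKrullDim_le.trans hdim) ?_⟩
  by_contra hlt
  haveI : Subsingleton (↑U : Scheme.{u}) := by
    refine subsingleton_of_forall_eq (genericPoint (↑U : Scheme.{u})) fun x => by_contra fun hx => hlt ?_
    refine Order.one_le_krullDim_iff.2 ⟨(⟨closure {x}, isIrreducible_singleton.closure, isClosed_closure⟩ :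
      IrreducibleCloseds (↑U : Scheme.{u})), ⟨Set.univ, IrreducibleSpace.isIrreducible_univ _, isClosed_univ⟩,
      lt_of_le_of_ne (fun z _ => trivial) fun he => hx ?_⟩
    have hη : genericPoint (↑U : Scheme.{u}) ∈ closure ({x} : Set (↑U : Scheme.{u})) := by
      rw [show closure ({x} : Set (↑U : Scheme.{u})) = Set.univ from
        congrArg (fun A : IrreducibleCloseds _ => (A : Set (↑U : Scheme.{u}))) he]
      trivial
    exact (((genericPoint_spec (↑U : Scheme.{u})).specializes (Set.mem_univ x)).antisymm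
      (specializes_iff_mem_closure.2 hη)).eq.symm
  obtain ⟨y, hy⟩ := hU.2.nonempty
  refine hpure y ?_
  have he : ({y} : Set Y) = (U : Set Y) := subset_antisymm (Set.singleton_subset_iff.2 hy) fun z hz =>
    congrArg Subtype.val (Subsingleton.elim (α := (↑U : Scheme.{u})) ⟨z, hz⟩ ⟨y, hy⟩)
  rw [he]
  exact U.2

/-- An invertible module on a component is semistable on the curve. -/
theorem semistable_line (hdim : topologicalKrullDim Y ≤ 1) (hpure : ∀ y : Y, ¬ IsOpen ({y} : Set Y))
    {L : Y.Modules} (hL : CohB1.IsAmple L) {U : Y.Opens} (hU : IsComp U) {M : (↑U : Scheme.{u}).Modules}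
    (hM : PicF.IsInvertible M) :
    ShStab.IsSemistable k Y L ((Scheme.Modules.pushforward U.ι).obj M) 1 := by
  haveI := SymSplit.Classes.isClosedImmersion_ι U hU.1.1
  obtain ⟨hi, hp, hsm, hd1⟩ := ctx_comp k hdim hpure hU
  haveI := hi
  haveI := hp
  haveI := hsm
  haveI hC := CurveBundle.Ctx.ofIntegral k hd1
  haveI := hC.locNoeth
  obtain ⟨hMc, hMT, hMg, -⟩ := CurveBundle.SlopeLine.line (k := k) hM
  let N := (Scheme.Modules.pushforward U.ι).obj M
  have hNc : Coh.IsCoh N := Cyc.Dev.SchemeEquiv.isCoh_push U.ι hMc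
  have hoff : ∀ (G : Y.Modules) (κ : G ⟶ N), Mono κ → ∀ y ∉ U, Subsingleton (G.presheaf.stalk y) := by
    intro G κ hκ y hy
    haveI : Subsingleton (N.presheaf.stalk y) :=
      PushClosed.Unit.subsingleton_stalk_push U.ι M (by rw [Scheme.Opens.range_ι]; exact hy)
    haveI := hκ
    exact ((Modules.StalkModule.mono_iff_stalkMapₗ_injective κ).1 hκ y).subsingleton
  let c : N.restrict U.ι ≅ M := (asIso (Scheme.Modules.restrictAdjunction U.ι).counit).app M
  have hsupp : ∀ (G : Y.Modules), Coh.IsCoh G → (∀ y ∉ U, Subsingleton (G.presheaf.stalk y)) →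
      topologicalKrullDim (CohB1.support G) = topologicalKrullDim (CohB1.support (G.restrict U.ι)) := by
    intro G hG h
    have hiso : IsIso (un U G) := by
      rw [Modules.StalkModule.isIso_iff_stalkMapₗ_bijective]
      intro y
      by_cases hy : y ∈ U
      · exact RefHull.PushU.unit_bijective U hy
      · haveI := h y hy
        haveI := Clopen.subsingleton_P hU.1.1 G hy
        exact ⟨fun a b _ => Subsingleton.elim _ _, fun v => ⟨0, Subsingleton.elim _ _⟩⟩
    have : CohB1.support G = CohB1.support (P U G) := by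
      ext y
      exact not_congr (Modules.StalkModule.stalkLinearEquiv (asIso (un U G)) y).toEquiv.subsingleton_congr
    rw [this]
    exact HilbPoly.dim_support_push U.ι (G.restrict U.ι)
  have hmono : ∀ (G : Y.Modules) (κ : G ⟶ N), Mono κ →
      Mono ((Scheme.Modules.restrictFunctor U.ι).map κ ≫ c.hom) := by
    intro G κ hκ
    haveI := hκ
    haveI : Mono ((Scheme.Modules.restrictFunctor U.ι).map κ) := inferInstance
    exact mono_comp _ _
  have hnz : ∀ (G : Y.Modules), (∀ y ∉ U, Subsingleton (G.presheaf.stalk y)) → ¬ IsZero G →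
      ¬ IsZero (G.restrict U.ι) := by
    intro G h h0 hz
    refine h0 (Modules.Stalk.isZero_iff_stalk_subsingleton.2 fun y => ?_)
    by_cases hy : y ∈ U
    · haveI : Subsingleton ((P U G).presheaf.stalk y) :=
        (Modules.Stalk.isZero_iff_stalk_subsingleton (M := P U G)).1
          ((Scheme.Modules.pushforward U.ι).map_isZero hz) y
      exact (RefHull.PushU.unit_bijective U (M := G) hy).1.subsingleton
    · exact h y hy
  have hpureN : ShStab.IsPure Y N 1 := by
    intro G κ hκ hG h0
    haveI := hmono G κ hκ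
    rw [hsupp G hG (hoff G κ hκ)]
    exact MuBasics.isPure_of_isTorsionFree hMT 1 hd1 _ ((Scheme.Modules.restrictFunctor U.ι).map κ ≫ c.hom)
      inferInstance (Biduality.Global.isCoh_restrict U.ι hG) (hnz G (hoff G κ hκ) h0)
  have hN0 : ¬ IsZero N := fun h =>
    CurveBundle.AutCount.not_isZero (k := k) hM
      (((Scheme.Modules.restrictFunctor U.ι).map_isZero h).of_iso c.symm)
  refine ⟨hNc, hN0, hpureN, fun G κ hκ hG h0 hiso pG pN hpG hpN => ?_⟩
  haveI := hκ
  haveI := hG.1
  rw [← SubLattice.hp_eq k L hpG, ← SubLattice.hp_eq k L hpN]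
  let Q := cokernel κ
  have hQ : Coh.IsCoh Q := CohBasics.Closure.isCoh_cokernel κ hG.1 hNc
  have hS : (ShortComplex.mk κ (cokernel.π κ) (cokernel.condition κ)).ShortExact :=
    { exact := ShortComplex.exact_cokernel κ }
  have hQoff : ∀ y ∉ U, Subsingleton (Q.presheaf.stalk y) := fun y hy => by
    haveI : Subsingleton (N.presheaf.stalk y) :=
      PushClosed.Unit.subsingleton_stalk_push U.ι M (by rw [Scheme.Opens.range_ι]; exact hy)
    exact ((Modules.StalkModule.epi_iff_stalkMapₗ_surjective (cokernel.π κ)).1 inferInstance y).subsingleton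
  have hQU := Biduality.Global.isCoh_restrict U.ι hQ
  have hGU := Biduality.Global.isCoh_restrict U.ι hG
  have hNU := Biduality.Global.isCoh_restrict U.ι hNc
  have hSU : ((ShortComplex.mk κ (cokernel.π κ) (cokernel.condition κ)).map
      (Scheme.Modules.restrictFunctor U.ι)).ShortExact := hS.map_of_exact _
  have hgr := CurveBundle.Degree.gr_add k (S := (ShortComplex.mk κ (cokernel.π κ) (cokernel.condition κ)).map
      (Scheme.Modules.restrictFunctor U.ι)) hSU hNU
  have hG1 : CurveBundle.Degree.gr k (G.restrict U.ι) ≠ 0 := fun h => hnz G (hoff G κ hκ) h0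
    (CurveBundle.Degree.isZero_of_gr k hGU (by
      haveI := hmono G κ hκ
      exact CurveBundle.Rank.isTorsionFree_of_mono ((Scheme.Modules.restrictFunctor U.ι).map κ ≫ c.hom) hMT) h)
  have hQ0 : CurveBundle.Degree.gr k (Q.restrict U.ι) = 0 := by
    have hN1 : CurveBundle.Degree.gr k (N.restrict U.ι) = 1 := (CurveBundle.Degree.gr_congr k c).trans hMg
    change CurveBundle.Degree.gr k (N.restrict U.ι) =
      CurveBundle.Degree.gr k (G.restrict U.ι) + CurveBundle.Degree.gr k (Q.restrict U.ι) at hgr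
    omega
  have hLi := (Ample.Pow.isAmple_iff.1 hL).1
  have hLU : PicF.IsInvertible (L.restrict U.ι) := TensorMod.Invertible.isInvertible_of_iso
    ((Scheme.Modules.restrictFunctorIsoPullback U.ι).app L).symm
    (PicLoc.isInvertible_pullback U.ι hLi)
  have hQL : Coh.IsCoh (CohB1.tensorMod Q L) := CurveBundle.Twist.isCoh hLi hQ
  have hα : alpha 1 (SubLattice.hp k L Q) = 0 := by
    rw [(Linear.coeff_eq (k := k) hL hdim hQ).2, euler_of_supported k hdim hU hQ hQoff,
      euler_of_supported k hdim hU hQL (tensor_off hU.1.1 hQoff L)]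
    rw [Curves.Euler.euler_eq_of_iso (TensorMod.Pullback.restrictTensorIso U.ι Q L),
      (CurveBundle.Twist.euler_twist_torsion k hLU hQU hQ0).2, sub_self]
  haveI := Curves.GlobalSections.isNoetherian_of_proper k Y
  have hadd : SubLattice.hp k L N = SubLattice.hp k L G + SubLattice.hp k L Q :=
    SubLattice.hp_add k hL (S := ShortComplex.mk κ (cokernel.π κ) (cokernel.condition κ)) hS hG hNc hQ
  rw [hadd]
  have hQne : ¬ IsZero Q := fun hz => hiso (by
    haveI : Epi κ := Abelian.epi_of_cokernel_π_eq_zero κ (hz.eq_of_tgt _ _)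
    exact isIso_of_mono_of_epi κ)
  exact (PolyOrder.polyLT_iff.1 (Basics.redLT_add_of_alpha_eq_zero
    (Basics.alpha_pos_of_pure hL hpureN κ hG h0) hα (Interval.lc_pos hL hQ hQne))).1

end Groth.Agent.Lib.ShStab.ComponentLine
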