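import Groth.Agent.Lib.ShStab.Interval

/-!
# Harder-Narasimhan filtrations as series of submodules
-/

set_option autoImplicit false
universe u

open CategoryTheory CategoryTheory.Limits AlgebraicGeometry TopologicalSpace StabCat

noncomputable section

namespace Groth.Agent.Lib.ShStab.HN

open Groth.Agent.Lib SubLattice Interval PolyOrder

variable {X : Scheme.{u}} [IsNoetherian X] {E : X.Modules}

/-- Members of a series with coherent factors ending at the top are coherent. -/
theorem coh_of_factors (hE : Coh.IsCoh E) (s : LTSeries (Subobject E)) (hlast : s.last = ⊤)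
    (hf : ∀ i : Fin s.length, Coh.IsCoh (factor s i)) :
    ∀ i : Fin (s.length + 1), Coh.IsCoh ((s i : Subobject E) : X.Modules) := by
  intro i
  induction i using Fin.reverseInduction with
  | last =>
    have h : s (Fin.last s.length) = ⊤ := hlast
    rw [h]
    exact isCoh_top hE
  | cast i ih =>
    let f := Subobject.ofLE (s i.castSucc) (s i.succ) (le_of_lt (s.step i))
    have h := CohBasics.Closure.isCoh_kernel (cokernel.π f) ih (hf i).1
    exact isCoh_iso ((CategoryTheory.Abelian.monoIsKernelOfCokernel _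
      (cokernelIsCokernel f)).conePointUniqueUpToIso (kernelIsKernel (cokernel.π f))).symm h

variable {hE : Coh.IsCoh E}

/-- A series as a sequence in the lattice. -/
def seqOf (s : LTSeries (Subobject E)) (hc : ∀ i, Coh.IsCoh ((s i : Subobject E) : X.Modules)) :
    ℕ → CSub hE :=
  fun i => ⟨s ⟨min i s.length, by omega⟩, hc _⟩

theorem seqOf_castSucc (s : LTSeries (Subobject E))
    (hc : ∀ i, Coh.IsCoh ((s i : Subobject E) : X.Modules)) (i : Fin s.length) :
    (seqOf (hE := hE) s hc i.val).1 = s i.castSucc := by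
  show s _ = s _
  congr 1
  ext
  simp [i.isLt.le]

theorem seqOf_succ (s : LTSeries (Subobject E))
    (hc : ∀ i, Coh.IsCoh ((s i : Subobject E) : X.Modules)) (i : Fin s.length) :
    (seqOf (hE := hE) s hc (i.val + 1)).1 = s i.succ := by
  show s _ = s _
  congr 1
  ext
  simp [Nat.succ_le_of_lt i.isLt]

/-- A strictly increasing sequence in the lattice as a series. -/
def seriesOf (n : ℕ) (t : ℕ → CSub hE) (h : ∀ i, i < n → t i < t (i + 1)) :
    LTSeries (Subobject E) where
  length := n
  toFun i := (t i.val).1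
  step i := h i.val i.isLt

/-- Two series with the same terms are equal. -/
theorem series_ext {s t : LTSeries (Subobject E)} (hn : s.length = t.length)
    (h : ∀ i : ℕ, ∀ (hs : i < s.length + 1) (ht : i < t.length + 1), s ⟨i, hs⟩ = t ⟨i, ht⟩) : s = t :=
  RelSeries.ext hn (funext fun i => h i.val i.isLt (by omega))

variable {k : Type u} [Field k] [X.Over (Spec (CommRingCat.of k))]
  [IsProper (X ↘ Spec (CommRingCat.of k))] {L : X.Modules} (hL : CohB1.IsAmple L)
  {d : ℕ} (hpure : ShStab.IsPure X E d)

/-- The valuation attached to a pure module. -/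
abbrev psys : Sys (CSub hE) d := sys k hL d (hdeg_of_pure (hE := hE) hL hpure)

theorem hp_factor (s : LTSeries (Subobject E)) (hc : ∀ i, Coh.IsCoh ((s i : Subobject E) : X.Modules))
    (i : Fin s.length) :
    hp k L (factor s i) =
      (psys (k := k) (hE := hE) hL hpure).q (seqOf s hc i.val) (seqOf s hc (i.val + 1)) := by
  show _ = hp k L ((seqOf (hE := hE) s hc (i.val + 1)).1 : X.Modules) -
    hp k L ((seqOf (hE := hE) s hc i.val).1 : X.Modules)
  rw [seqOf_succ, seqOf_castSucc]
  exact hp_cokernel k hL _ (hc _) (hc _)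

theorem ss_congr {A B : CSub hE} {A' B' : Subobject E} (eA : A.1 = A') (eB : B.1 = B')
    (h : A' ≤ B') :
    ShStab.IsSemistable k X L (cokernel (Subobject.ofLE A' B' h)) d ↔
      (psys (k := k) (hE := hE) hL hpure).SS A B := by
  subst eA eB
  exact ss_iff hL _ h

/-- The criterion for a series to be a filtration. -/
theorem isHN_iff (s : LTSeries (Subobject E)) (hhead : s.head = ⊥) (hlast : s.last = ⊤)
    (hc : ∀ i, Coh.IsCoh ((s i : Subobject E) : X.Modules)) :
    ShStab.IsHNFiltration k X L E d s ↔
      (psys (k := k) (hE := hE) hL hpure).IsHN s.length (seqOf s hc) := by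
  have hH : ∀ i : Fin s.length, ShStab.IsHilbPoly k X L (factor s i) (hp k L (factor s i)) :=
    fun i => isHilbPoly_hp k hL (CohBasics.Closure.isCoh_cokernel _ (hc _).1 (hc _))
  constructor
  · intro ⟨_, _, hss, hdec⟩
    refine ⟨Subtype.ext ?_, fun i hi => ?_, fun i hi => ?_⟩
    · show s _ = ⊤
      rw [← hlast]
      show s _ = s _
      congr 1
      ext
      simp
    · exact (ss_congr hL hpure (seqOf_castSucc s hc ⟨i, hi⟩) (seqOf_succ s hc ⟨i, hi⟩) _).1 (hss ⟨i, hi⟩)
    · have := hdec ⟨i, by omega⟩ ⟨i + 1, hi⟩ rfl _ _ (hH _) (hH _)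
      rwa [hp_factor hL hpure s hc, hp_factor hL hpure s hc] at this
  · intro h
    refine ⟨hhead, hlast, fun i => ?_, fun i j hij p q hpp hpq => ?_⟩
    · exact (ss_congr hL hpure (seqOf_castSucc s hc i) (seqOf_succ s hc i) _).2 (h.2.1 i.val i.isLt)
    · obtain rfl : p = hp k L (factor s i) := (hp_eq k L hpp).symm
      obtain rfl : q = hp k L (factor s j) := (hp_eq k L hpq).symm
      rw [hp_factor hL hpure s hc, hp_factor hL hpure s hc, ← hij]
      exact h.2.2 i.val (by omega)

theorem coh_of_isHN {s : LTSeries (Subobject E)} (hE' : Coh.IsCoh E)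
    (h : ShStab.IsHNFiltration k X L E d s) (i : Fin (s.length + 1)) :
    Coh.IsCoh ((s i : Subobject E) : X.Modules) :=
  coh_of_factors hE' s h.2.1 (fun i => (h.2.2.1 i).1) i

include hL hpure in
/-- **Existence and uniqueness** of the Harder-Narasimhan filtration. -/
theorem existsUnique (hE' : Coh.IsCoh E) :
    ∃! s : LTSeries (Subobject E), ShStab.IsHNFiltration k X L E d s := by
  let S := psys (k := k) (hE := hE') hL hpure
  obtain ⟨n, t, ht0, ht⟩ := S.exists_isHN ⊥ (pure_top hL hpure)
  let s := seriesOf n t fun i hi => (ht.2.1 i hi).1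
  have hhead : s.head = ⊥ := congrArg Subtype.val ht0
  have hlast : s.last = ⊤ := congrArg Subtype.val ht.1
  have hc : ∀ i, Coh.IsCoh ((s i : Subobject E) : X.Modules) := fun i => (t i.val).2
  have hseq : ∀ i, i ≤ n → seqOf (hE := hE') s hc i = t i := fun i hi =>
    Subtype.ext (congrArg (fun j => (t j).1) (min_eq_left hi))
  have hs : ShStab.IsHNFiltration k X L E d s := (isHN_iff hL hpure s hhead hlast hc).2
    ⟨(hseq n le_rfl).trans ht.1,
      fun i (hi : i < n) => by rw [hseq i hi.le, hseq (i + 1) hi]; exact ht.2.1 i hi,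
      fun i (hi : i + 1 < n) => by
        rw [hseq i (by omega), hseq (i + 1) hi.le, hseq (i + 2) hi]
        exact ht.2.2 i hi⟩
  refine ⟨s, hs, fun s' hs' => ?_⟩
  have hc' := coh_of_isHN (k := k) hE' hs'
  have ht' := (isHN_iff (hE := hE') hL hpure s' hs'.1 hs'.2.1 hc').1 hs'
  obtain ⟨hlen, heq⟩ := S.isHN_unique _ _ _ _ ht' ht (by
    rw [ht0]
    exact Subtype.ext hs'.1)
  refine series_ext hlen fun i h1 h2 => ?_
  have := congrArg Subtype.val (heq i (by omega))
  refine Eq.trans ?_ this
  show s' _ = s' _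
  congr 1
  ext
  simp [Nat.le_of_lt_succ h1]

end Groth.Agent.Lib.ShStab.HN
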