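import Groth.Agent.Lib.ShStab.PolyOrder
import Mathlib.Algebra.Group.ForwardDiff
import Mathlib.Algebra.Polynomial.Eval.SMul
import Mathlib.Order.Lattice
import Mathlib.Order.WellFounded
import Mathlib.Tactic.LinearCombination

/-!
# Maximal destabilisers and Harder-Narasimhan chains in a lattice with a polynomial valuation
-/

set_option autoImplicit false

open Polynomial StabCat

noncomputable section

namespace Groth.Agent.Lib.ShStab

open PolyOrder

/-- An integer valued polynomial of degree at most `d` has integral multiplicity. -/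
theorem exists_int_alpha {P : ℚ[X]} {d : ℕ} (h : P.natDegree ≤ d)
    (hint : ∀ t : ℕ, ∃ z : ℤ, P.eval (t : ℚ) = z) : ∃ z : ℤ, alpha d P = z := by
  have e : alpha d P = (fwdDiff 1)^[d] P.eval 0 := by
    rcases h.lt_or_eq with hlt | rfl
    · rw [fwdDiff_iter_eq_zero_of_degree_lt hlt, alpha, coeff_eq_zero_of_natDegree_lt hlt,
        mul_zero, Pi.zero_apply]
    · rw [fwdDiff_iter_degree_eq_factorial]
      simp [alpha, mul_comm]
  choose z hz using hint
  refine ⟨∑ j ∈ Finset.range (d + 1), (-1 : ℤ) ^ (d - j) * (d.choose j : ℤ) * z j, ?_⟩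
  rw [e, fwdDiff_iter_eq_sum_shift, Int.cast_sum]
  refine Finset.sum_congr rfl fun j _ => ?_
  rw [zero_add, nsmul_one, hz, zsmul_eq_mul]
  push_cast
  ring

/-- A lattice with a weakly monotone additive polynomial valuation. -/
structure Sys0 (L : Type*) [Lattice L] (d : ℕ) where
  /-- the valuation -/
  v : L → ℚ[X]
  modular : ∀ a b, v (a ⊔ b) + v (a ⊓ b) = v a + v b
  lc_nonneg : ∀ a b, a ≤ b → 0 ≤ (v b - v a).leadingCoeff
  deg_le : ∀ a, (v a).natDegree ≤ d
  intAlpha : ∀ a, ∃ z : ℤ, alpha d (v a) = z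

/-- A lattice with a strictly monotone additive polynomial valuation. -/
structure Sys (L : Type*) [Lattice L] (d : ℕ) extends Sys0 L d where
  lc_pos : ∀ a b, a < b → 0 < (v b - v a).leadingCoeff

namespace Sys0

variable {L : Type*} [Lattice L] {d : ℕ} (S : Sys0 L d)

/-- The polynomial of an interval. -/
def q (a b : L) : ℚ[X] := S.v b - S.v a

theorem q_add (a b c : L) : S.q a b + S.q b c = S.q a c := by simp [q]

theorem q_self (a : L) : S.q a a = 0 := by simp [q]

theorem q_modular (a b : L) : S.q a (a ⊔ b) = S.q (a ⊓ b) b := by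
  simp only [q]
  linear_combination S.modular a b

theorem natDegree_q_le (a b : L) : (S.q a b).natDegree ≤ d :=
  (natDegree_sub_le _ _).trans (max_le (S.deg_le b) (S.deg_le a))

theorem alpha_nonneg {a b : L} (h : a ≤ b) : 0 ≤ alpha d (S.q a b) := by
  rcases (S.natDegree_q_le a b).lt_or_eq with hd | hd
  · simp [alpha, coeff_eq_zero_of_natDegree_lt hd]
  · rcases (S.lc_nonneg a b h).lt_or_eq with h0 | h0
    · exact (alpha_pos hd h0).le
    · change 0 = (S.q a b).leadingCoeff at h0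
      simp [leadingCoeff_eq_zero.1 h0.symm, alpha]

theorem exists_nat_alpha {a b : L} (h : a ≤ b) : ∃ m : ℕ, alpha d (S.q a b) = m := by
  obtain ⟨x, hx⟩ := S.intAlpha b
  obtain ⟨y, hy⟩ := S.intAlpha a
  have hz : alpha d (S.q a b) = ((x - y : ℤ) : ℚ) := by
    rw [q, alpha_sub, hx, hy, Int.cast_sub]
  refine ⟨(x - y).toNat, ?_⟩
  have : 0 ≤ x - y := by
    have := S.alpha_nonneg h
    rw [hz] at this
    exact_mod_cast this
  rw [hz]
  exact_mod_cast (Int.toNat_of_nonneg this).symm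

/-- Purity of an interval. -/
def Pure (a b : L) : Prop := ∀ c, a < c → c ≤ b → 0 < alpha d (S.q a c)

/-- Semistability of an interval. -/
def SS (a b : L) : Prop :=
  a < b ∧ S.Pure a b ∧ ∀ c, a < c → c ≤ b → RedLE d (S.q a c) (S.q a b)

theorem Pure.mono {a b c : L} (h : S.Pure a c) (hbc : b ≤ c) : S.Pure a b :=
  fun e he he' => h e he (he'.trans hbc)

/-- Adding a piece of smaller dimension increases the reduced polynomial. -/
theorem redLE_of_alpha_eq {a b c : L} (hab : a < b) (hbc : b ≤ c)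
    (hb : 0 < alpha d (S.q a b)) (h : alpha d (S.q b c) = 0) :
    RedLE d (S.q a b) (S.q a c) := by
  have hsum : alpha d (S.q a c) = alpha d (S.q a b) := by rw [← S.q_add a b c, alpha_add, h, add_zero]
  rw [RedLE, hsum, polyLE_smul_iff hb]
  rw [polyLE_iff, ← S.q_add a b c, add_sub_cancel_left]
  exact S.lc_nonneg b c hbc

/-- The crossing inequality. -/
theorem cross {F G I J : ℚ[X]} (hsum : I + J = F + G) (hF : 0 < alpha d F) (hG : 0 < alpha d G)
    (hJ : 0 < alpha d J) (hI0 : 0 ≤ alpha d I) (hIz : alpha d I = 0 → I = 0)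
    (hIG : alpha d I ≤ alpha d G) (hJF : RedLT d J F) (hFG : RedLE d F G) :
    0 < alpha d I ∧ RedLT d G I := by
  by_contra hc
  have hle : RedLE d I G := by
    rcases hI0.lt_or_eq with h | h
    · by_contra hh
      exact hc ⟨h, (redLT_iff_not _ _).2 hh⟩
    · obtain rfl := hIz h.symm
      simpa [RedLE, alpha] using polyLE_refl (0 : ℚ[X])
  obtain ⟨N₁, h₁⟩ := hJF
  obtain ⟨N₂, h₂⟩ := hFG
  obtain ⟨N₃, h₃⟩ := hle
  have hα : alpha d I + alpha d J = alpha d F + alpha d G := by rw [← alpha_add, ← alpha_add, hsum]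
  let m := max N₁ (max N₂ N₃)
  have e := congrArg (Polynomial.eval (m : ℚ)) hsum
  have e₁ := h₁ m (by omega)
  have e₂ := h₂ m (by omega)
  have e₃ := h₃ m (by omega)
  simp only [Polynomial.eval_smul, eval_add, smul_eq_mul] at e e₁ e₂ e₃
  have k₁ := mul_lt_mul_of_pos_left e₁ hG
  have k₂ := mul_le_mul_of_nonneg_left e₃ hF.le
  have k₃ := mul_le_mul_of_nonneg_left e₂ (sub_nonneg.2 hIG)
  rw [show alpha d J = alpha d F + alpha d G - alpha d I by linarith] at k₁
  have k₄ := congrArg (fun x => alpha d F * alpha d G * x) e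
  linarith

variable [BoundedOrder L] [WellFoundedGT L]

open Classical in
/-- **The maximal destabiliser.** -/
theorem exists_maxDestab {a : L} (ha : a < ⊤) (hp : S.Pure a ⊤) :
    ∃ f, a < f ∧ (∀ g, a < g → RedLE d (S.q a g) (S.q a f)) ∧
      (∀ g, a < g → RedLE d (S.q a f) (S.q a g) → g ≤ f) ∧ S.Pure f ⊤ := by
  have pos : ∀ g, a < g → 0 < alpha d (S.q a g) := fun g hg => hp g hg le_top
  let Max : L → Prop := fun g => a < g ∧ ∀ h, g < h → RedLT d (S.q a h) (S.q a g)
  have above : ∀ g, a < g → ∃ g', g ≤ g' ∧ RedLE d (S.q a g) (S.q a g') ∧ Max g' := by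
    intro g hg
    obtain ⟨m, ⟨hgm, hm⟩, hmax⟩ := (wellFounded_gt (α := L)).has_min
      {g' | g ≤ g' ∧ RedLE d (S.q a g) (S.q a g')} ⟨g, le_rfl, redLE_refl _ _⟩
    refine ⟨m, hgm, hm, hg.trans_le hgm, fun h hh => ?_⟩
    rw [redLT_iff_not]
    intro hc
    exact hmax h ⟨hgm.trans hh.le, redLE_trans (pos g hg) (pos m (hg.trans_le hgm))
      (pos h (hg.trans_le (hgm.trans hh.le))) hm hc⟩ hh
  have hex : ∃ m : ℕ, ∃ g, Max g ∧ alpha d (S.q a g) = m := by
    obtain ⟨g, -, -, hg⟩ := above ⊤ ha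
    obtain ⟨m, hm⟩ := S.exists_nat_alpha hg.1.le
    exact ⟨m, g, hg, hm⟩
  obtain ⟨f, hf, hfm⟩ := Nat.find_spec hex
  have hmin : ∀ g, Max g → alpha d (S.q a f) ≤ alpha d (S.q a g) := fun g hg => by
    obtain ⟨m, hm⟩ := S.exists_nat_alpha hg.1.le
    rw [hfm, hm]
    exact_mod_cast Nat.find_min' hex ⟨g, hg, hm⟩
  have crossing : ∀ g, a < g → ¬ g ≤ f → RedLE d (S.q a f) (S.q a g) →
      a < f ⊓ g ∧ RedLT d (S.q a g) (S.q a (f ⊓ g)) := by
    intro g hg hgf hfg
    have hj : f < f ⊔ g := left_lt_sup.2 hgf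
    have hi : a ≤ f ⊓ g := le_inf hf.1.le hg.le
    have hsum : S.q a (f ⊓ g) + S.q a (f ⊔ g) = S.q a f + S.q a g := by
      simp only [q]
      linear_combination S.modular f g
    have h := cross (d := d) hsum (pos f hf.1) (pos g hg) (pos _ (hf.1.trans hj)) (S.alpha_nonneg hi)
      (fun h0 => by
        rcases hi.lt_or_eq with hlt | heq
        · exact absurd h0 (pos _ hlt).ne'
        · rw [← heq, q_self])
      (by
        rw [← S.q_add a (f ⊓ g) g, alpha_add]
        linarith [S.alpha_nonneg (inf_le_right : f ⊓ g ≤ g)])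
      (hf.2 _ hj) hfg
    refine ⟨lt_of_le_of_ne hi fun e => ?_, h.2⟩
    have := h.1
    rw [← e, q_self] at this
    simp [alpha] at this
  have claimA : ∀ g, a < g → g ≤ f → RedLE d (S.q a g) (S.q a f) := by
    by_contra hc
    push Not at hc
    obtain ⟨g₁, hg₁, hgf₁, hlt₁⟩ := hc
    obtain ⟨g, ⟨hg, hgf, hlt⟩, hmax⟩ := (wellFounded_gt (α := L)).has_min
      {g | a < g ∧ g ≤ f ∧ RedLT d (S.q a f) (S.q a g)}
      ⟨g₁, hg₁, hgf₁, (redLT_iff_not _ _).2 hlt₁⟩
    rw [redLT_iff_not] at hlt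
    obtain ⟨g', hgg', hred, hg'⟩ := above g hg
    have hfg' : ¬ RedLE d (S.q a g') (S.q a f) := fun h =>
      hlt (redLE_trans (pos g hg) (pos g' hg'.1) (pos f hf.1) hred h)
    have hfg : RedLE d (S.q a f) (S.q a g') := (redLE_total _ _ _).resolve_right hfg'
    by_cases hle : g' ≤ f
    · refine hfg' (S.redLE_of_alpha_eq hg'.1 hle (pos g' hg'.1) ?_)
      have := hmin g' hg'
      rw [← S.q_add a g' f, alpha_add] at this
      linarith [S.alpha_nonneg hle]
    · obtain ⟨hi, hilt⟩ := crossing g' hg'.1 hle hfg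
      rw [redLT_iff_not] at hilt
      have hiS : f ⊓ g' ∈ {g | a < g ∧ g ≤ f ∧ RedLT d (S.q a f) (S.q a g)} :=
        ⟨hi, inf_le_left, (redLT_iff_not _ _).2 fun h =>
          hilt (redLE_trans (pos _ hi) (pos f hf.1) (pos g' hg'.1) h hfg)⟩
      rcases (le_inf hgf hgg' : g ≤ f ⊓ g').lt_or_eq with h | h
      · exact hmax _ hiS h
      · exact hilt (h ▸ hred)
  have claimB : ∀ g, a < g → RedLE d (S.q a f) (S.q a g) → g ≤ f := by
    intro g hg hfg
    obtain ⟨g', hgg', hred, hg'⟩ := above g hg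
    refine hgg'.trans (by_contra fun hle => ?_)
    have hfg' := redLE_trans (pos f hf.1) (pos g hg) (pos g' hg'.1) hfg hred
    obtain ⟨hi, hilt⟩ := crossing g' hg'.1 hle hfg'
    rw [redLT_iff_not] at hilt
    exact hilt (redLE_trans (pos _ hi) (pos f hf.1) (pos g' hg'.1) (claimA _ hi inf_le_left) hfg')
  refine ⟨f, hf.1, fun g hg => ?_, claimB, fun c hc _ => ?_⟩
  · rcases redLE_total d (S.q a g) (S.q a f) with h | h
    · exact h
    · exact claimA g hg (claimB g hg h)
  · refine lt_of_le_of_ne (S.alpha_nonneg hc.le) fun h0 => hc.not_ge (claimB c (hf.1.trans hc) ?_)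
    exact S.redLE_of_alpha_eq hf.1 hc.le (pos f hf.1) h0.symm

/-- A Harder-Narasimhan chain. -/
def IsHN (n : ℕ) (s : ℕ → L) : Prop :=
  s n = ⊤ ∧ (∀ i, i < n → S.SS (s i) (s (i + 1))) ∧
    ∀ i, i + 1 < n → RedLT d (S.q (s (i + 1)) (s (i + 2))) (S.q (s i) (s (i + 1)))

theorem IsHN.tail {n : ℕ} {s : ℕ → L} (h : S.IsHN (n + 1) s) : S.IsHN n fun i => s (i + 1) :=
  ⟨h.1, fun i hi => h.2.1 (i + 1) (by omega), fun i hi => h.2.2 (i + 1) (by omega)⟩

/-- The first step of a chain is the maximal destabiliser. -/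
theorem first_dominates : ∀ (n : ℕ) (s : ℕ → L), S.IsHN (n + 1) s → ∀ g, s 0 < g →
    0 < alpha d (S.q (s 0) g) ∧ RedLE d (S.q (s 0) g) (S.q (s 0) (s 1)) ∧
      (RedLE d (S.q (s 0) (s 1)) (S.q (s 0) g) → g ≤ s 1) := by
  intro n
  induction n with
  | zero =>
    intro s hs g hg
    have h1 : g ≤ s 1 := hs.1 ▸ le_top
    obtain ⟨-, hp, hss⟩ := hs.2.1 0 one_pos
    exact ⟨hp g hg h1, hss g hg h1, fun _ => h1⟩
  | succ n ih =>
    intro s hs g hg
    obtain ⟨hlt, hp, hss⟩ := hs.2.1 0 (Nat.succ_pos _)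
    by_cases hgs : g ≤ s 1
    · exact ⟨hp g hg hgs, hss g hg hgs, fun _ => hgs⟩
    obtain ⟨hJ, hJc, -⟩ := ih (fun i => s (i + 1)) hs.tail (s 1 ⊔ g) (left_lt_sup.2 hgs)
    have hdec := hs.2.2 0 (by omega)
    have hposc : 0 < alpha d (S.q (s 1) (s 2)) :=
      (hs.2.1 1 (by omega)).2.1 _ (hs.2.1 1 (by omega)).1 le_rfl
    have hposb : 0 < alpha d (S.q (s 0) (s 1)) := hp _ hlt le_rfl
    have hJb : RedLT d (S.q (s 1) (s 1 ⊔ g)) (S.q (s 0) (s 1)) := by
      rw [redLT_iff_not] at hdec ⊢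
      exact fun h => hdec (redLE_trans hposb hJ hposc h hJc)
    have hsum : S.q (s 0) g = S.q (s 0) (s 1 ⊓ g) + S.q (s 1) (s 1 ⊔ g) := by
      rw [S.q_modular, q_add]
    have hi : s 0 ≤ s 1 ⊓ g := le_inf hlt.le hg.le
    have hα : 0 < alpha d (S.q (s 0) g) := by
      rw [hsum, alpha_add]
      linarith [S.alpha_nonneg hi]
    have hgb : RedLT d (S.q (s 0) g) (S.q (s 0) (s 1)) := by
      rw [hsum]
      obtain ⟨N₁, h₁⟩ := hJb
      rcases hi.lt_or_eq with hlt' | heq
      · obtain ⟨N₂, h₂⟩ := hss _ hlt' inf_le_left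
        refine ⟨max N₁ N₂, fun m hm => ?_⟩
        have e₁ := h₁ m (by omega)
        have e₂ := h₂ m (by omega)
        simp only [Polynomial.eval_smul, eval_add, smul_eq_mul, alpha_add] at e₁ e₂ ⊢
        nlinarith
      · rw [← heq, q_self, zero_add]
        exact ⟨N₁, h₁⟩
    rw [redLT_iff_not] at hgb
    exact ⟨hα, (redLE_total _ _ _).resolve_right hgb, fun h => absurd h hgb⟩

theorem IsHN.bot_lt {n : ℕ} {s : ℕ → L} (h : S.IsHN (n + 1) s) : s 0 < ⊤ :=
  (h.2.1 0 (Nat.succ_pos n)).1.trans_le le_top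

/-- **Uniqueness** of the chain. -/
theorem isHN_unique : ∀ (n m : ℕ) (s t : ℕ → L), S.IsHN n s → S.IsHN m t → s 0 = t 0 →
    n = m ∧ ∀ i ≤ n, s i = t i := by
  intro n
  induction n with
  | zero =>
    intro m s t hs ht h0
    cases m with
    | zero => exact ⟨rfl, fun i hi => (Nat.le_zero.1 hi).symm ▸ h0⟩
    | succ m => exact absurd (h0 ▸ hs.1) (ht.bot_lt).ne
  | succ n ih =>
    intro m s t hs ht h0
    cases m with
    | zero => exact absurd (h0.symm ▸ ht.1) (hs.bot_lt).ne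
    | succ m =>
      have h1 : s 1 = t 1 := by
        obtain ⟨-, a1, a2⟩ := S.first_dominates n s hs (t 1) (h0 ▸ (ht.2.1 0 (Nat.succ_pos m)).1)
        obtain ⟨-, b1, b2⟩ := S.first_dominates m t ht (s 1) (h0 ▸ (hs.2.1 0 (Nat.succ_pos n)).1)
        rw [← h0] at b1 b2
        exact le_antisymm (b2 a1) (a2 b1)
      obtain ⟨rfl, he⟩ := ih m (fun i => s (i + 1)) (fun i => t (i + 1)) hs.tail ht.tail h1
      refine ⟨rfl, fun i hi => ?_⟩
      cases i with
      | zero => exact h0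
      | succ i => exact he i (by omega)

/-- **Existence** of the chain. -/
theorem exists_isHN (a : L) (hp : S.Pure a ⊤) : ∃ (n : ℕ) (s : ℕ → L), s 0 = a ∧ S.IsHN n s := by
  induction a using WellFoundedGT.induction with
  | ind a ih =>
    rcases (le_top : a ≤ ⊤).lt_or_eq with ha | rfl
    · obtain ⟨f, haf, hdom, hsat, hpf⟩ := S.exists_maxDestab ha hp
      obtain ⟨n, s, hs0, hs⟩ := ih f haf hpf
      refine ⟨n + 1, fun i => match i with | 0 => a | j + 1 => s j, rfl, hs.1, fun i hi => ?_,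
        fun i hi => ?_⟩
      · cases i with
        | zero =>
          show S.SS a (s 0)
          rw [hs0]
          exact ⟨haf, hp.mono S le_top, fun c hc _ => hdom c hc⟩
        | succ i => exact hs.2.1 i (by omega)
      · cases i with
        | zero =>
          show RedLT d (S.q (s 0) (s 1)) (S.q a (s 0))
          rw [hs0, redLT_iff_not]
          intro hge
          have h1 : f < s 1 := hs0 ▸ (hs.2.1 0 (by omega)).1
          refine h1.not_ge (hsat _ (haf.trans h1) ?_)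
          rw [← S.q_add a f (s 1)]
          exact seesaw_le.2 hge
        | succ i => exact hs.2.2 i (by omega)
    · exact ⟨0, fun _ => ⊤, rfl, rfl, fun i hi => by omega, fun i hi => by omega⟩

end Sys0

end Groth.Agent.Lib.ShStab
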