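import Groth.Agent.Lib.ShStab.EllInterval

/-!
# Harder-Narasimhan filtrations for `ℓ`-semistability and for slope semistability
-/

set_option autoImplicit false
universe u

open CategoryTheory CategoryTheory.Limits AlgebraicGeometry Polynomial StabCat

noncomputable section

namespace Groth.Agent.Lib.ShStab.EllHN

open Groth.Agent.Lib SubLattice Interval HN

variable {k : Type u} [Field k] {X : Scheme.{u}} [X.Over (Spec (CommRingCat.of k))]
  [IsProper (X ↘ Spec (CommRingCat.of k))] [AlgebraicGeometry.IsNoetherian X] {L : X.Modules}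
  (hL : CohB1.IsAmple L) {d ℓ : ℕ}

variable (k L d ℓ) in
/-- An `ℓ`-Harder-Narasimhan filtration, in the form used by the statements. -/
abbrev IsEllHN {E : X.Modules} (s : LTSeries (Subobject E)) : Prop :=
  StabCat.IsHNWith (fun G => ShStab.IsEllSemistable k X L G d ℓ)
    (fun G P => ∃ Q : Polynomial ℚ, ShStab.IsHilbPoly k X L G Q ∧ P = topPart ℓ d Q) d E s

variable {E : X.Modules} {hE : Coh.IsCoh E} (hpure : ShStab.IsPure X E d)

variable (k ℓ) in
/-- The truncated valuation attached to a pure module. -/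
abbrev psys : Sys0 (CSub hE) d := EllInterval.sys ℓ k hL (hdeg_of_pure (hE := hE) hL hpure)

theorem q_factor (s : LTSeries (Subobject E)) (hc : ∀ i, Coh.IsCoh ((s i : Subobject E) : X.Modules))
    (i : Fin s.length) :
    (psys k hL ℓ (hE := hE) hpure).q (seqOf s hc i.val) (seqOf s hc (i.val + 1)) =
      topPart ℓ d (hp k L (factor s i)) := by
  rw [HN.hp_factor (hE := hE) hL hpure s hc, EllInterval.q_eq]

theorem ss_congr {A B : CSub hE} {A' B' : Subobject E} (eA : A.1 = A') (eB : B.1 = B')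
    (h : A' ≤ B') :
    ShStab.IsEllSemistable k X L (cokernel (Subobject.ofLE A' B' h)) d ℓ ↔
      (psys k hL ℓ (hE := hE) hpure).SS A B := by
  subst eA eB
  exact EllInterval.ss_iff hL _ h

theorem isHN_iff (s : LTSeries (Subobject E)) (hhead : s.head = ⊥) (hlast : s.last = ⊤)
    (hc : ∀ i, Coh.IsCoh ((s i : Subobject E) : X.Modules)) :
    IsEllHN k L d ℓ s ↔ (psys k hL ℓ (hE := hE) hpure).IsHN s.length (seqOf s hc) := by
  have hH : ∀ i : Fin s.length, ∃ Q : Polynomial ℚ, ShStab.IsHilbPoly k X L (factor s i) Q ∧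
      topPart ℓ d (hp k L (factor s i)) = topPart ℓ d Q :=
    fun i => ⟨_, isHilbPoly_hp k hL (CohBasics.Closure.isCoh_cokernel _ (hc _).1 (hc _)), rfl⟩
  constructor
  · intro ⟨_, _, hss, hdec⟩
    refine ⟨Subtype.ext ?_, fun i hi => ?_, fun i hi => ?_⟩
    · show s _ = ⊤
      rw [← hlast]
      show s _ = s _
      congr 1
      ext
      simp
    · exact (ss_congr hL hpure (seqOf_castSucc s hc ⟨i, hi⟩) (seqOf_succ s hc ⟨i, hi⟩) _).1 (hss ⟨i, hi⟩)
    · have := hdec ⟨i, by omega⟩ ⟨i + 1, hi⟩ rfl _ _ (hH _) (hH _)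
      rwa [← q_factor (ℓ := ℓ) hL hpure s hc, ← q_factor (ℓ := ℓ) hL hpure s hc] at this
  · intro h
    refine ⟨hhead, hlast, fun i => ?_, fun i j hij p q hpp hpq => ?_⟩
    · exact (ss_congr hL hpure (seqOf_castSucc s hc i) (seqOf_succ s hc i) _).2 (h.2.1 i.val i.isLt)
    · obtain ⟨P, hP, rfl⟩ := hpp
      obtain ⟨Q, hQ, rfl⟩ := hpq
      rw [← hp_eq k L hP, ← hp_eq k L hQ, ← q_factor (ℓ := ℓ) hL hpure s hc,
        ← q_factor (ℓ := ℓ) hL hpure s hc, ← hij]
      exact h.2.2 i.val (by omega)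

theorem coh_of_isHN {s : LTSeries (Subobject E)} (hE' : Coh.IsCoh E) (h : IsEllHN k L d ℓ s)
    (i : Fin (s.length + 1)) : Coh.IsCoh ((s i : Subobject E) : X.Modules) :=
  coh_of_factors hE' s h.2.1 (fun i => (h.2.2.1 i).1) i

include hL hpure in
/-- **Existence and uniqueness** of the `ℓ`-Harder-Narasimhan filtration of a pure module. -/
theorem existsUnique (hE' : Coh.IsCoh E) :
    ∃! s : LTSeries (Subobject E), IsEllHN k L d ℓ s := by
  let S := psys k hL ℓ (hE := hE') hpure
  obtain ⟨n, t, ht0, ht⟩ := S.exists_isHN ⊥ (EllInterval.pure_top hL hpure)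
  let s := seriesOf n t fun i hi => (ht.2.1 i hi).1
  have hhead : s.head = ⊥ := congrArg Subtype.val ht0
  have hlast : s.last = ⊤ := congrArg Subtype.val ht.1
  have hc : ∀ i, Coh.IsCoh ((s i : Subobject E) : X.Modules) := fun i => (t i.val).2
  have hseq : ∀ i, i ≤ n → seqOf (hE := hE') s hc i = t i := fun i hi =>
    Subtype.ext (congrArg (fun j => (t j).1) (min_eq_left hi))
  have hs : IsEllHN k L d ℓ s := (isHN_iff (hE := hE') hL hpure s hhead hlast hc).2
    ⟨(hseq n le_rfl).trans ht.1,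
      fun i (hi : i < n) => by rw [hseq i hi.le, hseq (i + 1) hi]; exact ht.2.1 i hi,
      fun i (hi : i + 1 < n) => by
        rw [hseq i (by omega), hseq (i + 1) hi.le, hseq (i + 2) hi]
        exact ht.2.2 i hi⟩
  refine ⟨s, hs, fun s' hs' => ?_⟩
  have hc' := coh_of_isHN (k := k) hE' hs'
  have ht' := (isHN_iff (hE := hE') hL hpure s' hs'.1 hs'.2.1 hc').1 hs'
  obtain ⟨hlen, heq⟩ := S.isHN_unique _ _ _ _ ht' ht (by
    rw [ht0]
    exact Subtype.ext hs'.1)
  refine series_ext hlen fun i h1 h2 => ?_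
  have := congrArg Subtype.val (heq i (by omega))
  refine Eq.trans ?_ this
  show s' _ = s' _
  congr 1
  ext
  simp [Nat.le_of_lt_succ h1]

include hL in
/-- For pure modules slope semistability is `1`-semistability. -/
theorem mu_iff {G : X.Modules} (hd : 1 ≤ d) :
    ShStab.IsPure X G d ∧ ShStab.IsMuSemistable k X L G d ↔ ShStab.IsEllSemistable k X L G d 1 := by
  constructor
  · intro ⟨hp, hc, h0, _, _, hμ⟩
    refine ⟨hc, h0, hp, fun F ι hι hF pF pE hpF hpE h1 h2 => ?_⟩
    exact (EllInterval.redLE_one_iff hd h1 (h1.trans h2)).2 (hμ F ι hι hF pF pE hpF hpE h1 h2)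
  · intro ⟨hc, h0, hp, hμ⟩
    refine ⟨hp, hc, h0, hp G (𝟙 G) inferInstance hc h0, fun F ι hι hF h => ?_,
      fun F ι hι hF pF pE hpF hpE h1 h2 =>
        (EllInterval.redLE_one_iff hd h1 (h1.trans h2)).1 (hμ F ι hι hF pF pE hpF hpE h1 h2)⟩
    by_cases hF0 : IsZero F
    · have he : CohB1.support F = ∅ := Modules.Support.support_eq_empty_iff.2 hF0
      haveI : IsEmpty (CohB1.support F) := Set.isEmpty_coe_sort.2 he
      haveI : IsEmpty (TopologicalSpace.IrreducibleCloseds (CohB1.support F)) :=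
        ⟨fun Z => IsEmpty.false Z.isIrreducible'.nonempty.some⟩
      rw [show topologicalKrullDim (CohB1.support F) = ⊥ from Order.krullDim_eq_bot] at h
      simp at h
    · rw [hp F ι hι hF hF0] at h
      exact absurd h (by norm_cast; omega)

end Groth.Agent.Lib.ShStab.EllHN
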