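import Groth.Agent.Lib.ShStab.Interval
import Groth.Agent.Lib.ShStab.Basics
import Groth.Agent.Lib.ShStab.HN

/-!
# Truncated Hilbert polynomials: the valuation for `ℓ`-semistability and slope semistability
-/

set_option autoImplicit false
universe u

open CategoryTheory CategoryTheory.Limits AlgebraicGeometry Polynomial StabCat

noncomputable section

namespace Groth.Agent.Lib.ShStab.EllInterval

open Groth.Agent.Lib SubLattice Interval PolyOrder

variable {d ℓ : ℕ} {P Q : ℚ[X]}

theorem topPart_add (P Q : ℚ[X]) : topPart ℓ d (P + Q) = topPart ℓ d P + topPart ℓ d Q := by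
  ext i
  simp only [Basics.topPart_coeff, coeff_add]
  split <;> simp

theorem topPart_sub (P Q : ℚ[X]) : topPart ℓ d (P - Q) = topPart ℓ d P - topPart ℓ d Q := by
  ext i
  simp only [Basics.topPart_coeff, coeff_sub]
  split <;> simp

theorem natDegree_topPart_le (P : ℚ[X]) : (topPart ℓ d P).natDegree ≤ d := by
  refine natDegree_le_iff_coeff_eq_zero.2 fun i hi => ?_
  rw [Basics.topPart_coeff, if_neg (by simp; omega)]

theorem lc_topPart_nonneg (h : P.natDegree ≤ d) (h' : 0 ≤ P.leadingCoeff) :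
    0 ≤ (topPart ℓ d P).leadingCoeff := by
  rcases eq_or_ne (topPart ℓ d P) 0 with h0 | h0
  · simp [h0]
  have h1 := leadingCoeff_ne_zero.2 h0
  rw [leadingCoeff] at h1 ⊢
  rw [Basics.topPart_coeff] at h1 ⊢
  split at h1
  · rename_i hmem
    rw [if_pos hmem]
    have h2 : (topPart ℓ d P).natDegree ≤ P.natDegree := le_natDegree_of_ne_zero h1
    have h3 : P.natDegree ≤ (topPart ℓ d P).natDegree := by
      refine le_natDegree_of_ne_zero ?_
      rw [Basics.topPart_coeff, if_pos (by simp only [Finset.mem_Icc] at hmem ⊢; omega)]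
      exact leadingCoeff_ne_zero.2 fun e => h1 (by rw [e]; simp)
    rw [le_antisymm h2 h3]
    exact h'
  · exact absurd rfl h1

/-- The comparison of truncations to the two top degrees is the comparison of slopes. -/
theorem redLE_one_iff (hd : 1 ≤ d) (hP : 0 < alpha d P) (hQ : 0 < alpha d Q) :
    RedLE d (topPart 1 d P) (topPart 1 d Q) ↔ hatSlope d P ≤ hatSlope d Q := by
  unfold StabCat.RedLE
  rw [polyLE_iff, Basics.alpha_topPart, Basics.alpha_topPart]
  set R := alpha d P • topPart 1 d Q - alpha d Q • topPart 1 d P with hR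
  have hc : ∀ i, R.coeff i =
      if i = d - 1 then alpha d P * Q.coeff i - alpha d Q * P.coeff i else 0 := fun i => by
    simp only [hR, coeff_sub, coeff_smul, smul_eq_mul, Basics.topPart_coeff, Finset.mem_Icc]
    by_cases h1 : i = d - 1
    · rw [if_pos ⟨by omega, by omega⟩, if_pos h1, if_pos ⟨by omega, by omega⟩]
    · rw [if_neg h1]
      by_cases h2 : i = d
      · subst h2
        rw [if_pos ⟨by omega, le_rfl⟩, if_pos ⟨by omega, le_rfl⟩, alpha, alpha]
        ring
      · rw [if_neg (by omega), if_neg (by omega)]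
        ring
  have hR' : R = Polynomial.C (alpha d P * Q.coeff (d - 1) - alpha d Q * P.coeff (d - 1)) *
      Polynomial.X ^ (d - 1) := by
    ext i
    rw [hc, coeff_C_mul_X_pow]
    by_cases h1 : i = d - 1
    · subst h1; rfl
    · simp [h1]
  rw [hR', leadingCoeff_C_mul_X_pow, hatSlope, hatSlope, div_le_div_iff₀ hP hQ]
  show _ ↔ ((d - 1).factorial : ℚ) * P.coeff (d - 1) * alpha d Q ≤
    ((d - 1).factorial : ℚ) * Q.coeff (d - 1) * alpha d P
  have hf : (0 : ℚ) < ((d - 1).factorial : ℚ) := by exact_mod_cast Nat.factorial_pos _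
  constructor <;> intro h <;> nlinarith

theorem redLT_one_iff (hd : 1 ≤ d) (hP : 0 < alpha d P) (hQ : 0 < alpha d Q) :
    RedLT d (topPart 1 d P) (topPart 1 d Q) ↔ hatSlope d P < hatSlope d Q := by
  rw [redLT_iff_not, redLE_one_iff hd hQ hP, not_le]

theorem redEq_one_iff (hd : 1 ≤ d) (hP : 0 < alpha d P) (hQ : 0 < alpha d Q) :
    RedEq d (topPart 1 d P) (topPart 1 d Q) ↔ hatSlope d P = hatSlope d Q := by
  rw [redEq_iff, redLE_one_iff hd hP hQ, redLE_one_iff hd hQ hP, le_antisymm_iff]

variable {k : Type u} [Field k] {X : Scheme.{u}} [X.Over (Spec (CommRingCat.of k))]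
  [IsProper (X ↘ Spec (CommRingCat.of k))] [AlgebraicGeometry.IsNoetherian X] {L : X.Modules}
  (hL : CohB1.IsAmple L)

include hL

variable {E : X.Modules} {hE : Coh.IsCoh E}
  (hdeg : ∀ A : CSub hE, (hp k L (A.1 : X.Modules)).natDegree ≤ d)

variable (k ℓ) in
/-- The truncated valuation of the coherent submodules. -/
def sys : Sys0 (CSub hE) d where
  v A := topPart ℓ d (hp k L (A.1 : X.Modules))
  modular A B := by rw [← topPart_add, ← topPart_add, hp_modular k hL A B]
  lc_nonneg A B h := by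
    rw [← topPart_sub]
    exact lc_topPart_nonneg ((natDegree_sub_le _ _).trans (max_le (hdeg B) (hdeg A)))
      ((Interval.sys k hL d hdeg).lc_nonneg A B h)
  deg_le _ := natDegree_topPart_le _
  intAlpha A := by
    rw [Basics.alpha_topPart]
    exact exists_int_alpha (hdeg A) (int_val hL A.2)

theorem q_eq (A B : CSub hE) :
    (sys ℓ k hL hdeg).q A B = topPart ℓ d ((Interval.sys k hL d hdeg).q A B) := by
  show topPart ℓ d _ - topPart ℓ d _ = _
  rw [← topPart_sub]
  rfl

theorem alpha_q (A B : CSub hE) :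
    alpha d ((sys ℓ k hL hdeg).q A B) = alpha d ((Interval.sys k hL d hdeg).q A B) := by
  rw [q_eq, Basics.alpha_topPart]

theorem q_fac {A B : CSub hE} (h : A ≤ B) :
    (sys ℓ k hL hdeg).q A B = topPart ℓ d (hp k L (fac A B h)) := by
  rw [q_eq, hp_fac hL A B h]
  rfl

theorem pure_iff {A B : CSub hE} (h : A ≤ B) :
    ShStab.IsPure X (fac A B h) d ↔ (sys ℓ k hL hdeg).Pure A B := by
  rw [Interval.pure_iff hL hdeg h]
  simp only [Sys0.Pure, alpha_q]

/-- `ℓ`-semistability of a subquotient. -/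
theorem ss_iff {A B : CSub hE} (h : A ≤ B) :
    ShStab.IsEllSemistable k X L (fac A B h) d ℓ ↔ (sys ℓ k hL hdeg).SS A B := by
  set S := sys ℓ k hL hdeg with hS
  have hB := isHilbPoly_hp k hL (isCoh_fac A B h) (L := L)
  constructor
  · intro ⟨_, hne, hpure, hss⟩
    have hlt : A < B := lt_of_le_of_ne h fun e => by
      subst e
      exact hne ((isZero_iff (k := k) hL (isCoh_fac A A h)).2 (by rw [hp_fac hL A A h, sub_self]))
    have hP := (pure_iff (ℓ := ℓ) hL hdeg h).1 hpure
    refine ⟨hlt, hP, fun C hAC hCB => ?_⟩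
    obtain ⟨β, hβ⟩ := exists_mono_fac hAC.le hCB
    rcases (S.alpha_nonneg hCB).lt_or_eq with hpos | h0
    · have := hss _ β hβ (isCoh_fac A C hAC.le) _ _
        (isHilbPoly_hp k hL (isCoh_fac A C hAC.le)) hB
        (by rw [← Basics.alpha_topPart ℓ d, ← q_fac hL hdeg]; exact hP C hAC hCB)
        (by
          rw [← Basics.alpha_topPart ℓ d, ← Basics.alpha_topPart ℓ d (hp k L (fac A B h)),
            ← q_fac hL hdeg, ← q_fac hL hdeg, ← S.q_add A C B, alpha_add]
          linarith)
      rwa [← q_fac hL hdeg, ← q_fac hL hdeg] at this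
    · exact S.redLE_of_alpha_eq hAC hCB (hP C hAC hCB) h0.symm
  · intro ⟨hlt, hpure, hss⟩
    refine ⟨isCoh_fac A B h, not_isZero_fac hlt, (pure_iff (ℓ := ℓ) hL hdeg h).2 hpure, ?_⟩
    intro G κ hκ hG pG pQ hpG hpQ hpos _
    obtain ⟨C, hAC, hCB, hC⟩ := exists_preimage (k := k) hL h κ hG
    rw [← hp_eq k L hpG] at hpos ⊢
    rw [← hp_eq k L hpQ, ← q_fac hL hdeg]
    have hGq : topPart ℓ d (hp k L G) = S.q A C := by
      rw [hS, q_eq]
      simp only [Sys0.q, Interval.sys, hC, add_sub_cancel_left]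
    have hne : A ≠ C := fun e => by
      rw [← Basics.alpha_topPart ℓ d, hGq, e, Sys0.q_self] at hpos
      simp [alpha] at hpos
    rw [hGq]
    exact hss C (lt_of_le_of_ne hAC hne) hCB

theorem pure_top (hp' : ShStab.IsPure X E d) :
    (sys ℓ k hL (hdeg_of_pure (hE := hE) hL hp')).Pure ⊥ ⊤ := fun C hC hC' => by
  rw [alpha_q]
  exact Interval.pure_top hL hp' C hC hC'

end Groth.Agent.Lib.ShStab.EllInterval
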