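import Groth.Agent.Lib.ShStab.JordanHolder
import Groth.Agent.Lib.ShStab.Abelian

/-!
# Stable factors of sub- and quotient objects occur among the Jordan-Hölder factors
-/

set_option autoImplicit false
universe u

open CategoryTheory CategoryTheory.Limits AlgebraicGeometry Polynomial StabCat

noncomputable section

namespace Groth.Agent.Lib.ShStab.FactorMatch

open Groth.Agent.Lib SubLattice PolyOrder

section Poly

variable {d : ℕ} {A B P : ℚ[X]}

theorem redEq_zero (P : ℚ[X]) : RedEq d 0 P := by simp [RedEq, alpha]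

theorem redEq_add (hA : RedEq d A P) (hB : RedEq d B P) : RedEq d (A + B) P := by
  unfold RedEq at *
  rw [smul_add, alpha_add, add_smul, hA, hB]

theorem redEq_sub (hA : RedEq d A P) (hB : RedEq d B P) : RedEq d (A - B) P := by
  unfold RedEq at *
  rw [smul_sub, alpha_sub, sub_smul, hA, hB]

theorem redEq_refl (P : ℚ[X]) : RedEq d P P := rfl

theorem redEq_pair (hP : alpha d P ≠ 0) (hA : RedEq d A P) (hB : RedEq d B P) : RedEq d A B := by
  unfold RedEq at *
  refine smul_right_injective (Polynomial ℚ) hP ?_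
  dsimp only
  rw [smul_comm, hA, smul_comm (alpha d P) (alpha d A), hB, smul_comm]

theorem redEq_of_pair (hA : alpha d A ≠ 0) (h : RedEq d B A) (h' : RedEq d A P) : RedEq d B P := by
  unfold RedEq at *
  refine smul_right_injective (Polynomial ℚ) hA ?_
  dsimp only
  rw [smul_comm, h, smul_comm, h', smul_comm]

end Poly

variable {k : Type u} [Field k] {X : Scheme.{u}} [X.Over (Spec (CommRingCat.of k))]
  [IsProper (X ↘ Spec (CommRingCat.of k))] [AlgebraicGeometry.IsNoetherian X] {L : X.Modules}
  (hL : CohB1.IsAmple L) {d : ℕ}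

include hL

/-- A submodule with the reduced polynomial of a semistable module is semistable. -/
theorem ss_of_mono {E B : X.Modules} (hE : ShStab.IsSemistable k X L E d) (j : B ⟶ E) [Mono j]
    (hB : Coh.IsCoh B) (hne : ¬ IsZero B) (hr : RedEq d (hp k L B) (hp k L E)) :
    ShStab.IsSemistable k X L B d := by
  refine ⟨hB, hne, fun G κ hκ hG h0 => hE.2.2.1 G (κ ≫ j) inferInstance hG h0,
    fun G κ hκ hG h0 _ pG pB hpG hpB => ?_⟩
  haveI := hκ
  rw [← hp_eq k L hpG, ← hp_eq k L hpB]
  exact redLE_trans (Basics.alpha_pos_of_pure hL hE.2.2.1 (κ ≫ j) hG h0)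
    (Saturation.alpha_pos hL hE.1 hE.2.1 hE.2.2.1)
    (Basics.alpha_pos_of_pure hL hE.2.2.1 j hB hne)
    (Basics.redLE_sub hL hE (κ ≫ j) hG h0) (redEq_iff.1 hr).2

/-- Semistability is invariant under isomorphism. -/
theorem ss_of_iso {E B : X.Modules} (hE : ShStab.IsSemistable k X L E d) (e : B ≅ E) :
    ShStab.IsSemistable k X L B d := by
  refine ss_of_mono hL hE e.hom (CohBasics.Closure.isCoh_of_iso e.symm hE.1)
    (fun hz => hE.2.1 (hz.of_iso e.symm)) ?_
  rw [hp_iso k hL e.symm hE.1]
  exact redEq_refl _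

/-- The quotient by a submodule with the reduced polynomial of the whole. -/
theorem quot_good {E G : X.Modules} (hE : ShStab.IsSemistable k X L E d) (j : G ⟶ E) [Mono j]
    (hG : Coh.IsCoh G) (hr : RedEq d (hp k L G) (hp k L E)) :
    IsZero (cokernel j) ∨ (ShStab.IsSemistable k X L (cokernel j) d ∧
      RedEq d (hp k L (cokernel j)) (hp k L E)) := by
  refine or_iff_not_imp_left.2 fun hne => ⟨?_, ?_⟩
  · by_cases hz : IsZero G
    · obtain rfl : j = 0 := hz.eq_of_src _ _
      exact ss_of_iso hL hE cokernelZeroIsoTarget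
    · exact (AbelianSub.cokernel_isSemistable hL (ss_of_mono hL hE j hG hz hr) hE hr j hne).1
  · rw [hp_cokernel k hL j hG hE.1]
    exact redEq_sub (redEq_refl _) hr

/-- A nonzero map of a semistable module into a stable one with the same reduced polynomial. -/
theorem isIso_image_ι {M H : X.Modules} (hM : ShStab.IsSemistable k X L M d)
    (hH : ShStab.IsStable k X L H d) (hr : RedEq d (hp k L M) (hp k L H)) {φ : M ⟶ H} (hφ : φ ≠ 0) :
    IsIso (Abelian.image.ι φ) := by
  by_contra hi
  have hI := CohBasics.Closure.isCoh_image φ hM.1.1 hH.1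
  have h0 := Basics.not_isZero_image hφ
  have h1 := AbelianSub.redEq_image hL hM (Basics.isSemistable_of_isStable hL hH) hr hφ
  have h2 := hH.2.2.2 _ (Abelian.image.ι φ) inferInstance hI h0 hi _ _
    (isHilbPoly_hp k hL hI) (isHilbPoly_hp k hL hH.1)
  rw [redLT_iff_not] at h2
  exact h2 (redEq_iff.1 (redEq_of_pair (Saturation.alpha_pos hL hM.1 hM.2.1 hM.2.2.1).ne' h1 hr)).2

/-- Nonzero maps between stable modules with the same reduced polynomial are isomorphisms. -/
theorem isIso_of_stable {M H : X.Modules} (hM : ShStab.IsStable k X L M d)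
    (hH : ShStab.IsStable k X L H d) (hr : RedEq d (hp k L M) (hp k L H)) {φ : M ⟶ H} (hφ : φ ≠ 0) :
    IsIso φ := by
  have hM' := Basics.isSemistable_of_isStable hL hM
  have := isIso_image_ι hL hM' hH hr hφ
  have : Epi φ := by
    rw [← Abelian.image.fac φ]
    exact epi_comp _ _
  have : Mono φ := Preadditive.mono_of_isZero_kernel _ (by
    by_contra hz
    obtain ⟨hK, hKr⟩ := AbelianSub.kernel_isSemistable hL hM' (Basics.isSemistable_of_isStable hL hH)
      hr φ hz
    have h2 := hM.2.2.2 _ (kernel.ι φ) inferInstance hK.1 hz (Basics.not_isIso_kernel hφ) _ _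
      (isHilbPoly_hp k hL hK.1) (isHilbPoly_hp k hL hM.1)
    rw [redLT_iff_not] at h2
    exact h2 (redEq_iff.1 hKr).2)
  exact isIso_of_mono_of_epi φ

variable {E : X.Modules}

/-- The terms of a Jordan-Hölder filtration have the reduced polynomial of the whole. -/
theorem redEq_term (hE : ShStab.IsSemistable k X L E d) {s : LTSeries (Subobject E)}
    (hs : ShStab.IsJHFiltration k X L E d s) (i : Fin (s.length + 1)) :
    RedEq d (hp k L ((s i : Subobject E) : X.Modules)) (hp k L E) := by
  have hc := JordanHolder.coh_of_isJH hL hE hE.1 hs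
  induction i using Fin.induction with
  | zero =>
    rw [show s 0 = ⊥ from hs.1, Interval.hp_bot hL]
    exact redEq_zero _
  | succ i ih =>
    have hf := (hs.2.2 i).2 _ _ (isHilbPoly_hp k hL (hs.2.2 i).1.1) (isHilbPoly_hp k hL hE.1)
    rw [StabCat.factor, hp_cokernel k hL _ (hc _) (hc _)] at hf
    rw [← sub_add_cancel (hp k L ((s i.succ : Subobject E) : X.Modules))
      (hp k L ((s i.castSucc : Subobject E) : X.Modules))]
    exact redEq_add hf ih

/-- A stable quotient of a submodule with the reduced polynomial of the whole is a factor. -/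
theorem exists_iso_factor (hE : ShStab.IsSemistable k X L E d) {s : LTSeries (Subobject E)}
    (hs : ShStab.IsJHFiltration k X L E d s) {B H : X.Modules} (j : B ⟶ E) [Mono j]
    (hB : Coh.IsCoh B) (hBr : RedEq d (hp k L B) (hp k L E)) (p : B ⟶ H) [Epi p]
    (hH : ShStab.IsStable k X L H d) (hHr : RedEq d (hp k L H) (hp k L E)) :
    ∃ i : Fin s.length, Nonempty (factor s i ≅ H) := by
  have hc := JordanHolder.coh_of_isJH hL hE hE.1 hs
  have aE := (Saturation.alpha_pos (k := k) hL hE.1 hE.2.1 hE.2.2.1).ne'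
  have hBne : ¬ IsZero B := fun hz => hH.2.1 (IsZero.of_epi p hz)
  have hBss := ss_of_mono hL hE j hB hBne hBr
  let q : ∀ i : Fin (s.length + 1), E ⟶ cokernel (s i).arrow := fun i => cokernel.π (s i).arrow
  have hQ : ∀ i, Coh.IsCoh (cokernel (s i).arrow) := fun i =>
    CohBasics.Closure.isCoh_cokernel _ (hc i).1 hE.1
  have hP : ∀ i, Coh.IsCoh (kernel (j ≫ q i)) := fun i =>
    CohBasics.Closure.isCoh_kernel _ hB (hQ i).1
  have hPr : ∀ i, RedEq d (hp k L (kernel (j ≫ q i))) (hp k L E) := fun i => by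
    by_cases h0 : j ≫ q i = 0
    · haveI : IsIso (kernel.ι (j ≫ q i)) := by
        rw [h0]; infer_instance
      rw [← hp_iso k hL (asIso (kernel.ι (j ≫ q i))) (hP i)]
      exact hBr
    · rcases quot_good hL hE (s i).arrow (hc i) (redEq_term hL hE hs i) with hz | ⟨hC, hCr⟩
      · exact absurd (hz.eq_of_tgt _ _) h0
      · by_cases hK : IsZero (kernel (j ≫ q i))
        · rw [hp_isZero k hL hK]
          exact redEq_zero _
        · exact redEq_of_pair (Saturation.alpha_pos hL hB hBne hBss.2.2.1).ne'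
            (AbelianSub.kernel_isSemistable hL hBss hC (redEq_pair aE hBr hCr) (j ≫ q i) hK).2 hBr
  -- the first step at which the map to `H` is nonzero
  obtain ⟨i, h0, h1⟩ : ∃ i : Fin s.length, kernel.ι (j ≫ q i.castSucc) ≫ p = 0 ∧
      kernel.ι (j ≫ q i.succ) ≫ p ≠ 0 := by
    by_contra! hall
    have hzero : ∀ i, kernel.ι (j ≫ q i) ≫ p = 0 := by
      intro i
      induction i using Fin.induction with
      | zero =>
        have : Mono (q 0) := by
          have ha : (s 0).arrow = 0 := by
            rw [show s 0 = ⊥ from hs.1]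
            exact Subobject.bot_arrow
          haveI : IsIso (cokernel.π (s 0).arrow) := by
            rw [ha]; infer_instance
          infer_instance
        rw [(isZero_kernel_of_mono (j ≫ q 0)).eq_of_src (kernel.ι (j ≫ q 0)) 0, Limits.zero_comp]
      | succ i ih => exact hall i ih
    have hl : j ≫ q (Fin.last _) = 0 := by
      have ha : IsIso (s (Fin.last _)).arrow := by
        rw [show s (Fin.last _) = ⊤ from hs.2.1]
        infer_instance
      rw [show q (Fin.last _) = 0 from cokernel.π_of_epi _, Limits.comp_zero]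
    haveI : IsIso (kernel.ι (j ≫ q (Fin.last _))) := by
      rw [hl]; infer_instance
    have hp0 : p = 0 := by rw [← cancel_epi (kernel.ι (j ≫ q (Fin.last _))), hzero, Limits.comp_zero]
    subst hp0
    exact hH.2.1 (IsZero.of_epi_zero B H)
  let ι' := kernel.ι (j ≫ q i.succ)
  let lift : kernel (j ≫ q i.succ) ⟶ (s i.succ : X.Modules) :=
    Abelian.monoLift (s i.succ).arrow (ι' ≫ j)
      (by rw [Category.assoc]; exact kernel.condition (j ≫ q i.succ))
  have hlift : lift ≫ (s i.succ).arrow = ι' ≫ j := Abelian.monoLift_comp _ _ _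
  let le := Subobject.ofLE (s i.castSucc) (s i.succ) (le_of_lt (s.step i))
  let w : kernel (j ≫ q i.succ) ⟶ factor s i := lift ≫ cokernel.π le
  have hker : ∀ {T : X.Modules} (t : T ⟶ kernel (j ≫ q i.succ)), t ≫ w = 0 → t ≫ ι' ≫ p = 0 := by
    intro T t ht
    let m := Abelian.monoLift le (t ≫ lift) (by rw [Category.assoc]; exact ht)
    have hm : m ≫ (s i.castSucc).arrow = (t ≫ ι') ≫ j := by
      rw [← Subobject.ofLE_arrow (le_of_lt (s.step i)), ← Category.assoc, Abelian.monoLift_comp,
        Category.assoc, hlift, Category.assoc]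
    have hz : (t ≫ ι') ≫ j ≫ q i.castSucc = 0 := by
      rw [← Category.assoc, ← hm, Category.assoc, cokernel.condition, Limits.comp_zero]
    rw [← Category.assoc, ← kernel.lift_ι _ _ hz, Category.assoc, h0, Limits.comp_zero]
  have hw : w ≠ 0 := fun hw => h1 (by
    simpa using hker (𝟙 _) (by rw [hw, Limits.comp_zero]))
  obtain ⟨hFst, hFr'⟩ := hs.2.2 i
  have hFr := hFr' _ _ (isHilbPoly_hp k hL hFst.1) (isHilbPoly_hp k hL hE.1)
  have hPne : ¬ IsZero (kernel (j ≫ q i.succ)) := fun hz => h1 (hz.eq_of_src _ _)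
  have := isIso_image_ι hL (ss_of_mono hL hE (ι' ≫ j) (hP _) hPne (hPr _)) hFst
    (redEq_pair aE (hPr _) hFr) hw
  have : Epi w := by
    rw [← Abelian.image.fac w]
    exact epi_comp _ _
  let g : factor s i ⟶ H := Abelian.epiDesc w (ι' ≫ p) (hker _ (kernel.condition w))
  have hg : g ≠ 0 := fun hg => h1 (by
    show ι' ≫ p = 0
    rw [← Abelian.comp_epiDesc w (ι' ≫ p) (hker _ (kernel.condition w))]
    show w ≫ g = 0
    rw [hg, Limits.comp_zero])
  have := isIso_of_stable hL hFst hH (redEq_pair aE hFr hHr) hg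
  exact ⟨i, ⟨asIso g⟩⟩

end Groth.Agent.Lib.ShStab.FactorMatch
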