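import Groth.Agent.Lib.TensorMod.FPCrit
import Groth.Agent.Lib.CohBasics.Closure
import Groth.Agent.Lib.CohDelta.FPApprox.Colim
import Groth.Agent.Lib.CurveBundle.Coherent
import Groth.Agent.Lib.CurveBundle.Rank

/-!
# Coherent modules free at a point
-/

set_option autoImplicit false
universe u

open CategoryTheory CategoryTheory.Limits AlgebraicGeometry Opposite TopologicalSpace

namespace Groth.Agent.Lib.ShStab.FreeAt

open Groth.Agent.Lib Modules

variable {X : Scheme.{u}}

/-- The stalk is finite free. -/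
def Fr (M : X.Modules) (x : X) : Prop :=
  Module.Free (X.presheaf.stalk x) (M.presheaf.stalk x) ∧
    Module.Finite (X.presheaf.stalk x) (M.presheaf.stalk x)

/-- Locally free near the point implies free at the point. -/
theorem fr_of_nhd {M : X.Modules} {U : X.Opens} {x : X} (hx : x ∈ U)
    (h : FlatMod.IsFinLocFree (M.restrict U.ι)) : Fr M x := by
  obtain ⟨W, n, hy, ⟨i⟩⟩ := h ⟨x, hx⟩
  obtain ⟨e, he⟩ := TensorMod.Basis.exists_basis_of_iso i
  obtain ⟨e', he'⟩ := TensorMod.TensorInv.exists_basis_image W he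
  obtain ⟨j⟩ := TensorMod.Basis.exists_iso_of_basis he'
  obtain ⟨s, hs⟩ := CurveBundle.Coherent.exists_basis_sections j
  have hxV : x ∈ U.ι ''ᵁ W := ⟨⟨x, hx⟩, hy, rfl⟩
  let b := Module.Basis.mk (hs x hxV).1 (hs x hxV).2.ge
  exact ⟨Module.Free.of_basis b, Module.Finite.of_basis b⟩

/-- A coherent module free at a point is locally free near it. -/
theorem exists_nhd [IsLocallyNoetherian X] {M : X.Modules} (hM : Coh.IsCoh M) {x : X} (h : Fr M x) :
    ∃ U : X.Opens, x ∈ U ∧ FlatMod.IsFinLocFree (M.restrict U.ι) := by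
  obtain ⟨_, ⟨V, hV, rfl⟩, hxV, -⟩ :=
    X.isBasis_affineOpens.exists_subset_of_mem_open (show x ∈ (⊤ : X.Opens) from trivial) isOpen_univ
  have := hM.1
  have : IsNoetherianRing Γ(X, V) := IsLocallyNoetherian.component_noetherian ⟨V, hV⟩
  have : Module.Finite Γ(X, V) Γ(M, V) := CohBasics.Closure.finite_sections hM hV
  have := Module.finitePresentation_of_finite Γ(X, V) Γ(M, V)
  haveI := h.1
  haveI := h.2
  obtain ⟨W, n, hxW, ⟨i⟩⟩ := TensorMod.FPCrit.exists_free_nhd (M := M) hV hxV
  exact ⟨W, hxW, TensorMod.LocFree.of_iso i.symm (TensorMod.LocFree.of_rank (TensorMod.LocFree.isFinLocFree_freeMod _ n))⟩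

/-- Freeness at a point passes to retracts. -/
theorem fr_of_retract {A M : X.Modules} {x : X} (i : A ⟶ M) (r : M ⟶ A) (hir : i ≫ r = 𝟙 A)
    (h : Fr M x) : Fr A x := by
  haveI := h.1
  haveI := h.2
  have hri : (StalkModule.stalkMapₗ r x).comp (StalkModule.stalkMapₗ i x) = LinearMap.id := by
    rw [← StalkModule.stalkMapₗ_comp, hir, StalkModule.stalkMapₗ_id]
  haveI : Module.Finite (X.presheaf.stalk x) (A.presheaf.stalk x) :=
    Module.Finite.of_surjective (StalkModule.stalkMapₗ r x)
      fun v => ⟨StalkModule.stalkMapₗ i x v, LinearMap.congr_fun hri v⟩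
  haveI : Module.Projective (X.presheaf.stalk x) (A.presheaf.stalk x) :=
    Module.Projective.of_split (StalkModule.stalkMapₗ i x) (StalkModule.stalkMapₗ r x) hri
  exact ⟨Module.free_of_flat_of_isLocalRing, ‹_›⟩

theorem fr_of_iso {A M : X.Modules} {x : X} (e : A ≅ M) (h : Fr M x) : Fr A x :=
  fr_of_retract e.hom e.inv e.hom_inv_id h

/-- The summands of a free coproduct are free. -/
theorem fr_component {ι : Type} [DecidableEq ι] (F : ι → X.Modules) [HasCoproduct F] {x : X}
    (h : Fr (∐ F) x) (j : ι) : Fr (F j) x := by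
  refine fr_of_retract (Sigma.ι F j)
    (Sigma.desc fun i => if hij : i = j then eqToHom (by rw [hij]) else 0) ?_ h
  rw [Sigma.ι_desc, dif_pos rfl, eqToHom_refl]

/-- A finite coproduct of free stalks is free. -/
theorem fr_coproduct {n : ℕ} (F : Fin n → X.Modules) {x : X} (h : ∀ j, Fr (F j) x) :
    Fr (∐ F) x := by
  classical
  haveI := fun j => (h j).1
  haveI := fun j => (h j).2
  let p : ∀ j, (∐ F) ⟶ F j := fun j =>
    Sigma.desc fun i => if hij : i = j then eqToHom (by rw [hij]) else 0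
  have hsum : ∑ j, p j ≫ Sigma.ι F j = 𝟙 _ := Sigma.hom_ext _ _ fun i => by
    rw [Preadditive.comp_sum, Category.comp_id, Finset.sum_eq_single i]
    · rw [← Category.assoc, Sigma.ι_desc, dif_pos rfl, eqToHom_refl, Category.id_comp]
    · intro j _ hj
      rw [← Category.assoc, Sigma.ι_desc, dif_neg (Ne.symm hj), zero_comp]
    · exact fun hi => absurd (Finset.mem_univ i) hi
  let P : (∐ F).presheaf.stalk x →ₗ[X.presheaf.stalk x] ∀ j, (F j).presheaf.stalk x :=
    LinearMap.pi fun j => StalkModule.stalkMapₗ (p j) x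
  let I : (∀ j, (F j).presheaf.stalk x) →ₗ[X.presheaf.stalk x] (∐ F).presheaf.stalk x :=
    ∑ j, (StalkModule.stalkMapₗ (Sigma.ι F j) x).comp (LinearMap.proj j)
  have hPI : I.comp P = LinearMap.id := by
    have h2 := congrArg (fun φ => StalkModule.stalkMapₗ φ x) hsum
    let A : ((∐ F) ⟶ (∐ F)) →+ ((∐ F).presheaf.stalk x →ₗ[X.presheaf.stalk x]
        (∐ F).presheaf.stalk x) :=
      AddMonoidHom.mk' (fun φ => StalkModule.stalkMapₗ φ x) fun φ ψ => StalkModule.stalkMapₗ_add φ ψ x
    change A _ = _ at h2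
    rw [map_sum] at h2
    refine Eq.trans ?_ (h2.trans (StalkModule.stalkMapₗ_id x))
    refine LinearMap.ext fun v => ?_
    simp [A, I, P, StalkModule.stalkMapₗ_comp]
  haveI : Module.Finite (X.presheaf.stalk x) ((∐ F).presheaf.stalk x) :=
    Module.Finite.of_surjective I fun v => ⟨P v, LinearMap.congr_fun hPI v⟩
  haveI : Module.Projective (X.presheaf.stalk x) ((∐ F).presheaf.stalk x) :=
    Module.Projective.of_split P I hPI
  exact ⟨Module.free_of_flat_of_isLocalRing, ‹_›⟩

/-- An extension of modules free at a point is free at the point. -/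
theorem fr_extension {S : ShortComplex X.Modules} (hS : S.ShortExact) {x : X} (h₁ : Fr S.X₁ x)
    (h₃ : Fr S.X₃ x) : Fr S.X₂ x := by
  haveI := h₁.1
  haveI := h₁.2
  haveI := h₃.1
  haveI := h₃.2
  obtain ⟨hi, he, hs⟩ := CurveBundle.Rank.stalk_exact hS x
  obtain ⟨l, hl⟩ := Module.projective_lifting_property (StalkModule.stalkMapₗ S.g x)
    (LinearMap.id (M := S.X₃.presheaf.stalk x)) hs
  let Φ : (S.X₁.presheaf.stalk x × S.X₃.presheaf.stalk x) →ₗ[X.presheaf.stalk x]
      S.X₂.presheaf.stalk x := (StalkModule.stalkMapₗ S.f x).coprod l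
  have hΦ : Function.Bijective Φ := by
    refine ⟨(injective_iff_map_eq_zero Φ).2 fun v hv => ?_, fun w => ?_⟩
    · have h2 : v.2 = 0 := by
        have h := congrArg (StalkModule.stalkMapₗ S.g x) hv
        simp only [Φ, LinearMap.coprod_apply, map_add, map_zero] at h
        rw [(he _).mpr ⟨v.1, rfl⟩, zero_add] at h
        exact (LinearMap.congr_fun hl v.2).symm.trans h
      simp only [Φ, LinearMap.coprod_apply, h2, map_zero, add_zero] at hv
      exact Prod.ext (hi (hv.trans (map_zero _).symm)) h2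
    · obtain ⟨a, ha⟩ := (he (w - l (StalkModule.stalkMapₗ S.g x w))).mp (by
        rw [map_sub, sub_eq_zero]
        exact (LinearMap.congr_fun hl _).symm)
      exact ⟨(a, StalkModule.stalkMapₗ S.g x w), by simp [Φ, ha]⟩
  exact ⟨Module.Free.of_equiv (LinearEquiv.ofBijective Φ hΦ),
    Module.Finite.equiv (LinearEquiv.ofBijective Φ hΦ)⟩

end Groth.Agent.Lib.ShStab.FreeAt
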