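import Groth.Agent.Lib.ShStab.FactorMatch
import Groth.Agent.Lib.ShStab.FreeAt
import Mathlib.CategoryTheory.Abelian.Refinements

/-!
# Local freeness of the graded object passes to sub- and quotient objects
-/

set_option autoImplicit false
universe u

open CategoryTheory CategoryTheory.Limits AlgebraicGeometry Polynomial StabCat

noncomputable section

namespace Groth.Agent.Lib.ShStab.FreeFactor

open Groth.Agent.Lib SubLattice PolyOrder FreeAt FactorMatch

variable {k : Type u} [Field k] {X : Scheme.{u}} [X.Over (Spec (CommRingCat.of k))]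
  [IsProper (X ↘ Spec (CommRingCat.of k))] [AlgebraicGeometry.IsNoetherian X] {L : X.Modules}
  (hL : CohB1.IsAmple L) {d : ℕ} {x : X}

omit [IsProper (X ↘ Spec (CommRingCat.of k))] [AlgebraicGeometry.IsNoetherian X]
  [X.Over (Spec (CommRingCat.of k))] in
/-- The zero module is free at every point. -/
theorem fr_of_isZero {M : X.Modules} (h : IsZero M) : Fr M x := by
  have := (Modules.Stalk.isZero_iff_stalk_subsingleton).mp h x
  exact ⟨Module.Free.of_subsingleton _ _, inferInstance⟩

omit [IsProper (X ↘ Spec (CommRingCat.of k))] [AlgebraicGeometry.IsNoetherian X]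
  [X.Over (Spec (CommRingCat.of k))] in
/-- Factors of a filtration with graded object free near the point. -/
theorem fr_factor {E : X.Modules} {s : LTSeries (Subobject E)}
    (h : ∃ U : X.Opens, x ∈ U ∧ FlatMod.IsFinLocFree ((StabCat.grObj s).restrict U.ι))
    (i : Fin s.length) : Fr (factor s i) x := by
  obtain ⟨U, hx, hU⟩ := h
  exact fr_component (fun i : Fin s.length => factor s i) (fr_of_nhd hx hU) i

omit [IsProper (X ↘ Spec (CommRingCat.of k))] [AlgebraicGeometry.IsNoetherian X]
  [X.Over (Spec (CommRingCat.of k))] in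
/-- A filtration with free factors has free terms. -/
theorem fr_whole {E : X.Modules} {s : LTSeries (Subobject E)} (h0 : s.head = ⊥) (h1 : s.last = ⊤)
    (h : ∀ i, Fr (factor s i) x) : Fr E x := by
  have key : ∀ i : Fin (s.length + 1), Fr ((s i : Subobject E) : X.Modules) x := by
    intro i
    induction i using Fin.induction with
    | zero =>
      rw [show s 0 = ⊥ from h0]
      exact fr_of_isZero ((isZero_zero _).of_iso Subobject.botCoeIsoZero)
    | succ i ih =>
      let f := Subobject.ofLE (s i.castSucc) (s i.succ) (le_of_lt (s.step i))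
      exact fr_extension (S := ShortComplex.mk f (cokernel.π f) (cokernel.condition f))
        { exact := ShortComplex.exact_cokernel f } ih (h i)
  have h2 := key (Fin.last _)
  rw [show s (Fin.last _) = ⊤ from h1] at h2
  exact fr_of_iso (asIso (⊤ : Subobject E).arrow).symm h2

omit [IsProper (X ↘ Spec (CommRingCat.of k))] [AlgebraicGeometry.IsNoetherian X]
  [X.Over (Spec (CommRingCat.of k))] in
theorem epi_cokernel_π {A B : X.Modules} (f : A ⟶ B) : Epi (cokernel.π f) :=
  ⟨fun _ _ h => coequalizer.hom_ext h⟩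

variable {E : X.Modules}

include hL

/-- The graded object of a filtration by free factors is free near the point. -/
theorem exists_nhd_gr {G : X.Modules} {s : LTSeries (Subobject G)}
    (hs : ShStab.IsJHFiltration k X L G d s) (h : ∀ i, Fr (factor s i) x) :
    ∃ U : X.Opens, x ∈ U ∧ FlatMod.IsFinLocFree ((StabCat.grObj s).restrict U.ι) := by
  refine exists_nhd ?_ (fr_coproduct _ h)
  exact CohBasics.Closure.isCoh_of_iso
    (Sigma.whiskerEquiv Equiv.ulift fun _ => Iso.refl _)
    (CohDelta.FPApprox.Colim.isCoh_coproduct (fun i : ULift.{u} (Fin s.length) => factor s i.down)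
      fun i => (hs.2.2 i.down).1.1)

/-- Stable quotients of good submodules inherit freeness. -/
theorem fr_of_subquotient (hE : ShStab.IsSemistable k X L E d) {s : LTSeries (Subobject E)}
    (hs : ShStab.IsJHFiltration k X L E d s) (hfr : ∀ i, Fr (factor s i) x) {B H : X.Modules}
    (j : B ⟶ E) [Mono j] (hB : Coh.IsCoh B) (hBr : RedEq d (hp k L B) (hp k L E)) (p : B ⟶ H)
    [Epi p] (hH : ShStab.IsStable k X L H d) (hHr : RedEq d (hp k L H) (hp k L E)) : Fr H x := by
  obtain ⟨i, ⟨e⟩⟩ := exists_iso_factor hL hE hs j hB hBr p hH hHr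
  exact fr_of_iso e.symm (hfr i)

/-- A module with the reduced polynomial of the whole has a filtration. -/
theorem exists_jh_or_zero {G : X.Modules} (hG : IsZero G ∨ ShStab.IsSemistable k X L G d) :
    ∃ s : LTSeries (Subobject G), ShStab.IsJHFiltration k X L G d s := by
  rcases hG with hz | hss
  · have e : (⊤ : Subobject G) = ⊥ := by
      rw [← Subobject.mk_arrow (⊤ : Subobject G), Subobject.mk_eq_bot_iff_zero]
      exact hz.eq_of_tgt _ _
    exact ⟨RelSeries.singleton _ ⊥, rfl, e.symm, fun i => i.elim0⟩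
  · exact JordanHolder.exists_filtration hL hss

variable (hE : ShStab.IsSemistable k X L E d) {s : LTSeries (Subobject E)}
    (hs : ShStab.IsJHFiltration k X L E d s) (hfr : ∀ i, Fr (factor s i) x)
    {G : X.Modules} (ι : G ⟶ E) [Mono ι] (hG : Coh.IsCoh G)
    (hr : RedEq d (hp k L G) (hp k L E))

include hE hs hfr hG hr ι

/-- Factors of a good submodule. -/
theorem fr_sub {t : LTSeries (Subobject G)} (ht : ShStab.IsJHFiltration k X L G d t)
    (i : Fin t.length) : Fr (factor t i) x := by
  obtain ⟨hst, hred⟩ := ht.2.2 i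
  have hne : ¬ IsZero G := fun hz => hst.2.1 (by
    have hz' : IsZero ((t i.succ : Subobject G) : X.Modules) := IsZero.of_mono (t i.succ).arrow hz
    obtain ⟨πt, hπt⟩ : ∃ π : ((t i.succ : Subobject _) : X.Modules) ⟶ factor t i, Epi π :=
      ⟨_, epi_cokernel_π _⟩
    exact IsZero.of_epi πt hz')
  have hGss := ss_of_mono hL hE ι hG hne hr
  have aG := (Saturation.alpha_pos (k := k) hL hG hne hGss.2.2.1).ne'
  obtain ⟨πt, hπt⟩ : ∃ π : ((t i.succ : Subobject _) : X.Modules) ⟶ factor t i, Epi π :=
    ⟨_, epi_cokernel_π _⟩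
  exact fr_of_subquotient hL hE hs hfr ((t i.succ).arrow ≫ ι)
    (JordanHolder.coh_of_isJH hL hGss hG ht _) (redEq_of_pair aG (redEq_term hL hGss ht _) hr)
    πt hst
    (redEq_of_pair aG (hred _ _ (isHilbPoly_hp k hL hst.1) (isHilbPoly_hp k hL hG)) hr)

/-- Factors of a good quotient. -/
theorem fr_quot {t : LTSeries (Subobject (cokernel ι))}
    (ht : ShStab.IsJHFiltration k X L (cokernel ι) d t) (i : Fin t.length) : Fr (factor t i) x := by
  obtain ⟨hst, hred⟩ := ht.2.2 i
  rcases quot_good hL hE ι hG hr with hz | ⟨hQss, hQr⟩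
  · obtain ⟨πt, hπt⟩ : ∃ π : ((t i.succ : Subobject _) : X.Modules) ⟶ factor t i, Epi π :=
      ⟨_, epi_cokernel_π _⟩
    exact absurd (IsZero.of_epi πt (IsZero.of_mono (t i.succ).arrow hz)) hst.2.1
  have aQ := (Saturation.alpha_pos (k := k) hL hQss.1 hQss.2.1 hQss.2.2.1).ne'
  have hc := JordanHolder.coh_of_isJH hL hQss hQss.1 ht
  let S := ((t i.succ : Subobject (cokernel ι)) : X.Modules)
  let g : E ⟶ cokernel (t i.succ).arrow := cokernel.π ι ≫ cokernel.π (t i.succ).arrow
  have hC := CohBasics.Closure.isCoh_cokernel (t i.succ).arrow (hc _).1 hQss.1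
  have hB := CohBasics.Closure.isCoh_kernel g hE.1 hC.1
  have hBr : RedEq d (hp k L (kernel g)) (hp k L E) := by
    have h := hp_add k hL (S := ShortComplex.mk (kernel.ι g) g (kernel.condition g))
      { exact := ShortComplex.exact_kernel g } hB hE.1 hC
    rw [show hp k L (kernel g) = hp k L E - hp k L (cokernel (t i.succ).arrow) from
      eq_sub_of_add_eq h.symm, hp_cokernel k hL _ (hc _) hQss.1]
    exact redEq_sub (redEq_refl _) (redEq_sub hQr
      (redEq_of_pair aQ (redEq_term hL hQss ht _) hQr))
  let b : kernel g ⟶ S := Abelian.monoLift (t i.succ).arrow (kernel.ι g ≫ cokernel.π ι)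
    (by rw [Category.assoc]; exact kernel.condition g)
  have : Epi b := by
    rw [epi_iff_surjective_up_to_refinements]
    intro A y
    obtain ⟨A', π', hπ', z, hz⟩ :=
      surjective_up_to_refinements_of_epi (cokernel.π ι) (y ≫ (t i.succ).arrow)
    refine ⟨A', π', hπ', kernel.lift g z ?_, ?_⟩
    · rw [← Category.assoc z, ← hz]
      simp
    · rw [← cancel_mono (t i.succ).arrow, Category.assoc, Category.assoc, Abelian.monoLift_comp,
        ← Category.assoc (kernel.lift g z _), kernel.lift_ι, hz]
  obtain ⟨πt, hπt⟩ : ∃ π : ((t i.succ : Subobject _) : X.Modules) ⟶ factor t i, Epi π :=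
    ⟨_, epi_cokernel_π _⟩
  have : Epi (b ≫ πt) := epi_comp b πt
  exact fr_of_subquotient hL hE hs hfr (kernel.ι g) hB hBr (b ≫ πt) hst
    (redEq_of_pair aQ (hred _ _ (isHilbPoly_hp k hL hst.1) (isHilbPoly_hp k hL hQss.1)) hQr)

end Groth.Agent.Lib.ShStab.FreeFactor
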