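import Groth.Agent.Lib.ShStab.SubLattice
import Groth.Agent.Lib.ShStab.Destab
import Groth.Prelude.Def_ShStab

/-!
# Subquotients of a pure module and intervals of coherent submodules
-/

set_option autoImplicit false
universe u

open CategoryTheory CategoryTheory.Limits AlgebraicGeometry TopologicalSpace StabCat

noncomputable section

namespace Groth.Agent.Lib.ShStab.Interval

open Groth.Agent.Lib AR Abelian.SubobjectQuot PolyOrder SubLattice

variable {k : Type u} [Field k] {X : Scheme.{u}} [X.Over (Spec (CommRingCat.of k))]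
  [IsProper (X ↘ Spec (CommRingCat.of k))] [IsNoetherian X] {L : X.Modules} (hL : CohB1.IsAmple L)

include hL

omit [AlgebraicGeometry.IsNoetherian X] in
/-- The leading coefficient of a nonzero coherent module is positive. -/
theorem lc_pos {G : X.Modules} (hG : Coh.IsCoh G) (h0 : ¬ IsZero G) :
    0 < (hp k L G).leadingCoeff := by
  obtain ⟨D, hD⟩ := HilbPoly.exists_dim k hG h0
  exact (HilbPoly.spec hL hG h0 (isHilbPoly_hp k hL hG) hD).2

omit [AlgebraicGeometry.IsNoetherian X] in
theorem isZero_iff {G : X.Modules} (hG : Coh.IsCoh G) : IsZero G ↔ hp k L G = 0 := by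
  refine ⟨hp_isZero k hL, fun h => by_contra fun h0 => ?_⟩
  have := lc_pos (k := k) hL hG h0
  rw [h] at this
  simp at this

omit [AlgebraicGeometry.IsNoetherian X] in
/-- The dimension of the support is the degree. -/
theorem dim_eq {G : X.Modules} (hG : Coh.IsCoh G) (h0 : ¬ IsZero G) :
    topologicalKrullDim (CohB1.support G) = ((hp k L G).natDegree : WithBot ℕ∞) := by
  obtain ⟨D, hD⟩ := HilbPoly.exists_dim k hG h0
  rw [hD, (HilbPoly.spec hL hG h0 (isHilbPoly_hp k hL hG) hD).1]

omit [AlgebraicGeometry.IsNoetherian X] in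
theorem dim_eq_iff {G : X.Modules} (hG : Coh.IsCoh G) (h0 : ¬ IsZero G) (d : ℕ) :
    topologicalKrullDim (CohB1.support G) = (d : WithBot ℕ∞) ↔ (hp k L G).natDegree = d := by
  rw [dim_eq (k := k) hL hG h0]
  exact_mod_cast Iff.rfl

omit [AlgebraicGeometry.IsNoetherian X] in
theorem alpha_pos_of_natDegree {G : X.Modules} (hG : Coh.IsCoh G) (h0 : ¬ IsZero G) {d : ℕ}
    (h : (hp k L G).natDegree = d) : 0 < alpha d (hp k L G) :=
  alpha_pos h (lc_pos hL hG h0)

omit [AlgebraicGeometry.IsNoetherian X] in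
theorem natDegree_eq_of_alpha_pos {G : X.Modules} {d : ℕ} (hle : (hp k L G).natDegree ≤ d)
    (h : 0 < alpha d (hp k L G)) : (hp k L G).natDegree = d := by
  refine le_antisymm hle (Polynomial.le_natDegree_of_ne_zero fun hc => ?_)
  rw [alpha, hc, mul_zero] at h
  exact lt_irrefl _ h

omit [AlgebraicGeometry.IsNoetherian X] in
theorem int_val {G : X.Modules} (hG : Coh.IsCoh G) (t : ℕ) :
    ∃ z : ℤ, (hp k L G).eval (t : ℚ) = z :=
  ⟨_, (isHilbPoly_hp k hL hG t).symm⟩

variable {E : X.Modules} {hE : Coh.IsCoh E}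

/-- The quotient of two members of the lattice. -/
abbrev fac (A B : CSub hE) (h : A ≤ B) : X.Modules := cokernel (Subobject.ofLE A.1 B.1 h)

omit hL [IsProper (X ↘ Spec (CommRingCat.of k))] in
theorem isCoh_fac (A B : CSub hE) (h : A ≤ B) : Coh.IsCoh (fac A B h) :=
  CohBasics.Closure.isCoh_cokernel _ A.2.1 B.2

theorem hp_fac (A B : CSub hE) (h : A ≤ B) :
    hp k L (fac A B h) = hp k L (B.1 : X.Modules) - hp k L (A.1 : X.Modules) :=
  hp_cokernel k hL _ A.2 B.2

omit hL [IsProper (X ↘ Spec (CommRingCat.of k))] in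
theorem not_isZero_fac {A B : CSub hE} (h : A < B) : ¬ IsZero (fac A B h.le) := fun hz =>
  h.not_ge (le_of_π_eq_zero h.le (hz.eq_of_tgt _ _))

variable (k) in
/-- The valuation of the coherent submodules of a module all of whose nonzero coherent
submodules have degree at most `d`. -/
def sys (d : ℕ) (hdeg : ∀ A : CSub hE, (hp k L (A.1 : X.Modules)).natDegree ≤ d) :
    Sys (CSub hE) d where
  v A := hp k L (A.1 : X.Modules)
  modular A B := hp_modular k hL A B
  lc_pos A B h := by
    rw [← hp_fac hL A B h.le]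
    exact lc_pos hL (isCoh_fac A B h.le) (not_isZero_fac h)
  deg_le := hdeg
  intAlpha A := exists_int_alpha (hdeg A) (int_val hL A.2)
  lc_nonneg A B h := by
    rw [← hp_fac hL A B h]
    rcases h.lt_or_eq with h' | h'
    · exact (lc_pos hL (isCoh_fac A B h) (not_isZero_fac h')).le
    · subst h'
      simp [hp_fac hL A A h]

omit [AlgebraicGeometry.IsNoetherian X] in
theorem hp_bot : hp k L ((⊥ : Subobject E) : X.Modules) = 0 :=
  hp_isZero k hL (IsZero.of_mono_eq_zero _ Subobject.bot_arrow)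

omit [AlgebraicGeometry.IsNoetherian X] in
theorem hp_top (hEc : Coh.IsCoh E) : hp k L ((⊤ : Subobject E) : X.Modules) = hp k L E :=
  hp_iso k hL (asIso (⊤ : Subobject E).arrow).symm hEc

omit [AlgebraicGeometry.IsNoetherian X] in
theorem hdeg_of_pure {d : ℕ} (hp' : ShStab.IsPure X E d) (A : CSub hE) :
    (hp k L (A.1 : X.Modules)).natDegree ≤ d := by
  by_cases h0 : IsZero (A.1 : X.Modules)
  · simp [hp_isZero k hL h0]
  · exact ((dim_eq_iff hL A.2 h0 d).1 (hp' _ A.1.arrow inferInstance A.2 h0)).le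

/-- The submodule of a member over a submodule of a quotient. -/
theorem exists_preimage {A B : CSub hE} (h : A ≤ B) {G : X.Modules} (κ : G ⟶ fac A B h) [Mono κ]
    (hG : Coh.IsCoh G) : ∃ C : CSub hE, A ≤ C ∧ C ≤ B ∧
      hp k L (C.1 : X.Modules) = hp k L (A.1 : X.Modules) + hp k L G := by
  let π := cokernel.π (Subobject.ofLE A.1 B.1 h)
  let g := π ≫ cokernel.π κ
  have hQ := isCoh_fac A B h
  have hR : Coh.IsCoh (cokernel κ) := CohBasics.Closure.isCoh_cokernel κ hG.1 hQ
  have hP : Coh.IsCoh (kernel g) := CohBasics.Closure.isCoh_kernel g B.2 hR.1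
  let C : Subobject E := Subobject.mk (kernel.ι g ≫ B.1.arrow)
  have hC : Coh.IsCoh (C : X.Modules) := isCoh_iso (Subobject.underlyingIso _).symm hP
  refine ⟨⟨C, hC⟩, ?_, Subobject.mk_le_of_comm (kernel.ι g) rfl, ?_⟩
  · exact Subobject.le_mk_of_comm (kernel.lift g (Subobject.ofLE A.1 B.1 h) (by simp [g, π]))
      (by rw [kernel.lift_ι_assoc, Subobject.ofLE_arrow])
  · rw [hp_iso k hL (Subobject.underlyingIso _).symm hP]
    have h1 := hp_add k hL (S := ShortComplex.mk (kernel.ι g) g (kernel.condition g))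
      { exact := ShortComplex.exact_kernel g } hP B.2 hR
    have h2 := hp_cokernel k hL κ hG hQ
    have h3 := hp_fac (k := k) hL A B h
    change hp k L (B.1 : X.Modules) = hp k L (kernel g) + hp k L (cokernel κ) at h1
    linear_combination -h1 - h2 - h3

omit hL [IsProper (X ↘ Spec (CommRingCat.of k))] in
/-- The submodule of a quotient under an intermediate member. -/
theorem exists_mono_fac {A C B : CSub hE} (h₁ : A ≤ C) (h₂ : C ≤ B) :
    ∃ β : fac A C h₁ ⟶ fac A B (h₁.trans h₂), Mono β := by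
  let β : fac A C h₁ ⟶ fac A B (h₁.trans h₂) :=
    cokernel.map _ _ (𝟙 _) (Subobject.ofLE _ _ h₂) (by simp)
  refine ⟨β, Preadditive.mono_of_cancel_zero _ fun {P} g hg => ?_⟩
  obtain ⟨T, π', hπ', t, ht⟩ :=
    surjective_up_to_refinements_of_epi (cokernel.π (Subobject.ofLE A.1 C.1 h₁)) g
  rw [← cancel_epi π', comp_zero, ht]
  have e : ImLE (t ≫ Subobject.ofLE C.1 B.1 h₂) (Subobject.ofLE A.1 B.1 (h₁.trans h₂)) := by
    have := congrArg (fun s => π' ≫ s) hg
    simp only [comp_zero, ← Category.assoc, ht] at this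
    simpa [ImLE, β] using this
  rw [imLE_ofLE_iff, Category.assoc, Subobject.ofLE_arrow] at e
  exact (imLE_ofLE_iff h₁ t).2 e

variable {d : ℕ} (hdeg : ∀ A : CSub hE, (hp k L (A.1 : X.Modules)).natDegree ≤ d)

/-- Purity of a subquotient. -/
theorem pure_iff {A B : CSub hE} (h : A ≤ B) :
    ShStab.IsPure X (fac A B h) d ↔ (sys k hL d hdeg).Pure A B := by
  constructor
  · intro hp' C hAC hCB
    obtain ⟨β, hβ⟩ := exists_mono_fac hAC.le hCB
    have h1 := (dim_eq_iff (k := k) hL (isCoh_fac A C hAC.le) (not_isZero_fac hAC) d).1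
      (hp' _ β hβ (isCoh_fac A C hAC.le) (not_isZero_fac hAC))
    have h2 := alpha_pos_of_natDegree hL (isCoh_fac A C hAC.le) (not_isZero_fac hAC) h1
    rwa [hp_fac hL A C hAC.le] at h2
  · intro hS G κ hκ hG h0
    obtain ⟨C, hAC, hCB, hC⟩ := exists_preimage (k := k) hL h κ hG
    have hGq : hp k L G = (sys k hL d hdeg).q A C := by
      simp only [Sys0.q, sys, hC, add_sub_cancel_left]
    have hne : A ≠ C := fun e => h0 ((isZero_iff (k := k) hL hG).2 (by rw [hGq, e, Sys0.q_self]))
    rw [dim_eq_iff (k := k) hL hG h0]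
    refine natDegree_eq_of_alpha_pos hL ?_ ?_
    · rw [hGq]; exact Sys0.natDegree_q_le _ A C
    · rw [hGq]; exact hS C (lt_of_le_of_ne hAC hne) hCB

/-- Semistability of a subquotient. -/
theorem ss_iff {A B : CSub hE} (h : A ≤ B) :
    ShStab.IsSemistable k X L (fac A B h) d ↔ (sys k hL d hdeg).SS A B := by
  have hq : ∀ C : CSub hE, (sys k hL d hdeg).q A C =
      hp k L (C.1 : X.Modules) - hp k L (A.1 : X.Modules) := fun C => rfl
  constructor
  · intro ⟨_, hne, hpure, hss⟩
    have hlt : A < B := lt_of_le_of_ne h fun e => by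
      subst e
      refine hne ((IsZero.iff_id_eq_zero _).2 ?_)
      rw [← cancel_epi (cokernel.π (Subobject.ofLE A.1 A.1 h)), π_eq_zero_of_le h le_rfl,
        zero_comp, zero_comp]
    refine ⟨hlt, (pure_iff hL hdeg h).1 hpure, fun C hAC hCB => ?_⟩
    obtain ⟨β, hβ⟩ := exists_mono_fac hAC.le hCB
    by_cases hiso : IsIso β
    · haveI := hiso
      rw [hq, hq, ← hp_fac hL A C hAC.le, ← hp_fac hL A B h,
        hp_iso k hL (asIso β) (isCoh_fac A C hAC.le)]
      exact redLE_refl _ _
    · have := hss _ β hβ (isCoh_fac A C hAC.le) (not_isZero_fac hAC) hiso _ _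
        (isHilbPoly_hp k hL (isCoh_fac A C hAC.le)) (isHilbPoly_hp k hL (isCoh_fac A B h))
      rwa [hp_fac hL A C hAC.le, hp_fac hL A B h] at this
  · intro ⟨hlt, hpure, hss⟩
    refine ⟨isCoh_fac A B h, not_isZero_fac hlt, (pure_iff hL hdeg h).2 hpure, ?_⟩
    intro G κ hκ hG h0 _ pG pQ hpG hpQ
    rw [← hp_eq k L hpG, ← hp_eq k L hpQ, hp_fac hL A B h]
    obtain ⟨C, hAC, hCB, hC⟩ := exists_preimage (k := k) hL h κ hG
    have hGq : hp k L G = (sys k hL d hdeg).q A C := by rw [hq, hC, add_sub_cancel_left]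
    have hne : A ≠ C := fun e => h0 ((isZero_iff (k := k) hL hG).2 (by rw [hGq, e, Sys0.q_self]))
    rw [hGq, ← hq]
    exact hss C (lt_of_le_of_ne hAC hne) hCB

/-- Purity of the module itself. -/
theorem pure_top {d : ℕ} (hp' : ShStab.IsPure X E d) :
    (sys k hL d (hdeg_of_pure (hE := hE) hL hp')).Pure ⊥ ⊤ := by
  intro C hC _
  have hC0 : ¬ IsZero (C.1 : X.Modules) := fun hz => by
    refine hC.not_ge ?_
    have : C.1 ≤ ⊥ := by
      rw [subobject_le_iff]
      simp [ImLE, hz.eq_of_src C.1.arrow 0]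
    exact this
  have h := alpha_pos_of_natDegree (k := k) hL C.2 hC0
    ((dim_eq_iff hL C.2 hC0 d).1 (hp' _ C.1.arrow inferInstance C.2 hC0))
  show 0 < alpha d (hp k L (C.1 : X.Modules) - hp k L ((⊥ : Subobject E) : X.Modules))
  rwa [hp_bot hL, sub_zero]

end Groth.Agent.Lib.ShStab.Interval
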