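import Groth.Agent.Lib.ShStab.Basics
import Mathlib.Order.JordanHolder

/-!
# Jordan-Hölder filtrations of semistable modules
-/

set_option autoImplicit false
universe u

open CategoryTheory CategoryTheory.Limits AlgebraicGeometry TopologicalSpace StabCat

noncomputable section

namespace Groth.Agent.Lib.ShStab

open PolyOrder

namespace Sys

open Sys0

variable {L : Type*} [Lattice L] {d : ℕ} (S : Sys L d)

/-- Stability of an interval. -/
def St (a b : L) : Prop :=
  a < b ∧ S.Pure a b ∧ ∀ c, a < c → c < b → RedLT d (S.q a c) (S.q a b)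

variable [BoundedOrder L]

/-- Members with the reduced polynomial of the whole. -/
def Good (a : L) : Prop := RedEq d (S.q ⊥ a) (S.q ⊥ ⊤)

theorem good_bot : S.Good ⊥ := by simp [Good, RedEq, q_self, alpha]

theorem good_top : S.Good ⊤ := rfl

theorem redEq_q_of_good {a b : L} (ha : S.Good a) (hb : S.Good b) :
    RedEq d (S.q a b) (S.q ⊥ ⊤) := by
  unfold Good RedEq at *
  rw [← S.q_add ⊥ a b, alpha_add, smul_add, add_smul, ha] at hb
  exact add_left_cancel hb

theorem good_of_redEq {a b : L} (ha : S.Good a) (h : RedEq d (S.q a b) (S.q ⊥ ⊤)) : S.Good b := by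
  unfold Good RedEq at *
  rw [← S.q_add ⊥ a b, alpha_add, smul_add, add_smul, ha, h]

variable (hss : S.SS ⊥ ⊤)

include hss

theorem redLE_whole (a : L) : RedLE d (S.q ⊥ a) (S.q ⊥ ⊤) := by
  rcases (bot_le : ⊥ ≤ a).lt_or_eq with h | rfl
  · exact hss.2.2 a h le_top
  · exact (redEq_iff.1 S.good_bot).1

theorem good_inf_sup {a b : L} (ha : S.Good a) (hb : S.Good b) : S.Good (a ⊓ b) ∧ S.Good (a ⊔ b) := by
  have hi := S.redLE_whole hss (a ⊓ b)
  have hj := S.redLE_whole hss (a ⊔ b)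
  have hsum : S.q ⊥ (a ⊔ b) + S.q ⊥ (a ⊓ b) = S.q ⊥ a + S.q ⊥ b := by
    simp only [q]
    linear_combination S.modular a b
  have key : ∀ {A B : Polynomial ℚ}, RedLE d A (S.q ⊥ ⊤) → RedLE d B (S.q ⊥ ⊤) →
      RedEq d (A + B) (S.q ⊥ ⊤) → RedEq d A (S.q ⊥ ⊤) := by
    intro A B hA hB hAB
    refine redEq_iff.2 ⟨hA, ?_⟩
    have h2 := (redEq_iff.1 hAB).2
    obtain ⟨N, hN⟩ := hB
    obtain ⟨N', hN'⟩ := h2
    refine ⟨max N N', fun m hm => ?_⟩
    have e₁ := hN m (by omega)
    have e₂ := hN' m (by omega)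
    simp only [Polynomial.eval_smul, Polynomial.eval_add, smul_eq_mul, alpha_add] at e₁ e₂ ⊢
    linarith
  have hAB : RedEq d (S.q ⊥ (a ⊔ b) + S.q ⊥ (a ⊓ b)) (S.q ⊥ ⊤) := by
    rw [hsum]
    unfold Good RedEq at *
    rw [alpha_add, smul_add, add_smul, ha, hb]
  exact ⟨key hi hj (by rw [add_comm]; exact hAB), key hj hi hAB⟩

/-- Above a good member the multiplicity grows strictly. -/
theorem pure_of_good {a : L} (ha : S.Good a) : S.Pure a ⊤ := by
  intro c hac _
  refine lt_of_le_of_ne (S.alpha_nonneg hac.le) fun h0 => ?_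
  rcases (bot_le : ⊥ ≤ a).lt_or_eq with h | rfl
  · have hpos := hss.2.1 a h le_top
    have hlt : RedLT d (S.q ⊥ a) (S.q ⊥ c) := by
      have hl := S.lc_pos a c hac
      rw [← S.q_add ⊥ a c, RedLT, alpha_add, ← h0, add_zero, polyLT_smul_iff hpos, polyLT_iff,
        polyLE_iff, add_sub_cancel_left]
      exact ⟨hl.le, fun e => hl.ne' (by
        show (S.q a c).leadingCoeff = 0
        rw [left_eq_add.1 e]; simp)⟩
    rw [redLT_iff_not] at hlt
    refine hlt (redLE_trans (hss.2.1 c (h.trans hac) le_top) (hss.2.1 ⊤ hss.1 le_top) hpos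
      (S.redLE_whole hss c) (redEq_iff.1 ha).2)
  · exact (hss.2.1 c hac le_top).ne' h0.symm

/-- Above a good member everything is at most as steep as the whole. -/
theorem redLE_above {a c : L} (ha : S.Good a) : RedLE d (S.q a c) (S.q ⊥ ⊤) := by
  obtain ⟨N, hN⟩ := S.redLE_whole hss c
  unfold Good RedEq at ha
  refine ⟨N, fun m hm => ?_⟩
  have e := hN m hm
  have e' := congrArg (Polynomial.eval (m : ℚ)) ha
  rw [← S.q_add ⊥ a c] at e
  simp only [Polynomial.eval_smul, Polynomial.eval_add, smul_eq_mul, alpha_add] at e e' ⊢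
  linarith

variable [WellFoundedGT L]

open Classical in
/-- A stable step above a good member. -/
theorem exists_step {a : L} (ha : S.Good a) (hlt : a < ⊤) :
    ∃ b, S.Good b ∧ S.St a b := by
  have hex : ∃ m : ℕ, ∃ b, a < b ∧ S.Good b ∧ alpha d (S.q a b) = m := by
    obtain ⟨m, hm⟩ := S.exists_nat_alpha hlt.le
    exact ⟨m, ⊤, hlt, S.good_top, hm⟩
  obtain ⟨b, hab, hb, hbm⟩ := Nat.find_spec hex
  refine ⟨b, hb, hab, (S.pure_of_good hss ha).mono S.toSys0 le_top, fun c hac hcb => ?_⟩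
  have hpos : ∀ x, a < x → 0 < alpha d (S.q a x) := fun x hx => S.pure_of_good hss ha x hx le_top
  have hwhole := hss.2.1 ⊤ hss.1 le_top
  rw [redLT_iff_not]
  intro hle
  have hc : S.Good c := S.good_of_redEq ha (redEq_iff.2 ⟨S.redLE_above hss ha,
    redLE_trans hwhole (hpos b hab) (hpos c hac) (redEq_iff.1 (S.redEq_q_of_good ha hb)).2 hle⟩)
  obtain ⟨mc, hmc⟩ := S.exists_nat_alpha hac.le
  have hmin : Nat.find hex ≤ mc := Nat.find_min' hex ⟨c, hac, hc, hmc⟩
  have h2 : 0 < alpha d (S.q c b) := S.pure_of_good hss hc b hcb le_top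
  have h3 : (Nat.find hex : ℚ) ≤ mc := by exact_mod_cast hmin
  rw [← S.q_add a c b, alpha_add, hmc] at hbm
  linarith

/-- A chain of stable steps. -/
theorem exists_chain (a : L) (ha : S.Good a) : ∃ (n : ℕ) (s : ℕ → L), s 0 = a ∧ s n = ⊤ ∧
    ∀ i < n, S.St (s i) (s (i + 1)) ∧ RedEq d (S.q (s i) (s (i + 1))) (S.q ⊥ ⊤) := by
  induction a using WellFoundedGT.induction with
  | ind a ih =>
    rcases (le_top : a ≤ ⊤).lt_or_eq with h | rfl
    · obtain ⟨b, hb, hst⟩ := S.exists_step hss ha h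
      obtain ⟨n, s, h0, hn, hs⟩ := ih b hst.1 hb
      refine ⟨n + 1, fun i => match i with | 0 => a | j + 1 => s j, rfl, hn, fun i hi => ?_⟩
      cases i with
      | zero =>
        show S.St a (s 0) ∧ RedEq d (S.q a (s 0)) (S.q ⊥ ⊤)
        rw [h0]
        exact ⟨hst, S.redEq_q_of_good ha hb⟩
      | succ i => exact hs i (by omega)
    · exact ⟨0, fun _ => ⊤, rfl, rfl, fun i hi => by omega⟩

end Sys

namespace JordanHolder

open Groth.Agent.Lib SubLattice Interval Abelian.SubobjectQuot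

variable {X : Scheme.{u}} [IsNoetherian X] {E : X.Modules} {hE : Coh.IsCoh E}

instance : IsModularLattice (CSub hE) where
  sup_inf_le_assoc_of_le {x} y {z} hxz :=
    show (x.1 ⊔ y.1) ⊓ z.1 ≤ x.1 ⊔ y.1 ⊓ z.1 from
      IsModularLattice.sup_inf_le_assoc_of_le y.1 hxz

variable {k : Type u} [Field k] [X.Over (Spec (CommRingCat.of k))]
  [IsProper (X ↘ Spec (CommRingCat.of k))] {L : X.Modules} (hL : CohB1.IsAmple L) {d : ℕ}

include hL in
theorem st_iff (hdeg : ∀ A : CSub hE, (hp k L (A.1 : X.Modules)).natDegree ≤ d) {A B : CSub hE}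
    (h : A ≤ B) : ShStab.IsStable k X L (fac A B h) d ↔ (sys k hL d hdeg).St A B := by
  have hq : ∀ C : CSub hE, (sys k hL d hdeg).q A C =
      hp k L (C.1 : X.Modules) - hp k L (A.1 : X.Modules) := fun C => rfl
  constructor
  · intro hst
    have hs := (ss_iff hL hdeg h).1 (Basics.isSemistable_of_isStable hL hst)
    refine ⟨hs.1, hs.2.1, fun C hAC hCB => ?_⟩
    obtain ⟨β, hβ⟩ := exists_mono_fac hAC.le hCB.le
    have hne : ¬ IsIso β := fun hi => by
      have e := hp_iso k hL (@asIso _ _ _ _ β hi) (isCoh_fac A C hAC.le)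
      rw [hp_fac hL A C hAC.le, hp_fac hL A B (hAC.le.trans hCB.le), sub_left_inj] at e
      have h2 := (sys k hL d hdeg).lc_pos C B hCB
      change 0 < (hp k L (B.1 : X.Modules) - hp k L (C.1 : X.Modules)).leadingCoeff at h2
      rw [e, sub_self, Polynomial.leadingCoeff_zero] at h2
      exact lt_irrefl _ h2
    have := hst.2.2.2 _ β hβ (isCoh_fac A C hAC.le) (not_isZero_fac hAC) hne _ _
      (isHilbPoly_hp k hL (isCoh_fac A C hAC.le)) (isHilbPoly_hp k hL (isCoh_fac A B h))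
    rwa [hp_fac hL A C hAC.le, hp_fac hL A B h] at this
  · intro ⟨hlt, hpure, hst⟩
    refine ⟨isCoh_fac A B h, not_isZero_fac hlt, (pure_iff hL hdeg h).2 hpure, ?_⟩
    intro G κ hκ hG h0 hni pG pQ hpG hpQ
    rw [← hp_eq k L hpG, ← hp_eq k L hpQ, hp_fac hL A B h]
    obtain ⟨C, hAC, hCB, hC⟩ := exists_preimage (k := k) hL h κ hG
    have hGq : hp k L G = (sys k hL d hdeg).q A C := by rw [hq, hC, add_sub_cancel_left]
    have hne : A ≠ C := fun e => h0 ((isZero_iff (k := k) hL hG).2 (by rw [hGq, e, Sys0.q_self]))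
    have hCB' : C < B := lt_of_le_of_ne hCB fun e => hni (by
      have hz : IsZero (cokernel κ) := by
        rw [isZero_iff (k := k) hL (CohBasics.Closure.isCoh_cokernel κ hG.1 (isCoh_fac A B h)),
          hp_cokernel k hL κ hG (isCoh_fac A B h), hGq, e, hq, hp_fac hL A B h, sub_self]
      haveI := Preadditive.epi_of_isZero_cokernel κ hz
      exact isIso_of_mono_of_epi κ)
    rw [hGq, ← hq]
    exact hst C (lt_of_le_of_ne hAC hne) hCB'

variable (hss : ShStab.IsSemistable k X L E d)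

/-- The valuation. -/
abbrev S : Sys (CSub hE) d := HN.psys (k := k) (hE := hE) hL hss.2.2.1

include hL hss

theorem q_bot_top : (S (hE := hE) hL hss).q ⊥ ⊤ = hp k L E := by
  show hp k L ((⊤ : Subobject E) : X.Modules) - hp k L ((⊥ : Subobject E) : X.Modules) = _
  rw [hp_top hL hE, hp_bot hL, sub_zero]

theorem ss_whole : (S (hE := hE) hL hss).SS ⊥ ⊤ := by
  have hp' := hss.2.2.1
  refine ⟨lt_of_le_of_ne bot_le fun e => hss.2.1 ?_, pure_top hL hp', fun c hc _ => ?_⟩
  · have h := congrArg (fun C : CSub hE => hp k L (C.1 : X.Modules)) e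
    rw [isZero_iff (k := k) hL hE, ← hp_top hL hE]
    exact h.symm.trans (hp_bot hL)
  · rw [q_bot_top hL hss]
    show RedLE d (hp k L (c.1 : X.Modules) - hp k L ((⊥ : Subobject E) : X.Modules)) _
    rw [hp_bot hL, sub_zero]
    refine Basics.redLE_sub hL hss c.1.arrow c.2 fun hz => hc.not_ge ?_
    show c.1 ≤ ⊥
    rw [AR.subobject_le_iff]
    simp [AR.ImLE, hz.eq_of_src c.1.arrow 0]

theorem step_iff (s : LTSeries (Subobject E)) (hc : ∀ i, Coh.IsCoh ((s i : Subobject E) : X.Modules))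
    (i : Fin s.length) :
    (ShStab.IsStable k X L (factor s i) d ∧ ∀ p q : Polynomial ℚ,
        ShStab.IsHilbPoly k X L (factor s i) p → ShStab.IsHilbPoly k X L E q → RedEq d p q) ↔
      ((S (hE := hE) hL hss).St (HN.seqOf s hc i.val) (HN.seqOf s hc (i.val + 1)) ∧
        RedEq d ((S (hE := hE) hL hss).q (HN.seqOf s hc i.val) (HN.seqOf s hc (i.val + 1)))
          ((S (hE := hE) hL hss).q ⊥ ⊤)) := by
  have hle : HN.seqOf (hE := hE) s hc i.val ≤ HN.seqOf s hc (i.val + 1) := by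
    show (HN.seqOf (hE := hE) s hc i.val).1 ≤ (HN.seqOf (hE := hE) s hc (i.val + 1)).1
    rw [HN.seqOf_succ, HN.seqOf_castSucc]
    exact (s.step i).le
  have hst : ShStab.IsStable k X L (factor s i) d ↔
      (S (hE := hE) hL hss).St (HN.seqOf s hc i.val) (HN.seqOf s hc (i.val + 1)) := by
    have aux : ∀ {A B : CSub hE} {A' B' : Subobject E} (eA : A.1 = A') (eB : B.1 = B') (h : A' ≤ B'),
        ShStab.IsStable k X L (cokernel (Subobject.ofLE A' B' h)) d ↔
          (S (hE := hE) hL hss).St A B := by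
      intro A B A' B' eA eB h
      subst eA eB
      exact st_iff hL _ h
    exact aux (HN.seqOf_castSucc s hc i) (HN.seqOf_succ s hc i) _
  have hcf : Coh.IsCoh (factor s i) := CohBasics.Closure.isCoh_cokernel _ (hc _).1 (hc _)
  rw [hst, ← HN.hp_factor hL hss.2.2.1 s hc i, q_bot_top hL hss]
  constructor
  · exact fun h => ⟨h.1, h.2 _ _ (isHilbPoly_hp k hL hcf) (isHilbPoly_hp k hL hE)⟩
  · exact fun h => ⟨h.1, fun p q hp hq => by rw [← hp_eq k L hp, ← hp_eq k L hq]; exact h.2⟩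

omit [IsProper (X ↘ Spec (CommRingCat.of k))] in
theorem coh_of_isJH {s : LTSeries (Subobject E)} (hE' : Coh.IsCoh E)
    (h : ShStab.IsJHFiltration k X L E d s) (i : Fin (s.length + 1)) :
    Coh.IsCoh ((s i : Subobject E) : X.Modules) :=
  HN.coh_of_factors hE' s h.2.1 (fun i => (h.2.2 i).1.1) i

/-- **Existence.** -/
theorem exists_filtration : ∃ s : LTSeries (Subobject E), ShStab.IsJHFiltration k X L E d s := by
  have hw := ss_whole (hE := hss.1) hL hss
  obtain ⟨n, t, h0, hn, ht⟩ := Sys.exists_chain _ hw ⊥ (Sys.good_bot _)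
  let s := HN.seriesOf n t fun i hi => (ht i hi).1.1
  have hc : ∀ i, Coh.IsCoh ((s i : Subobject E) : X.Modules) := fun i => (t i.val).2
  refine ⟨s, congrArg Subtype.val h0, congrArg Subtype.val hn, fun i => ?_⟩
  refine (step_iff (hE := hss.1) hL hss s hc i).2 ?_
  have e : ∀ j, j ≤ n → HN.seqOf (hE := hss.1) s hc j = t j := fun j hj =>
    Subtype.ext (congrArg (fun l => (t l).1) (min_eq_left hj))
  have hi : i.val < n := i.isLt
  rw [e _ hi.le, e _ hi]
  exact ht _ hi

open Classical in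
/-- **Uniqueness.** -/
theorem graded_iso {s t : LTSeries (Subobject E)} (hs : ShStab.IsJHFiltration k X L E d s)
    (ht : ShStab.IsJHFiltration k X L E d t) :
    s.length = t.length ∧ Nonempty (grObj s ≅ grObj t) := by
  let S0 := S (hE := hss.1) hL hss
  have hw := ss_whole (hE := hss.1) hL hss
  let p : CSub hss.1 → Prop := S0.Good
  letI : Lattice {a // p a} :=
    Subtype.lattice (fun _ _ ha hb => (S0.good_inf_sup hw ha hb).2)
      (fun _ _ ha hb => (S0.good_inf_sup hw ha hb).1)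
  haveI : IsModularLattice {a // p a} :=
    ⟨fun {x} y {z} hxz => IsModularLattice.sup_inf_le_assoc_of_le (α := CSub hss.1) y.1 hxz⟩
  letI : OrderBot {a // p a} := { bot := ⟨⊥, S0.good_bot⟩, bot_le := fun a => (bot_le : ⊥ ≤ a.1) }
  have build : ∀ (r : LTSeries (Subobject E)), ShStab.IsJHFiltration k X L E d r →
      ∃ c : CompositionSeries {a // p a}, ∃ hlen : c.length = r.length,
        c.head.1 = ⊥ ∧ c.last.1 = ⊤ ∧ ∀ i, (c i).1.1 = r (Fin.cast (by rw [hlen]) i) := by
    intro r hr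
    have hc := coh_of_isJH hL hss hss.1 hr
    let g := HN.seqOf (hE := hss.1) r hc
    have hstep : ∀ i : Fin r.length, S0.St (g i.val) (g (i.val + 1)) ∧
        RedEq d (S0.q (g i.val) (g (i.val + 1))) (S0.q ⊥ ⊤) := fun i =>
      (step_iff hL hss r hc i).1 (hr.2.2 i)
    have hg : ∀ j : ℕ, j ≤ r.length → p (g j) := by
      intro j
      induction j with
      | zero =>
        intro _
        rw [show g 0 = ⊥ from Subtype.ext hr.1]
        exact S0.good_bot
      | succ j ih => exact fun hj => S0.good_of_redEq (ih (by omega)) (hstep ⟨j, hj⟩).2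
    refine ⟨{ length := r.length
              toFun := fun i => ⟨g i.val, hg _ (Nat.le_of_lt_succ i.isLt)⟩
              step := fun i => ?_ }, rfl, Subtype.ext hr.1, Subtype.ext ?_, fun i => ?_⟩
    · obtain ⟨⟨hlt, hpu, hst⟩, hred⟩ := hstep i
      refine ⟨hlt, fun c hc1 hc2 => ?_⟩
      have hlt' := hst c.1 hc1 hc2
      rw [redLT_iff_not] at hlt'
      have h1 := S0.redEq_q_of_good (hg _ i.isLt.le) c.2
      exact hlt' (redLE_trans (hpu _ hlt le_rfl) (hw.2.1 ⊤ hw.1 le_top) (hpu _ hc1 hc2.le)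
        (redEq_iff.1 hred).1 (redEq_iff.1 h1).2)
    · show r _ = ⊤
      rw [← hr.2.1]
      show r _ = r _
      congr 1
      ext
      simp
    · show r _ = r _
      congr 1
      ext
      simp [Nat.le_of_lt_succ i.isLt]
  obtain ⟨cs, hls, hs0, hsn, hscs⟩ := build s hs
  obtain ⟨ct, hlt', ht0, htn, htct⟩ := build t ht
  obtain ⟨f, hf⟩ := CompositionSeries.jordan_holder cs ct (Subtype.ext (hs0.trans ht0.symm))
    (Subtype.ext (hsn.trans htn.symm))
  let Q : {a // p a} × {a // p a} → X.Modules := fun x =>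
    if h : x.1.1.1 ≤ x.2.1.1 then quot x.1.1.1 x.2.1.1 h else E
  have hQ : ∀ (a b : {a // p a}) (h : a.1.1 ≤ b.1.1), Q (a, b) = quot a.1.1 b.1.1 h :=
    fun a b h => dif_pos h
  have quot_congr : ∀ {A A' B B' : Subobject E} (_ : A = A') (_ : B = B') (h : A ≤ B) (h' : A' ≤ B'),
      Nonempty (quot A B h ≅ quot A' B' h') := by
    intro A A' B B' eA eB h h'
    subst eA eB
    exact ⟨Iso.refl _⟩
  have hfac : ∀ i : Fin cs.length, Nonempty (factor s (Fin.cast hls i) ≅
      factor t (Fin.cast hlt' (f i))) := by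
    intro i
    obtain ⟨e⟩ := JordanHolderLattice.Iso.rel (fun x y => Nonempty (Q x ≅ Q y)) ⟨CategoryTheory.Iso.refl _⟩
      (fun ⟨e⟩ => ⟨e.symm⟩) (fun ⟨e⟩ ⟨e'⟩ => ⟨e ≪≫ e'⟩)
      (fun {x y} _ => by
        rw [hQ x (x ⊔ y) (le_sup_left : x.1.1 ≤ x.1.1 ⊔ y.1.1),
          hQ (x ⊓ y) y (inf_le_right : x.1.1 ⊓ y.1.1 ≤ y.1.1)]
        exact nonempty_second_iso x.1.1 y.1.1) (hf i)
    have h1 : (cs i.castSucc).1.1 ≤ (cs i.succ).1.1 := (cs.step i).lt.le
    have h2 : (ct (f i).castSucc).1.1 ≤ (ct (f i).succ).1.1 := (ct.step (f i)).lt.le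
    obtain ⟨a⟩ := quot_congr (hscs i.castSucc) (hscs i.succ) h1 (s.step (Fin.cast hls i)).le
    obtain ⟨b⟩ := quot_congr (htct (f i).castSucc) (htct (f i).succ) h2
      (t.step (Fin.cast hlt' (f i))).le
    exact ⟨a.symm ≪≫ eqToIso (hQ _ _ h1).symm ≪≫ e ≪≫ eqToIso (hQ _ _ h2) ≪≫ b⟩
  refine ⟨hls.symm.trans ((by simpa using Fintype.card_congr f : cs.length = ct.length).trans hlt'), ⟨?_⟩⟩
  let w : Fin s.length ≃ Fin t.length :=
    (finCongr hls.symm).trans (f.trans (finCongr hlt'))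
  refine Sigma.whiskerEquiv w fun i => ((hfac (Fin.cast hls.symm i)).some).symm

end JordanHolder

end Groth.Agent.Lib.ShStab
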