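import Groth.Agent.Lib.ShStab.Clopen

/-!
# Hilbert polynomials on a scheme of dimension one
-/

set_option autoImplicit false
set_option linter.style.haveILetI false
universe u

open CategoryTheory CategoryTheory.Limits AlgebraicGeometry StabCat

noncomputable section

namespace Groth.Agent.Lib.ShStab.Linear

open Groth.Agent.Lib SubLattice

variable {k : Type u} [Field k] {X : Scheme.{u}} [X.Over (Spec (CommRingCat.of k))]
  [IsProper (X ↘ Spec (CommRingCat.of k))] {L : X.Modules} (hL : CohB1.IsAmple L)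
  (hdim : topologicalKrullDim X ≤ 1)

include hL hdim

theorem natDegree_le {G : X.Modules} (hG : Coh.IsCoh G) : (hp k L G).natDegree ≤ 1 := by
  obtain ⟨P, hP, hle⟩ := HilbPoly.exists_hilbPoly (k := k) (Ample.Pow.isAmple_iff.1 hL).1 hG 1
    (Topology.IsInducing.subtypeVal.topologicalKrullDim_le.trans (by exact_mod_cast hdim))
  rw [hp_eq k L hP]
  exact hle

/-- The two coefficients. -/
theorem coeff_eq {G : X.Modules} (hG : Coh.IsCoh G) :
    (hp k L G).coeff 0 = (Curv2.euler k X G : ℚ) ∧
      alpha 1 (hp k L G) = (Curv2.euler k X (CohB1.tensorMod G L) : ℚ) - (Curv2.euler k X G : ℚ) := by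
  haveI := Curves.GlobalSections.isNoetherian_of_proper k X
  obtain ⟨d, hd⟩ := Snapper.DimBound.exists_dim_bound k X
  have hiso : ∀ {A B : X.Modules}, (A ≅ B) → Curv2.euler k X A = Curv2.euler k X B := fun e => by
    rw [Snapper.Chi.euler_eq_eulerCharLE hd, Snapper.Chi.euler_eq_eulerCharLE hd]
    exact Snapper.Chi.eulerCharLE_of_iso e d
  have h0 := isHilbPoly_hp k hL hG 0
  have h1 := isHilbPoly_hp k hL hG 1
  have e0 : Curv2.euler k X (ShStab.twist X L G 0) = Curv2.euler k X G := hiso (SecTwist.unitorR G)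
  have e1 : Curv2.euler k X (ShStab.twist X L G 1) = Curv2.euler k X (CohB1.tensorMod G L) :=
    hiso (TensorMod.Basic.tensorIso (Iso.refl G) (TensorMod.Basic.leftUnit L))
  rw [e0] at h0
  rw [e1] at h1
  have hev : ∀ t : ℕ, (hp k L G).eval (t : ℚ) = (hp k L G).coeff 0 + (hp k L G).coeff 1 * (t : ℚ) := by
    intro t
    conv_lhs => rw [Polynomial.eq_X_add_C_of_natDegree_le_one (natDegree_le hL hdim hG)]
    simp
    ring
  rw [hev] at h0 h1
  simp only [Nat.cast_zero, mul_zero, add_zero, Nat.cast_one, mul_one] at h0 h1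
  refine ⟨h0.symm, ?_⟩
  rw [h0, h1]
  simp [alpha]

/-- Equality of reduced polynomials through Euler characteristics. -/
theorem redEq_iff {A B : X.Modules} (hA : Coh.IsCoh A) (hB : Coh.IsCoh B) :
    RedEq 1 (hp k L A) (hp k L B) ↔
      Curv2.euler k X A * (Curv2.euler k X (CohB1.tensorMod B L) - Curv2.euler k X B) =
        Curv2.euler k X B * (Curv2.euler k X (CohB1.tensorMod A L) - Curv2.euler k X A) := by
  obtain ⟨a0, a1⟩ := coeff_eq (k := k) hL hdim hA
  obtain ⟨b0, b1⟩ := coeff_eq (k := k) hL hdim hB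
  have ha : (hp k L A).coeff 1 = alpha 1 (hp k L A) := by simp [alpha]
  have hb : (hp k L B).coeff 1 = alpha 1 (hp k L B) := by simp [alpha]
  constructor
  · intro h
    have e := congrArg (fun p : Polynomial ℚ => p.coeff 0) h
    simp only [Polynomial.coeff_smul, smul_eq_mul, a0, a1, b0, b1] at e
    rw [← @Int.cast_inj ℚ]
    push_cast
    linarith
  · intro h
    have h' : (Curv2.euler k X A : ℚ) * ((Curv2.euler k X (CohB1.tensorMod B L) : ℚ) - (Curv2.euler k X B : ℚ)) =
        (Curv2.euler k X B : ℚ) * ((Curv2.euler k X (CohB1.tensorMod A L) : ℚ) - (Curv2.euler k X A : ℚ)) := by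
      exact_mod_cast h
    refine Polynomial.ext fun n => ?_
    simp only [Polynomial.coeff_smul, smul_eq_mul]
    rcases n with _ | _ | n
    · rw [a0, a1, b0, b1]; linarith
    · rw [ha, hb]; ring
    · rw [Polynomial.coeff_eq_zero_of_natDegree_lt, Polynomial.coeff_eq_zero_of_natDegree_lt,
        mul_zero, mul_zero]
      · exact lt_of_le_of_lt (natDegree_le hL hdim hB) (by omega)
      · exact lt_of_le_of_lt (natDegree_le hL hdim hA) (by omega)

end Groth.Agent.Lib.ShStab.Linear
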