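import Groth.Agent.Lib.ShStab.Destab
import Groth.Agent.Lib.ShStab.HNHom

/-!
# The last step of a Harder-Narasimhan chain is the minimal destabilising quotient
-/

set_option autoImplicit false

open Polynomial StabCat

namespace Groth.Agent.Lib.ShStab.Sys0

open PolyOrder

variable {L : Type*} [Lattice L] [BoundedOrder L] [WellFoundedGT L] {d : ℕ} (S : Sys0 L d)

/-- Saturation of a member. -/
theorem exists_sat (h : L) : ∃ h', h ≤ h' ∧ alpha d (S.q h h') = 0 ∧ S.Pure h' ⊤ := by
  obtain ⟨C, ⟨hhC, hC⟩, hmax⟩ := (wellFounded_gt (α := L)).has_min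
    {C | h ≤ C ∧ alpha d (S.q h C) = 0} ⟨h, le_rfl, by simp [q_self, alpha]⟩
  refine ⟨C, hhC, hC, fun c hc _ => lt_of_le_of_ne (S.alpha_nonneg hc.le) fun h0 => ?_⟩
  exact hmax c ⟨hhC.trans hc.le, by rw [← S.q_add h C c, alpha_add, hC, ← h0, add_zero]⟩ hc

/-- Quotients are at least as steep as the last step, with equality only above it. -/
theorem last_dominates : ∀ (n : ℕ) (s : ℕ → L), S.IsHN (n + 1) s → ∀ g, s 0 ≤ g → g < ⊤ →
    S.Pure g ⊤ → RedLE d (S.q (s n) (s (n + 1))) (S.q g ⊤) ∧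
      (RedLE d (S.q g ⊤) (S.q (s n) (s (n + 1))) → s n ≤ g) := by
  intro n
  induction n with
  | zero =>
    intro s hs g hg hlt hp
    refine ⟨?_, fun _ => hg⟩
    obtain ⟨-, -, hss⟩ := hs.2.1 0 one_pos
    rw [hs.1] at hss ⊢
    rcases hg.lt_or_eq with h | h
    · have := hss g h le_top
      rw [← S.q_add (s 0) g ⊤] at this ⊢
      exact seesaw_le'.2 (seesaw_le.1 this)
    · rw [h]; exact redLE_refl _ _
  | succ n ih =>
    intro s hs g hg hlt hp
    by_cases h1 : s 1 ≤ g
    · exact ih (fun i => s (i + 1)) hs.tail g h1 hlt hp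
    obtain ⟨hlt0, -, hss⟩ := hs.2.1 0 (Nat.succ_pos _)
    set last := S.q (s (n + 1)) (s (n + 1 + 1)) with hlast
    have hl : 0 < alpha d last := S.alpha_step hs (by omega)
    have h0 : 0 < alpha d (S.q (s 0) (s 1)) := S.alpha_step hs (by omega)
    have hstep : RedLT d last (S.q (s 0) (s 1)) := by
      have e := hs.2.2 0 (by omega)
      rw [redLT_iff_not] at e ⊢
      refine fun h => e (redLE_trans h0 hl (S.alpha_step hs (show (1 : ℕ) < n + 1 + 1 by omega)) h ?_)
      exact S.last_le hs n 1 (by omega)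
    have hgh : g < g ⊔ s 1 := left_lt_sup.2 h1
    have hA : 0 < alpha d (S.q g (g ⊔ s 1)) := hp _ hgh le_top
    have hA' : RedLE d (S.q (s 0) (s 1)) (S.q g (g ⊔ s 1)) := by
      rw [S.q_modular]
      rcases (le_inf hg hlt0.le : s 0 ≤ g ⊓ s 1).lt_or_eq with h | h
      · have := hss _ h inf_le_right
        rw [← S.q_add (s 0) (g ⊓ s 1) (s 1)] at this ⊢
        exact seesaw_le'.2 (seesaw_le.1 this)
      · rw [← h]; exact redLE_refl _ _
    have hAl : RedLT d last (S.q g (g ⊔ s 1)) := by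
      rw [redLT_iff_not] at hstep ⊢
      exact fun h => hstep (redLE_trans h0 hA hl hA' h)
    have key : RedLT d last (S.q g ⊤) := by
      rw [← S.q_add g (g ⊔ s 1) ⊤]
      rcases (S.alpha_nonneg (le_top : g ⊔ s 1 ≤ ⊤)).lt_or_eq with hB | hB
      · obtain ⟨h', hh', hh0, hp'⟩ := S.exists_sat (g ⊔ s 1)
        have hB' : 0 < alpha d (S.q h' ⊤) := by
          rw [← S.q_add (g ⊔ s 1) h' ⊤, alpha_add, hh0, zero_add] at hB
          exact hB
        have hne : h' < ⊤ := lt_of_le_of_ne le_top fun e => by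
          rw [e, q_self] at hB'
          simp [alpha] at hB'
        obtain ⟨hle, -⟩ := ih (fun i => s (i + 1)) hs.tail h'
          ((le_sup_right : s 1 ≤ g ⊔ s 1).trans hh') hne hp'
        obtain ⟨N₁, h₁⟩ := hAl
        obtain ⟨N₂, h₂⟩ := hle
        have hlc := S.lc_nonneg (g ⊔ s 1) h' hh'
        change 0 ≤ (S.q (g ⊔ s 1) h').leadingCoeff at hlc
        rw [← sub_zero (S.q (g ⊔ s 1) h'), ← polyLE_iff] at hlc
        obtain ⟨N₃, h₃⟩ := hlc
        rw [← S.q_add (g ⊔ s 1) h' ⊤]
        refine ⟨max N₁ (max N₂ N₃), fun m hm => ?_⟩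
        have e₁ := h₁ m (by omega)
        have e₂ := h₂ m (by omega)
        have e₃ := h₃ m (by omega)
        simp only [Polynomial.eval_smul, smul_eq_mul, Polynomial.eval_add, Polynomial.eval_zero,
          alpha_add, hh0] at e₁ e₂ e₃ ⊢
        have := mul_nonneg hl.le e₃
        linarith
      · have h := S.redLE_of_alpha_eq hgh le_top hA hB.symm
        rw [← S.q_add g (g ⊔ s 1) ⊤] at h
        rw [redLT_iff_not] at hAl ⊢
        refine fun h' => hAl (redLE_trans hA ?_ hl h h')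
        rw [alpha_add, ← hB, add_zero]
        exact hA
    have hnot := (redLT_iff_not _ _).1 key
    exact ⟨(redLE_total _ _ _).resolve_right hnot, fun h => absurd h hnot⟩

end Groth.Agent.Lib.ShStab.Sys0
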