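import Groth.Agent.Lib.ShStab.HN
import Groth.Prelude.Def_W4c2simpsonmod1HP

/-!
# The Harder-Narasimhan filtration on `P^n` in terms of twists by all integers
-/

set_option autoImplicit false
universe u

open CategoryTheory CategoryTheory.Limits AlgebraicGeometry TopologicalSpace StabCat

noncomputable section

namespace Groth.Agent.Lib.ShStab.PnHN

open Groth.Agent.Lib SubLattice Interval PolyOrder HN ProjCoh.Coherent

variable {n : ℕ} {k : Type u} [Field k]

local notation "P" => CohB1.ProjSpace n k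

/-- `ψ` is the polynomial of the twists by all integers. -/
def IsPolyZ (G : (P).Modules) (ψ : Polynomial ℚ) : Prop :=
  ∀ m : ℤ, (Curv2.euler k (CohB1.ProjSpace n k) (CohB1.tensorMod G (Twist.twistProjSpace n k m)) : ℚ) = ψ.eval (m : ℚ)

theorem euler_nat (G : (P).Modules) (m : ℕ) :
    Curv2.euler k P (ShStab.twist P (tw n k 1) G m) =
      Curv2.euler k P (CohB1.tensorMod G (Twist.twistProjSpace n k (m : ℤ))) := by
  haveI := UnifReg.Step.isNoetherian_proj n k
  have hdim := (ProjSpace.Dim.topologicalKrullDim_projSpace_of_field n k).le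
  obtain ⟨j⟩ := nonempty_tensorPow_iso (n := n) (R := k) m
  rw [Snapper.Chi.euler_eq_eulerCharLE hdim, Snapper.Chi.euler_eq_eulerCharLE hdim]
  exact Snapper.Chi.eulerCharLE_of_iso (TensorMod.Basic.tensorIso (Iso.refl G) j.symm) n

theorem hp_of_isPolyZ {G : (P).Modules} {ψ : Polynomial ℚ} (h : IsPolyZ G ψ) :
    hp k (tw n k 1) G = ψ :=
  hp_eq k _ fun m => by rw [euler_nat, h (m : ℤ)]; simp

theorem isPolyZ_hp {G : (P).Modules} (hG : Coh.IsCoh G) : IsPolyZ G (hp k (tw n k 1) G) := by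
  obtain ⟨Q, hQ⟩ := HilbPoly.exists_chiPoly hG
  haveI := UnifReg.Step.isNoetherian_proj n k
  have h : IsPolyZ G Q := fun m => by
    rw [Snapper.Chi.euler_eq_eulerCharLE (ProjSpace.Dim.topologicalKrullDim_projSpace_of_field n k).le]
    exact hQ m
  rwa [hp_of_isPolyZ h]

/-- The two reduced comparisons agree. -/
theorem redLE_iff {d : ℕ} {ψ φ : Polynomial ℚ} (hψ : 0 < alpha d ψ) (hφ : 0 < alpha d φ) :
    W4c2simpsonmod1.RedLE d ψ φ ↔ StabCat.RedLE d ψ φ := by
  constructor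
  · intro ⟨N, hN⟩
    refine ⟨N.toNat, fun m hm => ?_⟩
    have h := hN (m : ℤ) (by omega)
    change (_ : ℚ) / alpha d ψ ≤ _ / alpha d φ at h
    rw [div_le_div_iff₀ hψ hφ] at h
    simp only [Polynomial.eval_smul, smul_eq_mul, Int.cast_natCast] at h ⊢
    linarith
  · intro ⟨N, hN⟩
    refine ⟨N, fun m hm => ?_⟩
    obtain ⟨m', rfl⟩ := Int.eq_ofNat_of_zero_le (show 0 ≤ m by omega)
    have h := hN m' (by exact_mod_cast hm)
    change (_ : ℚ) / alpha d ψ ≤ _ / alpha d φ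
    rw [div_le_div_iff₀ hψ hφ]
    simp only [Polynomial.eval_smul, smul_eq_mul, Int.cast_natCast] at h ⊢
    linarith

theorem redLT_iff {d : ℕ} {ψ φ : Polynomial ℚ} (hψ : 0 < alpha d ψ) (hφ : 0 < alpha d φ) :
    W4c2simpsonmod1.RedLT d ψ φ ↔ StabCat.RedLT d ψ φ := by
  constructor
  · intro ⟨N, hN⟩
    refine ⟨N.toNat, fun m hm => ?_⟩
    have h := hN (m : ℤ) (by omega)
    change (_ : ℚ) / alpha d ψ < _ / alpha d φ at h
    rw [div_lt_div_iff₀ hψ hφ] at h
    simp only [Polynomial.eval_smul, smul_eq_mul, Int.cast_natCast] at h ⊢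
    linarith
  · intro ⟨N, hN⟩
    refine ⟨N, fun m hm => ?_⟩
    obtain ⟨m', rfl⟩ := Int.eq_ofNat_of_zero_le (show 0 ≤ m by omega)
    have h := hN m' (by exact_mod_cast hm)
    change (_ : ℚ) / alpha d ψ < _ / alpha d φ
    rw [div_lt_div_iff₀ hψ hφ]
    simp only [Polynomial.eval_smul, smul_eq_mul, Int.cast_natCast] at h ⊢
    linarith

theorem hL : CohB1.IsAmple (tw n k 1) := HProj.QuasiProj.isAmple_twist_projSpace n k

/-- Pure of dimension `d`, with nonzero total. -/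
def IsPureNZ (G : (P).Modules) (d : ℕ) : Prop :=
  topologicalKrullDim ↥(CohB1.support G) = (d : WithBot ℕ∞) ∧
    ∀ (H : (P).Modules) (ι : H ⟶ G), Mono ι → Coh.IsCoh H → ¬ IsZero H →
      topologicalKrullDim ↥(CohB1.support H) = (d : WithBot ℕ∞)

theorem not_isZero_of_dim {G : (P).Modules} {d : ℕ}
    (h : topologicalKrullDim ↥(CohB1.support G) = (d : WithBot ℕ∞)) : ¬ IsZero G := by
  intro hz
  rw [Modules.Support.support_eq_empty_iff.2 hz] at h
  have : IsEmpty (IrreducibleCloseds (∅ : Set P)) :=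
    ⟨fun Z => IsEmpty.false Z.isIrreducible.nonempty.some⟩
  rw [topologicalKrullDim, Order.krullDim_eq_bot] at h
  exact WithBot.bot_ne_coe h

theorem alpha_pos_of_dim {G : (P).Modules} (hG : Coh.IsCoh G) {d : ℕ}
    (h : topologicalKrullDim ↥(CohB1.support G) = (d : WithBot ℕ∞)) :
    0 < alpha d (hp k (tw n k 1) G) :=
  haveI := UnifReg.Step.isNoetherian_proj n k
  haveI : IsProper (P ↘ Spec (CommRingCat.of k)) := ProjSpace.Basic.isProper_toSpec n k
  alpha_pos_of_natDegree hL hG (not_isZero_of_dim h)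
    ((dim_eq_iff hL hG (not_isZero_of_dim h) d).1 h)

/-- The semistability of a subquotient in the form with twists by all integers. -/
theorem ss_iff {G : (P).Modules} (hG : Coh.IsCoh G) (d : ℕ) :
    (IsPureNZ G d ∧ ∀ (H : (P).Modules) (ι : H ⟶ G), Mono ι → Coh.IsCoh H → ¬ IsZero H →
      ∀ φ ψ : Polynomial ℚ, IsPolyZ G φ → IsPolyZ H ψ → W4c2simpsonmod1.RedLE d ψ φ) ↔
      ShStab.IsSemistable k P (tw n k 1) G d := by
  haveI := UnifReg.Step.isNoetherian_proj n k
  haveI : IsProper (P ↘ Spec (CommRingCat.of k)) := ProjSpace.Basic.isProper_toSpec n k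
  constructor
  · intro ⟨⟨hd, hpure⟩, hss⟩
    refine ⟨hG, not_isZero_of_dim hd, hpure, fun H ι hι hH h0 _ pH pG hpH hpG => ?_⟩
    rw [← hp_eq k _ hpH, ← hp_eq k _ hpG]
    exact (redLE_iff (alpha_pos_of_dim hH (hpure H ι hι hH h0)) (alpha_pos_of_dim hG hd)).1
      (hss H ι hι hH h0 _ _ (isPolyZ_hp hG) (isPolyZ_hp hH))
  · intro ⟨_, hne, hpure, hss⟩
    have hd := hpure G (𝟙 G) inferInstance hG hne
    refine ⟨⟨hd, hpure⟩, fun H ι hι hH h0 φ ψ hφ hψ => ?_⟩
    rw [← hp_of_isPolyZ hφ, ← hp_of_isPolyZ hψ,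
      redLE_iff (alpha_pos_of_dim hH (hpure H ι hι hH h0)) (alpha_pos_of_dim hG hd)]
    by_cases hiso : IsIso ι
    · haveI := hiso
      rw [hp_iso k hL (asIso ι) hH]
      exact redLE_refl _ _
    · exact hss H ι hι hH h0 hiso _ _ (isHilbPoly_hp k hL hH) (isHilbPoly_hp k hL hG)

/-- The conditions on a set of submodules. -/
def IsHNSet (d : ℕ) {E : (P).Modules} (C : Finset (Subobject E)) : Prop :=
  ⊥ ∈ C ∧ ⊤ ∈ C ∧ IsChain (fun A B : Subobject E => A ≤ B) (↑C : Set (Subobject E)) ∧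
  (∀ A ∈ C, Coh.IsCoh (A : (P).Modules)) ∧
  (∀ A ∈ C, ∀ B ∈ C, ∀ hAB : A < B, (∀ D ∈ C, ¬ (A < D ∧ D < B)) →
    IsPureNZ (cokernel (Subobject.ofLE A B hAB.le)) d ∧
    (∀ (G : (P).Modules) (ι : G ⟶ (cokernel (Subobject.ofLE A B hAB.le))), Mono ι → Coh.IsCoh G →
      ¬ IsZero G → ∀ φ ψ : Polynomial ℚ, IsPolyZ (cokernel (Subobject.ofLE A B hAB.le)) φ →
        IsPolyZ G ψ → W4c2simpsonmod1.RedLE d ψ φ)) ∧
  (∀ A ∈ C, ∀ B ∈ C, ∀ B' ∈ C, ∀ hAB : A < B, ∀ hBB : B < B',
    (∀ D ∈ C, ¬ (A < D ∧ D < B)) → (∀ D ∈ C, ¬ (B < D ∧ D < B')) →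
    ∀ ψ ψ' : Polynomial ℚ, IsPolyZ (cokernel (Subobject.ofLE A B hAB.le)) ψ →
      IsPolyZ (cokernel (Subobject.ofLE B B' hBB.le)) ψ' →
      W4c2simpsonmod1.RedLT d ψ' ψ)

open Classical in
/-- **Existence and uniqueness.** -/
theorem existsUnique (d : ℕ) (E : (P).Modules) (hE : Coh.IsCoh E) (hpure : IsPureNZ E d) :
    ∃! C : Finset (Subobject E), IsHNSet d C := by
  haveI := UnifReg.Step.isNoetherian_proj n k
  haveI : IsProper (P ↘ Spec (CommRingCat.of k)) := ProjSpace.Basic.isProper_toSpec n k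
  obtain ⟨s, hs, huniq⟩ := HN.existsUnique (k := k) (d := d) (hL (n := n) (k := k)) hpure.2 hE
  have hc := coh_of_isHN hE hs
  let g : Fin (s.length + 1) → Subobject E := fun i => s i
  have hmono : StrictMono g := s.strictMono
  let C := Finset.univ.image g
  have hmem : ∀ A, A ∈ C ↔ ∃ i, g i = A := fun A => by simp [C]
  have hstep : ∀ A ∈ C, ∀ B ∈ C, A < B → (∀ D ∈ C, ¬ (A < D ∧ D < B)) →
      ∃ i : Fin s.length, A = g i.castSucc ∧ B = g i.succ := by
    intro A hA B hB hAB hno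
    obtain ⟨i, rfl⟩ := (hmem A).1 hA
    obtain ⟨j, rfl⟩ := (hmem B).1 hB
    have hij := hmono.lt_iff_lt.1 hAB
    have hi : i.val < s.length := by omega
    refine ⟨⟨i, hi⟩, rfl, congrArg g (Fin.ext ?_)⟩
    by_contra hne
    refine hno (g ⟨i + 1, by omega⟩) ((hmem _).2 ⟨_, rfl⟩)
      ⟨hmono (Fin.lt_def.2 (show i.val < i.val + 1 by omega)), hmono (Fin.lt_def.2 ?_)⟩
    simp only [Fin.val_succ] at hne ⊢
    have := Fin.lt_def.1 hij
    omega
  have hfac : ∀ i : Fin s.length, Coh.IsCoh (factor s i) := fun i => (hs.2.2.1 i).1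
  have hpos : ∀ i : Fin s.length, 0 < alpha d (hp k (tw n k 1) (factor s i)) := fun i =>
    alpha_pos_of_dim (hfac i)
      ((hs.2.2.1 i).2.2.1 _ (𝟙 _) inferInstance (hfac i) (hs.2.2.1 i).2.1)
  have hC : IsHNSet d C := by
    refine ⟨(hmem _).2 ⟨0, hs.1⟩, (hmem _).2 ⟨Fin.last _, hs.2.1⟩, ?_, ?_, ?_, ?_⟩
    · intro A hA B hB _
      obtain ⟨i, rfl⟩ := (hmem A).1 hA
      obtain ⟨j, rfl⟩ := (hmem B).1 hB
      exact (le_total i j).imp (fun h => hmono.monotone h) (fun h => hmono.monotone h)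
    · intro A hA
      obtain ⟨i, rfl⟩ := (hmem A).1 hA
      exact hc i
    · intro A hA B hB hAB hno
      obtain ⟨i, rfl, rfl⟩ := hstep A hA B hB hAB hno
      exact (ss_iff (hfac i) d).2 (hs.2.2.1 i)
    · intro A hA B hB B' hB' hAB hBB hno hno' ψ ψ' hψ hψ'
      obtain ⟨i, rfl, rfl⟩ := hstep A hA B hB hAB hno
      obtain ⟨j, hj, rfl⟩ := hstep _ hB _ hB' hBB hno'
      have hij : i.val + 1 = j.val := by
        simpa using congrArg Fin.val (hmono.injective hj)
      have e : hp k (tw n k 1) (cokernel (Subobject.ofLE (g i.succ) (g j.succ) hBB.le)) =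
          hp k (tw n k 1) (factor s j) := by
        rw [show factor s j = cokernel (Subobject.ofLE (g j.castSucc) (g j.succ) (le_of_lt (s.step j)))
          from rfl, hp_cokernel k hL _ (hc _) (hc _), hp_cokernel k hL _ (hc _) (hc _)]
        exact congrArg (fun A : Subobject E => hp k (tw n k 1) (g j.succ : (P).Modules) -
          hp k (tw n k 1) (A : (P).Modules)) hj
      rw [← hp_of_isPolyZ hψ, ← hp_of_isPolyZ hψ', e]
      refine (redLT_iff (hpos j) (hpos i)).2 ?_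
      exact hs.2.2.2 i j hij _ _ (isHilbPoly_hp k hL (hfac i)) (isHilbPoly_hp k hL (hfac j))
  refine ⟨C, hC, fun D hD => ?_⟩
  obtain ⟨hbot, htop, hchain, hcoh, hss, hdec⟩ := hD
  letI : LinearOrder {A // A ∈ D} :=
    { (Subtype.partialOrder (fun A => A ∈ D) : PartialOrder {A // A ∈ D}) with
      le_total := fun A B => by
        rcases eq_or_ne A.1 B.1 with h | h
        · exact Or.inl h.le
        · exact hchain A.2 B.2 h
      toDecidableLE := Classical.decRel _ }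
  have hcard : Fintype.card {A // A ∈ D} ≠ 0 := @Fintype.card_ne_zero {A // A ∈ D} _ ⟨⟨⊥, hbot⟩⟩
  obtain ⟨m, hm⟩ := Nat.exists_eq_succ_of_ne_zero hcard
  let e : Fin (m + 1) ≃o {A // A ∈ D} := monoEquivOfFin _ hm
  let s' : LTSeries (Subobject E) :=
    { length := m, toFun := fun i => (e i).1, step := fun i => e.strictMono Fin.castSucc_lt_succ }
  have hcov : ∀ i : Fin m, ∀ F ∈ D, ¬ ((e i.castSucc).1 < F ∧ F < (e i.succ).1) := by
    intro i F hF ⟨h1, h2⟩
    obtain ⟨l, hl⟩ := e.surjective ⟨F, hF⟩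
    have l1 : i.castSucc < l := e.lt_iff_lt.1 (by rw [hl]; exact h1)
    have l2 : l < i.succ := e.lt_iff_lt.1 (by rw [hl]; exact h2)
    simp [Fin.lt_def] at l1 l2
    omega
  have hfac' : ∀ i : Fin m, Coh.IsCoh (factor s' i) := fun i =>
    CohBasics.Closure.isCoh_cokernel _ (hcoh _ (e i.castSucc).2).1 (hcoh _ (e i.succ).2)
  have hs' : ShStab.IsHNFiltration k P (tw n k 1) E d s' := by
    refine ⟨?_, ?_, fun i => ?_, fun i j hij p q hpp hqq => ?_⟩
    · obtain ⟨l, hl⟩ := e.surjective ⟨⊥, hbot⟩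
      refine le_antisymm ?_ bot_le
      exact le_of_le_of_eq (e.monotone (Fin.zero_le l)) (congrArg Subtype.val hl)
    · obtain ⟨l, hl⟩ := e.surjective ⟨⊤, htop⟩
      refine le_antisymm le_top ?_
      exact le_of_eq_of_le (congrArg Subtype.val hl).symm (e.monotone (Fin.le_last l))
    · exact (ss_iff (hfac' i) d).1 (hss _ (e i.castSucc).2 _ (e i.succ).2 (s'.step i) (hcov i))
    · have hj : j.castSucc = i.succ := Fin.ext (by simp [hij])
      have hpi := alpha_pos_of_dim (hfac' i)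
        (hss _ (e i.castSucc).2 _ (e i.succ).2 (s'.step i) (hcov i)).1.1
      have hpj := alpha_pos_of_dim (hfac' j)
        (hss _ (e j.castSucc).2 _ (e j.succ).2 (s'.step j) (hcov j)).1.1
      rw [← hp_eq k _ hpp, ← hp_eq k _ hqq, ← redLT_iff hpj hpi]
      have hlt : (e i.succ).1 < (e j.succ).1 := hj ▸ s'.step j
      have e1 : hp k (tw n k 1) (factor s' j) =
          hp k (tw n k 1) (cokernel (Subobject.ofLE (e i.succ).1 (e j.succ).1 hlt.le)) := by
        rw [show factor s' j = cokernel (Subobject.ofLE (e j.castSucc).1 (e j.succ).1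
            (le_of_lt (s'.step j))) from rfl,
          hp_cokernel k hL _ (hcoh _ (e j.castSucc).2) (hcoh _ (e j.succ).2),
          hp_cokernel k hL _ (hcoh _ (e i.succ).2) (hcoh _ (e j.succ).2), hj]
      rw [e1]
      exact hdec _ (e i.castSucc).2 _ (e i.succ).2 _ (e j.succ).2 (s'.step i) hlt (hcov i)
        (fun F hF h => hcov j F hF (by rw [hj]; exact h)) _ _ (isPolyZ_hp (hfac' i))
        (isPolyZ_hp (CohBasics.Closure.isCoh_cokernel _ (hcoh _ (e i.succ).2).1 (hcoh _ (e j.succ).2)))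
  have := huniq s' hs'
  ext A
  rw [hmem]
  constructor
  · intro hA
    obtain ⟨l, hl⟩ := e.surjective ⟨A, hA⟩
    subst this
    exact ⟨l, congrArg Subtype.val hl⟩
  · rintro ⟨i, rfl⟩
    subst this
    exact (e i).2

end Groth.Agent.Lib.ShStab.PnHN
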