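import Groth.Agent.Lib.ShStab.MuBasics
import Groth.Agent.Lib.RefHull.Generic
import Groth.Agent.Lib.PointDim.Basic
import Groth.Agent.Lib.RefHull.Reflexive
import Groth.Agent.Lib.RefHull.Colim
import Groth.Agent.Lib.ShStab.SimpleEnd

/-!
# Injective maps of stable reflexive modules of the same slope are isomorphisms
-/

set_option autoImplicit false
universe u

open CategoryTheory CategoryTheory.Limits AlgebraicGeometry Polynomial StabCat Opposite TopologicalSpace

noncomputable section

namespace Groth.Agent.Lib.ShStab.ReflexIso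

open Groth.Agent.Lib SubLattice Interval PolyOrder

variable {k : Type u} [Field k] {X : Scheme.{u}}

/-- A point of codimension one has closure of dimension `dim X - 1`. -/
theorem dim_closure_of_codim_one [IsIntegral X] (f : X ⟶ Spec (CommRingCat.of k))
    [LocallyOfFiniteType f] {n : ℕ} (hX : topologicalKrullDim X = (n : WithBot ℕ∞)) (y : X)
    (hy : ringKrullDim (X.presheaf.stalk y) = 1) :
    ∃ m : ℕ, m + 1 = n ∧ topologicalKrullDim ↥(closure ({y} : Set X)) = (m : WithBot ℕ∞) := by
  obtain ⟨A, ι, hι, ⟨p, rfl⟩, φ, hφ, h⟩ := PointDim.Basic.exists_chart f y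
  haveI := hι
  haveI : Nonempty (Spec A) := ⟨p⟩
  haveI : AlgebraicGeometry.IsIntegral (Spec A) := isIntegral_of_isOpenImmersion ι
  haveI : IsDomain A := (affine_isIntegral_iff A).mp inferInstance
  letI : Algebra k A := φ.hom.toAlgebra
  haveI : p.asIdeal.IsPrime := PrimeSpectrum.isPrime (R := A) p
  haveI : Algebra.FiniteType k A := hφ
  have hgen : ι (genericPoint (Spec A)) = genericPoint X :=
    genericPoint_eq_of_isOpenImmersion ι
  have hbot : genericPoint (Spec A) = (⟨⊥, Ideal.isPrime_bot⟩ : PrimeSpectrum A) :=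
    genericPoint_eq_bot_of_affine A
  have h1 : PointDim.Basic.natTdeg f (ι p) = Dim.Basic.dimQ k p.asIdeal := by
    rw [PointDim.Basic.natTdeg, PointDim.Basic.tdeg_chart f ι φ hφ h p, Cardinal.toNat_natCast]
  have h2 : PointDim.Basic.natTdeg f (genericPoint X) = Dim.Basic.trdegNat k A := by
    rw [← hgen, hbot, PointDim.Basic.natTdeg, PointDim.Basic.tdeg_chart f ι φ hφ h _,
      Cardinal.toNat_natCast]
    exact Dim.Basic.dimQ_bot k
  have h3 : PointDim.Basic.natTdeg f (genericPoint X) = n := by
    have e := PointDim.Basic.topologicalKrullDim_closure_singleton f (genericPoint X)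
    rw [genericPoint_closure, IsHomeomorph.topologicalKrullDim_eq _
      (Homeomorph.Set.univ X).isHomeomorph, hX] at e
    exact_mod_cast e.symm
  have h4 : p.asIdeal.height = 1 := by
    have e : ringKrullDim ((Spec A).presheaf.stalk p) = 1 :=
      (ringKrullDim_eq_of_ringEquiv (asIso (ι.stalkMap p)).commRingCatIsoToRingEquiv).symm.trans hy
    letI : Algebra A ((Spec A).presheaf.stalk p) := StructureSheaf.stalkAlgebra A p
    haveI : IsLocalization.AtPrime ((Spec A).presheaf.stalk p) p.asIdeal :=
      StructureSheaf.IsLocalization.to_stalk A p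
    rw [IsLocalization.AtPrime.ringKrullDim_eq_height p.asIdeal ((Spec A).presheaf.stalk p)] at e
    exact_mod_cast e
  have h5 := Dim.Basic.dimQ_add_one_of_height_one k p.asIdeal h4
  exact ⟨_, by rw [← h2, h3] at h5; exact h5,
    by rw [PointDim.Basic.topologicalKrullDim_closure_singleton f, h1]⟩

/-- A monomorphism out of a reflexive module which is surjective in codimension one is an isomorphism. -/
theorem isIso_of_codim_one [IsIntegral X] [IsLocallyNoetherian X] (hN : Pi1.IsNormalScheme X)
    {F G : X.Modules} (hF : Coh.IsCoh F) (hG : Coh.IsCoh G) (hFr : RefHull.IsReflexive F)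
    (hGr : RefHull.IsReflexive G) (φ : F ⟶ G) [Mono φ]
    (hgen : Function.Surjective (RefHull.stalkMapₗ φ (genericPoint ↥X)))
    (h : ∀ y : X, ringKrullDim (X.presheaf.stalk y) = 1 →
      Function.Surjective (RefHull.stalkMapₗ φ y)) : IsIso φ := by
  have hFi := RefHull.Generic.toGen_injective_of_isReflexive hF hFr
  have hGi := RefHull.Generic.toGen_injective_of_isReflexive hG hGr
  have hinj : Function.Injective (RefHull.stalkMapₗ φ (genericPoint ↥X)) := by
    have hm : Mono ((Modules.Stalk.stalkFunctor X (genericPoint ↥X)).map φ) := inferInstance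
    exact (AddCommGrpCat.mono_iff_injective _).mp hm
  let e := LinearEquiv.ofBijective (RefHull.stalkMapₗ φ (genericPoint ↥X)) ⟨hinj, hgen⟩
  obtain ⟨ψ, hψ⟩ := RefHull.Generic.exists_hom hFi e.symm.toLinearMap fun x v =>
    RefHull.Generic.mem_range_toGen hN hF ((RefHull.Reflexive.isReflexive_iff_forall hF).mp hFr x) _
      fun y hyx hy => by
        obtain ⟨g, hg⟩ : ∃ g, RefHull.Generic.toGen G y g = RefHull.Generic.toGen G x v := by
          refine ⟨(G.presheaf.stalkSpecializes hyx).hom v, ?_⟩
          obtain ⟨U, hxU, s, rfl⟩ := TopCat.Presheaf.exists_germ_eq G.presheaf v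
          erw [TopCat.Presheaf.germ_stalkSpecializes_apply G.presheaf hxU hyx]
          rw [RefHull.Generic.toGen_germ, RefHull.Generic.toGen_germ]
        obtain ⟨w, hw⟩ := h y hy g
        exact ⟨w, e.injective (by
          refine Eq.trans ?_ (e.apply_symm_apply _).symm
          rw [← hg, ← hw, RefHull.Generic.toGen_stalkMap]
          rfl)⟩
  refine ⟨ψ, RefHull.Generic.hom_ext hFi ?_, RefHull.Generic.hom_ext hGi ?_⟩
  · refine LinearMap.ext fun v => ?_
    rw [RefHull.Colim.stalkMap_comp, SimpleEnd.stalkMapₗ_eq (𝟙 _), Modules.StalkModule.stalkMapₗ_id, hψ]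
    exact e.symm_apply_apply v
  · refine LinearMap.ext fun v => ?_
    rw [RefHull.Colim.stalkMap_comp, SimpleEnd.stalkMapₗ_eq (𝟙 _), Modules.StalkModule.stalkMapₗ_id, hψ]
    exact e.apply_symm_apply v

variable [X.Over (Spec (CommRingCat.of k))] [IsProper (X ↘ Spec (CommRingCat.of k))]
  [AlgebraicGeometry.IsNoetherian X] {L : X.Modules} (hL : CohB1.IsAmple L) {d : ℕ}

include hL

/-- Nonzero maps between stable modules of decreasing slope: injective, with small cokernel. -/
theorem mono_and_small {F G : X.Modules} (hd : 1 ≤ d) (hFp : ShStab.IsPure X F d)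
    (hGp : ShStab.IsPure X G d) (hF : ShStab.IsMuStable k X L F d) (hG : ShStab.IsMuStable k X L G d)
    (hle : hatSlope d (hp k L G) ≤ hatSlope d (hp k L F)) {φ : F ⟶ G} (hφ : φ ≠ 0) :
    Mono φ ∧ ∀ m : ℕ, d ≤ m + 1 →
      ¬ ((m : WithBot ℕ∞) ≤ topologicalKrullDim (CohB1.support (cokernel φ))) := by
  obtain ⟨hFc, hF0, _, _, hFst⟩ := hF
  obtain ⟨hGc, hG0, _, _, hGst⟩ := hG
  have hK := CohBasics.Closure.isCoh_kernel φ hFc hGc.1
  have hI := CohBasics.Closure.isCoh_image φ hFc.1 hGc
  have hI0 := Basics.not_isZero_image hφ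
  have hi := Basics.alpha_pos_of_pure (k := k) hL hGp (Abelian.image.ι φ) hI hI0
  have hg := Basics.alpha_pos_of_pure (k := k) hL hGp (𝟙 G) hGc hG0
  have hf := Basics.alpha_pos_of_pure (k := k) hL hFp (𝟙 F) hFc hF0
  have hsum := Basics.hp_kernel_image (k := k) hL φ hFc hGc
  have hQ := CohBasics.Closure.isCoh_cokernel φ hFc.1 hGc
  rw [hatSlope, hatSlope, div_le_div_iff₀ hg hf] at hle
  -- the image is at most as steep as `G`
  have hIG : alpha (d - 1) (hp k L (Abelian.image φ)) * alpha d (hp k L G) ≤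
      alpha (d - 1) (hp k L G) * alpha d (hp k L (Abelian.image φ)) := by
    rcases lt_or_ge (alpha d (hp k L (Abelian.image φ))) (alpha d (hp k L G)) with hlt | hge
    · have h1 := hGst _ (Abelian.image.ι φ) inferInstance hI _ _ (isHilbPoly_hp k hL hI)
        (isHilbPoly_hp k hL hGc) hi hlt
      rw [hatSlope, hatSlope, div_lt_div_iff₀ hi hg] at h1
      exact h1.le
    · have hss : ShStab.IsEllSemistable k X L G d 1 :=
        ⟨hGc, hG0, hGp, fun H ι hι hH pH pG hpH hpG h1 h2 =>
          (EllInterval.redLE_one_iff hd h1 (h1.trans h2)).2 (hGst H ι hι hH pH pG hpH hpG h1 h2).le⟩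
      have h1 := (EllInterval.redLE_one_iff hd hi hg).1
        (MuBasics.redLE_sub hL hss (Abelian.image.ι φ) hI hI0)
      rwa [hatSlope, hatSlope, div_le_div_iff₀ hi hg] at h1
  have hmono : Mono φ := Preadditive.mono_of_isZero_kernel _ (by_contra fun hz => by
    have hk := Basics.alpha_pos_of_pure (k := k) hL hFp (kernel.ι φ) hK hz
    have h1 := hFst _ (kernel.ι φ) inferInstance hK _ _ (isHilbPoly_hp k hL hK)
      (isHilbPoly_hp k hL hFc) hk (by rw [hsum, alpha_add]; linarith)
    rw [hatSlope, hatSlope, div_lt_div_iff₀ hk hf] at h1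
    rw [hsum, alpha_add, alpha_add] at h1 hle
    rw [hsum, alpha_add] at hf
    nlinarith [mul_le_mul_of_nonneg_left hle hi.le, mul_le_mul_of_nonneg_left hIG hf.le,
      mul_lt_mul_of_pos_left h1 hg])
  refine ⟨hmono, fun m hm hc => ?_⟩
  haveI := hmono
  have hq : hp k L (cokernel φ) = hp k L G - hp k L F := hp_cokernel k hL φ hFc hGc
  by_cases hz : IsZero (cokernel φ)
  · have hem : CohB1.support (cokernel φ) = ∅ := Set.eq_empty_iff_forall_notMem.mpr fun x hx =>
      hx ((Modules.Stalk.isZero_iff_stalk_subsingleton).mp hz x)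
    rw [hem] at hc
    haveI : IsEmpty (IrreducibleCloseds (∅ : Set X)) :=
      ⟨fun Z => Z.isIrreducible.nonempty.some.2⟩
    rw [topologicalKrullDim, Order.krullDim_eq_bot] at hc
    simp at hc
  have hdle : (hp k L (cokernel φ)).natDegree ≤ d := by
    rw [hq]
    exact (natDegree_sub_le _ _).trans (max_le (Basics.natDegree_le_of_pure (k := k) hL hGp (𝟙 G) hGc)
      (Basics.natDegree_le_of_pure (k := k) hL hFp (𝟙 F) hFc))
  rw [Interval.dim_eq (k := k) hL hQ hz] at hc
  have hmd : m ≤ (hp k L (cokernel φ)).natDegree := by exact_mod_cast hc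
  have hlc := Interval.lc_pos (k := k) hL hQ hz
  -- the ranks agree
  have haeq : alpha d (hp k L (cokernel φ)) = 0 := by
    rw [hq, alpha_sub]
    by_contra hne
    have hlt : alpha d (hp k L F) < alpha d (hp k L G) := by
      rcases (hdle.lt_or_eq) with h' | h'
      · exact absurd (by
          rw [← alpha_sub, ← hq, alpha, coeff_eq_zero_of_natDegree_lt h', mul_zero]) hne
      · have := PolyOrder.alpha_pos h' hlc
        rw [hq, alpha_sub] at this
        linarith
    have h1 := hGst _ φ hmono hFc _ _ (isHilbPoly_hp k hL hFc) (isHilbPoly_hp k hL hGc) hf hlt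
    rw [hatSlope, hatSlope, div_lt_div_iff₀ hf hg] at h1
    linarith
  have hdlt : (hp k L (cokernel φ)).natDegree < d := by
    rcases hdle.lt_or_eq with h' | h'
    · exact h'
    · exact absurd haeq (PolyOrder.alpha_pos h' hlc).ne'
  have hd1 : (hp k L (cokernel φ)).natDegree = d - 1 := by omega
  have := PolyOrder.alpha_pos hd1 hlc
  rw [hq, alpha_sub] at this
  rw [hq, alpha_sub, sub_eq_zero] at haeq
  rw [haeq] at hle
  nlinarith

/-- Nonzero maps between stable reflexive modules of decreasing slope are isomorphisms. -/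
theorem isIso [IsIntegral X] (hN : Pi1.IsNormalScheme X) (hd : 1 ≤ d)
    (hX : topologicalKrullDim X = (d : WithBot ℕ∞)) {F G : X.Modules}
    (hFr : RefHull.IsReflexive F) (hGr : RefHull.IsReflexive G) (hF : ShStab.IsMuStable k X L F d)
    (hG : ShStab.IsMuStable k X L G d) (hle : hatSlope d (hp k L G) ≤ hatSlope d (hp k L F))
    {φ : F ⟶ G} (hφ : φ ≠ 0) : IsIso φ := by
  obtain ⟨hmono, hsmall⟩ := mono_and_small hL hd
    (MuBasics.isPure_of_isTorsionFree (MuBasics.isTorsionFree_of_isReflexive hF.1 hFr) d hX)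
    (MuBasics.isPure_of_isTorsionFree (MuBasics.isTorsionFree_of_isReflexive hG.1 hGr) d hX)
    hF hG hle hφ
  haveI := hmono
  have hQ := CohBasics.Closure.isCoh_cokernel φ hF.1.1 hG.1
  haveI := hQ.1
  haveI := hQ.2
  have hc := Modules.Support.isClosed_support (cokernel φ)
  have hS : (ShortComplex.mk φ (cokernel.π φ) (cokernel.condition φ)).ShortExact :=
    { exact := ShortComplex.exact_cokernel φ }
  have key : ∀ y : X, (∃ m : ℕ, d ≤ m + 1 ∧ topologicalKrullDim ↥(closure ({y} : Set X)) = (m : WithBot ℕ∞)) →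
      Function.Surjective (RefHull.stalkMapₗ φ y) := by
    rintro y ⟨m, hm, hy⟩ v
    obtain ⟨-, hex, -⟩ := CurveBundle.Rank.stalk_exact hS y
    have hns : y ∉ CohB1.support (cokernel φ) := fun hmem => hsmall m hm
      (hy.ge.trans (Devissage.Dim.dim_closure_le hc hmem))
    have hsub : Subsingleton ((cokernel φ).presheaf.stalk y) := not_not.mp hns
    exact (hex v).1 (@Subsingleton.elim _ hsub _ _)
  refine isIso_of_codim_one hN hF.1 hG.1 hFr hGr φ (key _ ⟨d, by omega, ?_⟩) fun y hy => ?_
  · rw [genericPoint_closure, IsHomeomorph.topologicalKrullDim_eq _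
      (Homeomorph.Set.univ X).isHomeomorph, hX]
  · obtain ⟨m, hm, hy'⟩ := dim_closure_of_codim_one (X ↘ Spec (CommRingCat.of k)) hX y hy
    exact key y ⟨m, by omega, hy'⟩

end Groth.Agent.Lib.ShStab.ReflexIso
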