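import Groth.Agent.Lib.ShStab.ReflexIso
import Groth.Agent.Lib.RefHull.ExtHull
import Groth.Agent.Lib.RefHull.Tensor
import Groth.Agent.Lib.Cyc.SmoothReg
import Groth.Agent.Lib.ModelFibre.VertPic
import Groth.Agent.Lib.TensorMod.LocFree
import Groth.Agent.Lib.Ample.GG

/-!
# Small closed subsets of surfaces, ranks and twists of Hilbert polynomials
-/

set_option autoImplicit false
universe u

open CategoryTheory CategoryTheory.Limits AlgebraicGeometry Polynomial StabCat Opposite TopologicalSpace

noncomputable section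

namespace Groth.Agent.Lib.ShStab.SurfExt

open Groth.Agent.Lib SubLattice Interval PolyOrder

section Top
variable {X : Scheme.{u}}

/-- The generic point in `X` of an irreducible closed subset of a subset. -/
def gen (T : Set X) (Z : IrreducibleCloseds T) : X :=
  irreducibleSetEquivPoints (α := X) (Z.map Subtype.val continuous_subtype_val)

theorem gen_strictMono (T : Set X) : StrictMono (fun Z : IrreducibleCloseds T =>
    irreducibleSetEquivPoints (α := X) (Z.map Subtype.val continuous_subtype_val)) :=
  irreducibleSetEquivPoints.strictMono.comp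
    (IrreducibleCloseds.map_strictMono_of_isInducing Topology.IsInducing.subtypeVal)

theorem gen_mem {T : Set X} (hT : IsClosed T) (Z : IrreducibleCloseds T) : gen T Z ∈ T := by
  have h : (irreducibleSetEquivPoints.symm (gen T Z) : Set X) ⊆ T := by
    rw [gen, OrderIso.symm_apply_apply]
    exact closure_minimal (by rintro _ ⟨a, -, rfl⟩; exact a.2) hT
  exact h (subset_closure rfl)

/-- A closed subset missing the generic point has smaller dimension. -/
theorem dim_ne [IsIntegral X] {n : ℕ} (hX : topologicalKrullDim X = (n : WithBot ℕ∞)) {T : Set X}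
    (hT : IsClosed T) (hη : genericPoint X ∉ T) :
    topologicalKrullDim T ≠ (n : WithBot ℕ∞) := fun he => by
  obtain ⟨l, hl⟩ := Order.le_krullDim_iff.mp (le_of_eq he.symm)
  let top : IrreducibleCloseds X := ⟨Set.univ, IrreducibleSpace.isIrreducible_univ _, isClosed_univ⟩
  let l' := l.map (fun Z => Z.map Subtype.val continuous_subtype_val)
    (IrreducibleCloseds.map_strictMono_of_isInducing Topology.IsInducing.subtypeVal)
  have hlt : RelSeries.last l' < top := by
    refine lt_of_le_of_ne (fun a _ => trivial) fun e => hη ?_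
    have h2 : ((RelSeries.last l' : IrreducibleCloseds X) : Set X) ⊆ T :=
      closure_minimal (by rintro _ ⟨a, -, rfl⟩; exact a.2) hT
    rw [e] at h2
    exact h2 trivial
  have := Order.LTSeries.length_le_krullDim (l'.snoc top hlt)
  rw [RelSeries.snoc_length] at this
  have h2 : ((l.length + 1 : ℕ) : WithBot ℕ∞) ≤ n := this.trans hX.le
  rw [hl] at h2
  norm_cast at h2
  omega

/-- On a surface, a closed subset without points of codimension at most one is finite. -/
theorem dim_le_zero [IsLocallyNoetherian X] (hX : topologicalKrullDim X = (2 : WithBot ℕ∞)) {T : Set X}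
    (hT : IsClosed T) (h : ∀ y ∈ T, ¬ ringKrullDim (X.presheaf.stalk y) ≤ 1) :
    topologicalKrullDim T ≤ 0 := by
  refine Order.krullDim_nonpos_iff_forall_isMax.mpr fun Z Z' hle => ?_
  by_contra hne
  have hlt : Z < Z' := lt_of_le_not_ge hle hne
  have hlt' : gen T Z < gen T Z' := gen_strictMono T hlt
  have h1 := Order.coheight_strictAnti hlt'
  refine h _ (gen_mem hT Z') ?_
  have h3 := (Cyc.TorPD.ringKrullDim_stalk_le (gen T Z)).trans hX.le
  rw [ringKrullDim_stalk_eq_coheight] at h3 ⊢
  have h4 : Order.coheight (gen T Z) ≤ 2 := WithBot.coe_le_coe.mp h3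
  have h5 : Order.coheight (gen T Z') < ⊤ := by
    refine lt_of_le_of_lt (Order.coheight_anti hlt'.le) (lt_of_le_of_lt h4 ?_)
    exact ENat.natCast_lt_top 2
  have h6 : Order.coheight (gen T Z') < (2 : ℕ∞) := (h1 h5).trans_le h4
  have h7 : Order.coheight (gen T Z') ≤ 1 := ENat.lt_add_one_iff (by simp) |>.mp (by simpa [one_add_one_eq_two] using h6)
  exact_mod_cast h7

end Top

variable {k : Type u} [Field k] {X : Scheme.{u}} [X.Over (Spec (CommRingCat.of k))]
  [IsProper (X ↘ Spec (CommRingCat.of k))] [AlgebraicGeometry.IsNoetherian X] {L : X.Modules}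
  (hL : CohB1.IsAmple L)

include hL

theorem alpha_nonneg {G : X.Modules} (hG : Coh.IsCoh G) {d : ℕ} (hd : (hp k L G).natDegree ≤ d) :
    0 ≤ alpha d (hp k L G) := by
  by_cases hz : IsZero G
  · simp [alpha, hp_isZero k hL hz]
  rcases hd.lt_or_eq with h | h
  · simp [alpha, coeff_eq_zero_of_natDegree_lt h]
  · exact (alpha_pos_of_natDegree hL hG hz h).le

theorem alpha_eq_zero_of_dim_le {G : X.Modules} (hG : Coh.IsCoh G)
    (hd : topologicalKrullDim (CohB1.support G) ≤ 0) {i : ℕ} (hi : i ≠ 0) :
    alpha i (hp k L G) = 0 := by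
  by_cases hz : IsZero G
  · simp [alpha, hp_isZero k hL hz]
  rw [Interval.dim_eq (k := k) hL hG hz] at hd
  have : (hp k L G).natDegree ≤ 0 := by exact_mod_cast hd
  simp [alpha, coeff_eq_zero_of_natDegree_lt (show (hp k L G).natDegree < i by omega)]

theorem hp_tensor_pow {G : X.Modules} (hG : Coh.IsCoh G) (j : ℕ) :
    hp k L (CohB1.tensorMod G (CohB1.tensorPow L j)) = (hp k L G).comp (Polynomial.X + C (j : ℚ)) := by
  refine hp_eq k L fun m => ?_
  have hadd : ∀ a b : ℕ, Nonempty (CohB1.tensorMod (CohB1.tensorPow L a) (CohB1.tensorPow L b) ≅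
      CohB1.tensorPow L (a + b)) := by
    intro a b
    induction b with
    | zero => exact ⟨TensorMod.Basic.rightUnit _⟩
    | succ b ih =>
      obtain ⟨i⟩ := ih
      exact ⟨(TensorMod.Basic.assoc _ _ _).symm ≪≫ TensorMod.Basic.tensorIso i (Iso.refl L)⟩
  obtain ⟨i⟩ := hadd j m
  obtain ⟨d, hd⟩ := Snapper.DimBound.exists_dim_bound k X
  rw [eval_comp, eval_add, eval_X, eval_C, ← Nat.cast_add, ← isHilbPoly_hp k hL hG,
    Snapper.Chi.euler_eq_eulerCharLE hd, Snapper.Chi.euler_eq_eulerCharLE hd, Nat.add_comm m j]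
  exact congrArg _ (Snapper.Chi.eulerCharLE_of_iso
    (TensorMod.Basic.assoc _ _ _ ≪≫ TensorMod.Basic.tensorIso (Iso.refl G) i) d)

variable [IsIntegral X] (hX : topologicalKrullDim X = (2 : WithBot ℕ∞))

omit hL in
theorem isPure_of_isInvertible (hX : topologicalKrullDim X = (2 : WithBot ℕ∞)) {M : X.Modules}
    (hM : PicF.IsInvertible M) : ShStab.IsPure X M 2 :=
  MuBasics.isPure_of_isTorsionFree
    (CurveBundle.Coherent.isTorsionFree (TensorMod.LocFree.of_rank (TensorMod.LocFree.of_isInvertible hM)))
    2 hX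

include hX

theorem natDegree_le_two {G : X.Modules} (hG : Coh.IsCoh G) : (hp k L G).natDegree ≤ 2 := by
  by_cases hz : IsZero G
  · simp [hp_isZero k hL hz]
  have h : topologicalKrullDim (CohB1.support G) ≤ (2 : WithBot ℕ∞) :=
    Topology.IsInducing.subtypeVal.topologicalKrullDim_le.trans hX.le
  rw [Interval.dim_eq (k := k) hL hG hz] at h
  exact_mod_cast h

theorem natDegree_le_one {G : X.Modules} (hG : Coh.IsCoh G)
    (h : Subsingleton (G.presheaf.stalk (genericPoint X))) : (hp k L G).natDegree ≤ 1 := by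
  by_cases hz : IsZero G
  · simp [hp_isZero k hL hz]
  haveI := hG.1
  haveI := hG.2
  have hne := dim_ne hX (Modules.Support.isClosed_support G) (fun hm => hm h)
  have h2 := natDegree_le_two (k := k) hL hX hG
  rcases h2.lt_or_eq with h3 | h3
  · omega
  · exact absurd ((Interval.dim_eq_iff (k := k) hL hG hz 2).2 h3) hne

/-- A nonzero submodule of an invertible module has its multiplicity and at most its degree. -/
theorem sub_invertible {M K : X.Modules} (hM : PicF.IsInvertible M) (i : K ⟶ M) [Mono i]
    (hK : Coh.IsCoh K) (h0 : ¬ IsZero K) :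
    alpha 2 (hp k L K) = alpha 2 (hp k L M) ∧ alpha 1 (hp k L K) ≤ alpha 1 (hp k L M) ∧
      CurveBundle.Rank.grank K = 1 := by
  have hr := TensorMod.LocFree.of_isInvertible hM
  have hMc := CurveBundle.Coherent.isCoh (TensorMod.LocFree.of_rank hr)
  have hMt := CurveBundle.Coherent.isTorsionFree (TensorMod.LocFree.of_rank hr)
  have hK1 : CurveBundle.Rank.grank K = 1 := by
    refine le_antisymm ((CurveBundle.Rank.grank_le_of_mono i hMc).trans_eq
      (CurveBundle.Rank.grank_eq_of_rank hr)) (Nat.one_le_iff_ne_zero.mpr fun h => h0 ?_)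
    exact CurveBundle.Rank.isZero_of_grank_eq_zero hK (CurveBundle.Rank.isTorsionFree_of_mono i hMt) h
  have hC := CohBasics.Closure.isCoh_cokernel i hK.1 hMc
  have hadd := CurveBundle.Rank.grank_add
    (S := ShortComplex.mk i (cokernel.π i) (cokernel.condition i))
    { exact := ShortComplex.exact_cokernel i } hMc
  simp only [CurveBundle.Rank.grank_eq_of_rank hr, hK1] at hadd
  have hd := natDegree_le_one (k := k) hL hX hC
    (CurveBundle.Rank.subsingleton_of_grank_eq_zero hC (by omega))
  have h1 := alpha_nonneg (k := k) hL hC hd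
  have h2 : alpha 2 (hp k L (cokernel i)) = 0 := by
    simp [alpha, coeff_eq_zero_of_natDegree_lt (show (hp k L (cokernel i)).natDegree < 2 by omega)]
  rw [hp_cokernel k hL i hK hMc, alpha_sub] at h1 h2
  exact ⟨by linarith, by linarith, hK1⟩

end Groth.Agent.Lib.ShStab.SurfExt
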